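import Cfsg.Agent.H355.SzEven
import Cfsg.Agent.LieExceptional.SuzukiHyp

/-!
# Fixity two actions of the Suzuki groups: point stabilizers of odd order
-/

set_option autoImplicit false

namespace Cfsg.Agent.H355.SzOdd

open Cfsg Cfsg.Agent.LieExceptional Cfsg.Agent.LieExceptional.SuzukiBasic
open Cfsg.Agent.LieExceptional.SuzukiSylow MulAction Cfsg.Agent.H355.SzEven
open Cfsg.Agent.LieExceptional.SuzukiTori Cfsg.Agent.LieExceptional.SuzukiTori.Hyp

/-- every free element has a centralizer of index four in its normalizer -/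
theorem card_normalizer_eq_four {G X : Type*} [Group G] [Finite G] [MulAction G X] [Finite X] {q : ℕ}
    (H : Hyp G X q) {g₁ : G} (hg₁ : g₁ ∈ free G X) :
    Nat.card (Subgroup.normalizer ((Subgroup.centralizer ({g₁} : Set G) : Subgroup G) : Set G)) =
      4 * Nat.card (Subgroup.centralizer ({g₁} : Set G)) := by
  classical
  have hlt := H.two_mul_card_free_lt
  have hfin : (free G X).Finite := Set.toFinite _
  obtain ⟨g₂, hg₂, hg₂'⟩ := Set.not_subset.1 (H.not_cover_one hg₁)
  have hdisj : Disjoint (tset (Subgroup.centralizer ({g₁} : Set G)))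
      (tset (Subgroup.centralizer ({g₂} : Set G))) := by
    rw [Set.disjoint_left]
    intro x h1 h2
    exact hg₂' (H.mem_tset_of_inter hg₁ hg₂ h1 h2)
  have hunion : Nat.card (tset (Subgroup.centralizer ({g₁} : Set G))) +
      Nat.card (tset (Subgroup.centralizer ({g₂} : Set G))) ≤ Nat.card (free G X) := by
    rw [Nat.card_coe_set_eq, Nat.card_coe_set_eq, Nat.card_coe_set_eq, ← Set.ncard_union_eq hdisj]
    apply Set.ncard_le_ncard _ hfin
    exact Set.union_subset (H.tset_subset_free hg₁) (H.tset_subset_free hg₂)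
  obtain ⟨n₁, hn1₁, hn4₁, hn3₁, hc₁, hN₁, ht₁⟩ := H.data hg₁
  have b1 := H.card_le_five_mul hg₁
  have b2 := H.card_le_five_mul hg₂
  have hn₁ : n₁ = 4 := by
    by_contra h
    have h2 : n₁ ≤ 2 := by omega
    have := H.card_le_of_two hg₁ h2 ht₁
    omega
  rw [hN₁, hn₁]

/-- a free element does not lie in a point stabilizer of odd order of a fixity two action -/
theorem not_free {G X Ω : Type*} [Group G] [Finite G] [MulAction G X] [Finite X] {q : ℕ}
    (H : Hyp G X q) [MulAction G Ω] [Finite Ω]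
    (hfix : ∀ g : G, g ≠ 1 → Nat.card (fixedBy Ω g) ≤ 2) {α : Ω}
    (hodd : ¬ 2 ∣ Nat.card (stabilizer G α)) {g : G} (hg1 : g ≠ 1) (hgα : g • α = α) :
    g ∉ free G X := by
  classical
  intro hg
  have h4 := card_normalizer_eq_four H hg
  set C := Subgroup.centralizer ({g} : Set G) with hC
  set N := Subgroup.normalizer (C : Set G) with hN
  set Y : Set Ω := fixedBy Ω g with hY
  have hYfin : Y.Finite := Set.toFinite _
  have hYc : Y.ncard ≤ 2 := by rw [← Nat.card_coe_set_eq]; exact hfix g hg1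
  have hCα : C ≤ stabilizer G α := by
    intro c hc
    by_cases hc1 : c = 1
    · rw [hc1]; exact Subgroup.one_mem _
    have hcf := H.free_of_mem hg hc hc1
    rw [mem_stabilizer_iff]
    refine odd_smul_eq hYfin hYc (H.odd_of_free hcf) ?_ (a := α) hgα
    intro a ha
    rw [hY, mem_fixedBy, ← mul_smul, ← Subgroup.mem_centralizer_singleton_iff.1 hc, mul_smul, ha]
  have hgC : g ∈ C := Subgroup.mem_centralizer_singleton_iff.2 rfl
  have hsub : orbit N α ⊆ Y := by
    rintro _ ⟨⟨n, hn⟩, rfl⟩
    exact smul_smul_eq_of_mem_normalizer hCα hn hgC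
  have horb : (orbit N α).ncard ≤ 2 := (Set.ncard_le_ncard hsub hYfin).trans hYc
  have hos := (stabilizer N α).card_mul_index
  rw [index_stabilizer, h4] at hos
  have hpos : 0 < (orbit N α).ncard := by
    rw [Set.ncard_pos (Set.toFinite _)]
    exact ⟨α, mem_orbit_self α⟩
  have heven : 2 ∣ Nat.card (stabilizer N α) := by
    have h1 : (orbit N α).ncard = 1 ∨ (orbit N α).ncard = 2 := by omega
    rcases h1 with h1 | h1
    · rw [h1, mul_one] at hos
      rw [hos]
      exact ⟨2 * Nat.card C, by ring⟩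
    · rw [h1] at hos
      have : Nat.card (stabilizer N α) = 2 * Nat.card C := by omega
      rw [this]
      exact dvd_mul_right _ _
  have : Fact (Nat.Prime 2) := ⟨Nat.prime_two⟩
  obtain ⟨t, ht⟩ := exists_prime_orderOf_dvd_card' 2 heven
  apply hodd
  have h5 : orderOf ((t : N) : G) = 2 := by
    rw [Subgroup.orderOf_coe, Subgroup.orderOf_coe, ht]
  have h6 : ((t : N) : G) ∈ stabilizer G α := t.2
  have h7 : orderOf (⟨((t : N) : G), h6⟩ : stabilizer G α) = 2 := by
    rw [← Subgroup.orderOf_coe]; exact h5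
  rw [← h7]
  exact orderOf_dvd_natCard _

/-- an element of odd order with a fixed point has exactly two -/
theorem card_fixedBy_eq_two {G X : Type*} [Group G] [Finite G] [MulAction G X] [Finite X] {q : ℕ}
    (H : Hyp G X q) {g : G} (hg1 : g ≠ 1) (hodd : Odd (orderOf g)) (hnf : g ∉ free G X) :
    Nat.card (fixedBy X g) = 2 := by
  classical
  have h1 : 1 ≤ Nat.card (fixedBy X g) := Nat.one_le_iff_ne_zero.2 hnf
  have h2 := H.three g hg1
  by_contra hne
  have h3 : Nat.card (fixedBy X g) = 1 := by omega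
  obtain ⟨p, hp, hpg⟩ := Nat.exists_prime_and_dvd (fun h => hg1 (orderOf_eq_one_iff.1 h))
  obtain ⟨k, hk⟩ := hpg
  have hpos : 0 < orderOf g := orderOf_pos g
  have hk0 : k ≠ 0 := by rintro rfl; omega
  set h := g ^ k with hh
  have hord : orderOf h = p := by
    rw [hh, orderOf_pow_of_dvd hk0 ⟨p, by rw [hk, mul_comm]⟩, hk,
      Nat.mul_div_cancel _ (Nat.pos_of_ne_zero hk0)]
  have hp2 : p ≠ 2 := by
    rintro rfl
    rw [hk] at hodd
    exact (Nat.not_even_iff_odd.2 hodd) (even_iff_two_dvd.2 (dvd_mul_right _ _))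
  have hh1 : h ≠ 1 := by
    intro h1
    rw [h1, orderOf_one] at hord
    exact hp.one_lt.ne hord
  have hmod := card_modEq_fixedBy (Ω := X) hp (h := h) (by rw [← hord, pow_orderOf_eq_one])
  rw [H.card_set] at hmod
  obtain ⟨x, hx⟩ := Set.ncard_eq_one.1 (by rw [← Nat.card_coe_set_eq]; exact h3)
  have hxg : g • x = x := by
    have : x ∈ fixedBy X g := by rw [hx]; rfl
    exact this
  have hxh : h • x = x := (stabilizer G x).pow_mem hxg k
  have hle := H.three h hh1
  have hhc : Nat.card (fixedBy X h) = 1 ∨ Nat.card (fixedBy X h) = 2 := by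
    have : 1 ≤ Nat.card (fixedBy X h) := by
      rw [Nat.card_coe_set_eq]
      exact (Set.ncard_pos (Set.toFinite _)).2 ⟨x, hxh⟩
    omega
  rcases hhc with hhc | hhc
  · rw [hhc] at hmod
    have h5 : p ∣ q ^ 2 := by
      have := (Nat.modEq_iff_dvd' (by omega)).1 hmod.symm
      simpa using this
    have h6 : p ∣ q := hp.dvd_of_dvd_pow h5
    obtain ⟨m, -, hq⟩ := H.q_eq
    rw [hq] at h6
    exact hp2 ((Nat.prime_dvd_prime_iff_eq hp Nat.prime_two).1 (hp.dvd_of_dvd_pow h6))
  · obtain ⟨a, b, hab, hY⟩ := Set.ncard_eq_two.1 (by rw [← Nat.card_coe_set_eq]; exact hhc)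
    have hYc : (fixedBy X h).ncard ≤ 2 := by rw [← Nat.card_coe_set_eq]; omega
    have hcomm : ∀ a ∈ fixedBy X h, g • a ∈ fixedBy X h := by
      intro a ha
      have : h * g = g * h := by rw [hh]; exact ((Commute.refl g).pow_left k).eq
      rw [mem_fixedBy, ← mul_smul, this, mul_smul, ha]
    have hall : ∀ a ∈ fixedBy X h, g • a = a := fun a ha =>
      odd_smul_eq (Set.toFinite _) hYc hodd hcomm ha
    have hsub : fixedBy X h ⊆ fixedBy X g := hall
    have := Set.ncard_le_ncard hsub (Set.toFinite _)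
    rw [← Nat.card_coe_set_eq, ← Nat.card_coe_set_eq] at this
    omega

end Cfsg.Agent.H355.SzOdd
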