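import Mathlib

set_option autoImplicit false

namespace Cfsg.Agent.H355

open MulAction

/-- A `p`-subgroup meeting a point stabilizer in a subgroup whose normalizer (within the `p`-group)
fixes the point is itself in the point stabilizer. -/
theorem le_stabilizer_of_normalizer {G : Type*} [Group G] [Finite G] {Ω : Type*} [MulAction G Ω]
    {p : ℕ} [Fact p.Prime] {S : Subgroup G} (hS : IsPGroup p S) (α : Ω)
    (h : ∀ x ∈ S, x ∈ Subgroup.normalizer ((S ⊓ stabilizer G α : Subgroup G) : Set G) →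
      x • α = α) :
    S ≤ stabilizer G α := by
  classical
  by_contra hcon
  set D : Subgroup S := (stabilizer G α).subgroupOf S with hD
  have hlt : D < ⊤ := by
    rw [lt_top_iff_ne_top]
    intro htop
    apply hcon
    rw [hD, Subgroup.subgroupOf_eq_top] at htop
    exact htop
  have hnil : Group.IsNilpotent S := hS.isNilpotent
  have hnc := Group.normalizerCondition_of_isNilpotent (G := S) D hlt
  obtain ⟨x, hxN, hxD⟩ := Set.exists_of_ssubset hnc
  apply hxD
  have hx : (x : G) • α = α := by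
    apply h x x.2
    rw [Subgroup.mem_normalizer_iff]
    intro y
    constructor
    · intro hy
      have hyD : (⟨y, hy.1⟩ : S) ∈ D := by
        rw [hD, Subgroup.mem_subgroupOf]
        exact hy.2
      have h1 := (Subgroup.mem_normalizer_iff.1 hxN ⟨y, hy.1⟩).1 hyD
      refine ⟨?_, ?_⟩
      · exact S.mul_mem (S.mul_mem x.2 hy.1) (S.inv_mem x.2)
      · exact h1
    · intro hy
      have hyS : y ∈ S := by
        have h2 := S.mul_mem (S.mul_mem (S.inv_mem x.2) hy.1) x.2
        have h3 : (x : G)⁻¹ * (↑x * y * (↑x)⁻¹) * ↑x = y := by group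
        rwa [h3] at h2
      have hyD : x * (⟨y, hyS⟩ : S) * x⁻¹ ∈ D := by
        rw [hD, Subgroup.mem_subgroupOf]
        exact hy.2
      have h1 := (Subgroup.mem_normalizer_iff.1 hxN ⟨y, hyS⟩).2 hyD
      exact ⟨hyS, h1⟩
  show x ∈ D
  rw [hD, Subgroup.mem_subgroupOf, mem_stabilizer_iff]
  exact hx

/-- An element of `p`-power order all of whose powers keep `α` in a set of fewer than `p` points
fixes `α`. -/
theorem smul_eq_of_card_lt {G : Type*} [Group G] [Finite G] {Ω : Type*} [Finite Ω] [MulAction G Ω]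
    {p : ℕ} [Fact p.Prime] {x : G} {k : ℕ} (hx : ∃ k, orderOf x = p ^ k) (α : Ω) (A : Set Ω)
    (hA : ∀ n : ℤ, x ^ n • α ∈ A) (hcard : A.ncard ≤ k) (hk : k < p) : x • α = α := by
  classical
  have hp : IsPGroup p (Subgroup.zpowers x) := by
    obtain ⟨m, hm⟩ := hx
    apply IsPGroup.of_card (n := m)
    rw [Nat.card_zpowers, hm]
  obtain ⟨n, hn⟩ := hp.card_orbit α
  have hsub : orbit (Subgroup.zpowers x) α ⊆ A := by
    rintro _ ⟨⟨y, hy⟩, rfl⟩
    obtain ⟨m, rfl⟩ := Subgroup.mem_zpowers_iff.1 hy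
    exact hA m
  have hle : (orbit (Subgroup.zpowers x) α).ncard ≤ k :=
    (Set.ncard_le_ncard hsub (Set.toFinite _)).trans hcard
  rw [Nat.card_coe_set_eq] at hn
  rw [hn] at hle
  have hn0 : n = 0 := by
    by_contra hne
    have : p ^ 1 ≤ p ^ n := Nat.pow_le_pow_right (Fact.out (p := p.Prime)).pos
      (Nat.one_le_iff_ne_zero.2 hne)
    rw [pow_one] at this
    omega
  rw [hn0, pow_zero, Set.ncard_eq_one] at hn
  obtain ⟨a, ha⟩ := hn
  have h1 : α ∈ orbit (Subgroup.zpowers x) α := mem_orbit_self α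
  have h2 : x • α ∈ orbit (Subgroup.zpowers x) α := ⟨⟨x, Subgroup.mem_zpowers x⟩, rfl⟩
  rw [ha, Set.mem_singleton_iff] at h1 h2
  rw [h2, ← h1]

/-- The normalizer of a subgroup of the stabilizer of `α` moves `α` to points fixed by
that subgroup. -/
theorem smul_smul_eq_of_mem_normalizer {G : Type*} [Group G] {Ω : Type*} [MulAction G Ω]
    {D : Subgroup G} {α : Ω} (hD : D ≤ stabilizer G α) {x : G}
    (hx : x ∈ Subgroup.normalizer (D : Set G)) {g : G} (hg : g ∈ D) : g • x • α = x • α := by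
  have h1 : x⁻¹ * g * x ∈ D := by
    have := (Subgroup.mem_normalizer_iff.1 (Subgroup.inv_mem _ hx) g).1 hg
    rwa [inv_inv] at this
  have h2 : (x⁻¹ * g * x) • α = α := hD h1
  have h3 : g • x • α = x • (x⁻¹ * g * x) • α := by
    simp only [← mul_smul]
    congr 1
    group
  rw [h3, h2]

/-- With fixity at most `k < p`, a `p`-subgroup meeting a point stabilizer nontrivially lies
in the point stabilizer. -/
theorem le_stabilizer_of_lt {G : Type*} [Group G] [Finite G] {Ω : Type*} [Finite Ω] [MulAction G Ω]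
    {k : ℕ} (hfix : ∀ g : G, g ≠ 1 → Nat.card (MulAction.fixedBy Ω g) ≤ k)
    {p : ℕ} [Fact p.Prime] (hk : k < p) {S : Subgroup G} (hS : IsPGroup p S) (α : Ω)
    (g : G) (hgS : g ∈ S) (hgα : g • α = α) (hg : g ≠ 1) : S ≤ stabilizer G α := by
  classical
  apply le_stabilizer_of_normalizer hS α
  intro x hxS hx
  have hxo : ∃ k, orderOf x = p ^ k := by
    obtain ⟨m, hm⟩ := (IsPGroup.iff_orderOf.1 hS) ⟨x, hxS⟩
    exact ⟨m, by rw [← hm, ← Subgroup.orderOf_coe]⟩
  apply smul_eq_of_card_lt (p := p) (k := k) hxo α (fixedBy Ω g) _ _ hk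
  · intro n
    rw [mem_fixedBy]
    exact smul_smul_eq_of_mem_normalizer (D := S ⊓ stabilizer G α) inf_le_right
      (Subgroup.zpow_mem _ hx n) ⟨hgS, hgα⟩
  · rw [← Nat.card_coe_set_eq]
    exact hfix g hg

theorem not_dvd_index_stabilizer {G : Type*} [Group G] [Finite G] {Ω : Type*} [Finite Ω]
    [MulAction G Ω] {k : ℕ} (hfix : ∀ g : G, g ≠ 1 → Nat.card (MulAction.fixedBy Ω g) ≤ k)
    {p : ℕ} (hp : p.Prime) (hk : k < p) (α : Ω) (hdvd : p ∣ Nat.card (stabilizer G α)) :
    ¬ p ∣ (stabilizer G α).index := by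
  classical
  have : Fact p.Prime := ⟨hp⟩
  obtain ⟨g, hg⟩ := exists_prime_orderOf_dvd_card' p hdvd
  have hg1 : (g : G) ≠ 1 := by
    intro h
    have : g = 1 := Subtype.ext h
    rw [this, orderOf_one] at hg
    exact hp.one_lt.ne hg
  have hgp : IsPGroup p (Subgroup.zpowers (g : G)) := by
    apply IsPGroup.of_card (n := 1)
    rw [Nat.card_zpowers, Subgroup.orderOf_coe, hg, pow_one]
  obtain ⟨S, hS⟩ := hgp.exists_le_sylow
  have hle := le_stabilizer_of_lt hfix hk S.2 α (g : G) (hS (Subgroup.mem_zpowers _)) g.2 hg1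
  intro hdi
  have h1 : ¬ p ∣ (S : Subgroup G).index := S.not_dvd_index
  exact h1 (hdi.trans (Subgroup.index_dvd_of_le hle))

/-- A free action of a finite group has degree divisible by the order of the group. -/
theorem card_dvd_of_free {Z : Type*} [Group Z] [Finite Z] {X : Type*} [Finite X] [MulAction Z X]
    (hfree : ∀ a : X, stabilizer Z a = ⊥) : Nat.card Z ∣ Nat.card X := by
  classical
  have e := selfEquivSigmaOrbitsQuotientStabilizer Z X
  have : Fintype (Quotient (orbitRel Z X)) := Fintype.ofFinite _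
  rw [Nat.card_congr e, Nat.card_sigma]
  apply Finset.dvd_sum
  intro i _
  rw [hfree, ← Subgroup.index, Subgroup.index_bot]

/-- Two commuting-stable: the centre of a transitive faithful group acts freely. -/
theorem eq_one_of_center {G : Type*} [Group G] {Ω : Type*} [MulAction G Ω]
    [FaithfulSMul G Ω] (htr : IsPretransitive G Ω) {z : G} (hz : z ∈ Subgroup.center G)
    (a : Ω) (hza : z • a = a) : z = 1 := by
  apply FaithfulSMul.eq_of_smul_eq_smul (α := Ω)
  intro b
  obtain ⟨x, rfl⟩ := exists_smul_eq G (a : Ω) b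
  rw [← mul_smul, ← (Subgroup.mem_center_iff.1 hz x), mul_smul, hza, one_smul]

theorem card_center_dvd {G : Type*} [Group G] [Finite G] {Ω : Type*} [Finite Ω] [MulAction G Ω]
    [FaithfulSMul G Ω] (htr : IsPretransitive G Ω) (g : G) :
    Nat.card (Subgroup.center G) ∣ Nat.card (fixedBy Ω g) := by
  classical
  -- the centre acts freely on the fixed points of `g`
  let Z := Subgroup.center G
  let _ : MulAction Z (fixedBy Ω g) :=
    { smul := fun z a => ⟨(z : G) • (a : Ω), by
        rw [mem_fixedBy, ← mul_smul, (Subgroup.mem_center_iff.1 z.2 g), mul_smul, a.2]⟩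
      one_smul := fun a => Subtype.ext (one_smul G (a : Ω))
      mul_smul := fun x y a => Subtype.ext (mul_smul (x : G) (y : G) (a : Ω)) }
  have hfree : ∀ a : fixedBy Ω g, stabilizer Z a = ⊥ := by
    intro a
    rw [eq_bot_iff]
    intro z hz
    have hz1 : (z : G) • (a : Ω) = a := congrArg Subtype.val (mem_stabilizer_iff.1 hz)
    exact Subtype.ext (eq_one_of_center htr z.2 a hz1)
  exact card_dvd_of_free hfree

/-- If the Sylow `p`-subgroup `S` of a transitive group fixes `α` and `β` then its normalizer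
moves `α` to `β`. -/
theorem exists_normalizer_smul_eq {G : Type*} [Group G] [Finite G] {Ω : Type*} [MulAction G Ω]
    (htr : IsPretransitive G Ω) {p : ℕ} [Fact p.Prime] (S : Sylow p G) {α β : Ω}
    (hα : (S : Subgroup G) ≤ stabilizer G α) (hβ : (S : Subgroup G) ≤ stabilizer G β) :
    ∃ y ∈ Subgroup.normalizer ((S : Subgroup G) : Set G), y • α = β := by
  classical
  obtain ⟨x, hx⟩ := exists_smul_eq G α β
  have h2 : ((x⁻¹ • S : Sylow p G) : Subgroup G) ≤ stabilizer G α := by
    intro z hz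
    rw [Sylow.coe_subgroup_smul] at hz
    obtain ⟨w, hw, rfl⟩ := hz
    have hwβ : w • β = β := hβ hw
    rw [mem_stabilizer_iff]
    show (x⁻¹ * w * x⁻¹⁻¹) • α = α
    rw [inv_inv, mul_smul, mul_smul, hx, hwβ, inv_smul_eq_iff, hx]
  obtain ⟨h, hh⟩ := exists_smul_eq (stabilizer G α) (S.subtype hα) ((x⁻¹ • S).subtype h2)
  rw [Sylow.smul_subtype hα h] at hh
  have hh2 := Sylow.subtype_injective hh
  have hh3 : (h : G) • S = x⁻¹ • S := hh2
  have hh4 : (x * (h : G)) • S = S := by
    rw [mul_smul, hh3, smul_inv_smul]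
  refine ⟨x * h, Sylow.smul_eq_iff_mem_normalizer.1 hh4, ?_⟩
  rw [mul_smul, h.2, hx]

/-- An element of odd order whose powers keep `α` in a two-element set fixes `α`. -/
theorem smul_eq_of_odd {G : Type*} [Group G] [Finite G] {Ω : Type*} [MulAction G Ω]
    {y : G} (hy : Odd (orderOf y)) {α β : Ω} (hA : ∀ n : ℤ, y ^ n • α = α ∨ y ^ n • α = β) :
    y • α = α := by
  by_contra hne
  have h1 : y • α = β := by
    have := hA 1
    rw [zpow_one] at this
    exact this.resolve_left hne
  have h2 : (y ^ 2) • α = α := by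
    have := hA 2
    rcases this with h | h
    · exact_mod_cast h
    · exfalso
      apply hne
      have h3 : y ^ 2 • α = β := by exact_mod_cast h
      rw [pow_two, mul_smul, h1] at h3
      rw [← h1] at h3
      exact smul_left_cancel y h3
  obtain ⟨m, hm⟩ := hy
  have h3 : ∀ m : ℕ, (y ^ (2 * m)) • α = α := by
    intro m
    rw [pow_mul]
    have : y ^ 2 ∈ stabilizer G α := h2
    exact (stabilizer G α).pow_mem this m
  have h4 : y ^ (2 * m + 1) • α = y • α := by
    rw [pow_succ', mul_smul, h3]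
  rw [← hm, pow_orderOf_eq_one, one_smul] at h4
  exact hne h4.symm

/-- A transitive group with fixity two has even order. -/
theorem two_dvd_card_of_fixity_two {G : Type*} [Group G] [Finite G] {Ω : Type*} [Finite Ω]
    [MulAction G Ω] (htr : IsPretransitive G Ω)
    (hfix : ∀ g : G, g ≠ 1 → Nat.card (MulAction.fixedBy Ω g) ≤ 2)
    (hex : ∃ g : G, g ≠ 1 ∧ Nat.card (MulAction.fixedBy Ω g) = 2) : 2 ∣ Nat.card G := by
  classical
  by_contra hodd
  obtain ⟨g, hg1, hg2⟩ := hex
  rw [Nat.card_coe_set_eq, Set.ncard_eq_two] at hg2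
  obtain ⟨α, β, hne, hαβ⟩ := hg2
  have hoα : g • α = α := by
    have : α ∈ fixedBy Ω g := by rw [hαβ]; simp
    exact this
  have hoβ : g • β = β := by
    have : β ∈ fixedBy Ω g := by rw [hαβ]; simp
    exact this
  have ho1 : orderOf g ≠ 1 := fun h => hg1 (orderOf_eq_one_iff.1 h)
  obtain ⟨p, hp, hpo⟩ := Nat.exists_prime_and_dvd ho1
  have : Fact p.Prime := ⟨hp⟩
  obtain ⟨m, hm⟩ := hpo
  have hm0 : m ≠ 0 := by
    rintro rfl
    have := orderOf_pos g
    omega
  have hg' : orderOf (g ^ m) = p := by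
    rw [orderOf_pow_of_dvd hm0 ⟨p, by rw [hm, mul_comm]⟩, hm]
    exact Nat.mul_div_cancel _ (Nat.pos_of_ne_zero hm0)
  have hg'1 : g ^ m ≠ 1 := by
    intro h
    rw [h, orderOf_one] at hg'
    exact hp.one_lt.ne hg'
  have hα' : g ^ m • α = α := (stabilizer G α).pow_mem hoα m
  have hβ' : g ^ m • β = β := (stabilizer G β).pow_mem hoβ m
  have hp2 : 2 < p := by
    rcases hp.eq_two_or_odd with h | h
    · exfalso
      apply hodd
      rw [← h, ← hg']
      exact orderOf_dvd_natCard _
    · have := hp.two_le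
      omega
  have hgp : IsPGroup p (Subgroup.zpowers (g ^ m)) := by
    apply IsPGroup.of_card (n := 1)
    rw [Nat.card_zpowers, hg', pow_one]
  obtain ⟨S, hS⟩ := hgp.exists_le_sylow
  have hgS := hS (Subgroup.mem_zpowers _)
  have hSα := le_stabilizer_of_lt hfix hp2 S.2 α (g ^ m) hgS hα' hg'1
  have hSβ := le_stabilizer_of_lt hfix hp2 S.2 β (g ^ m) hgS hβ' hg'1
  obtain ⟨y, hyN, hyα⟩ := exists_normalizer_smul_eq htr S hSα hSβ
  have hfe : fixedBy Ω (g ^ m) = {α, β} := by
    symm
    apply Set.eq_of_subset_of_ncard_le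
    · rintro z (rfl | rfl)
      · exact hα'
      · exact hβ'
    · rw [Set.ncard_pair hne, ← Nat.card_coe_set_eq]
      exact hfix _ hg'1
    · exact Set.toFinite _
  have hyodd : Odd (orderOf y) := by
    rw [← Nat.not_even_iff_odd, even_iff_two_dvd]
    intro h
    exact hodd (h.trans (orderOf_dvd_natCard _))
  have hfin := smul_eq_of_odd (α := α) (β := β) hyodd (by
    intro n
    have : y ^ n • α ∈ fixedBy Ω (g ^ m) := by
      rw [mem_fixedBy]
      exact smul_smul_eq_of_mem_normalizer hSα (Subgroup.zpow_mem _ hyN n) hgS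
    rw [hfe] at this
    simpa using this)
  exact hne (hfin.symm.trans hyα)

end Cfsg.Agent.H355
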