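import Cfsg.Agent.H355.SylowTwo
import Cfsg.Agent.H355.TIHall
import Cfsg.Agent.S0035

/-!
# Two-point stabilizers in groups of fixity two (helper355)

* `ETI D` : `D` is a TI subgroup and `g² ∈ D` for all `g ∈ N(D)`;
* `TwoPoint.eti` : two-point stabilizers of groups with fixity two are such subgroups;
* `TwoPoint.tih` : in a simple group, a non-trivial two-point stabilizer of odd order is a `TIH`;
* `ETI.exists_conj_le`, `ETI.dvd_index_sub_one` : Sylow subgroups for odd primes.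
-/

set_option autoImplicit false
set_option linter.unusedSectionVars false

open Cfsg

namespace Cfsg.Agent.H355.TwoPoint

open MulAction TIHall SylowTwo
open scoped Pointwise

/-- TI subgroups with small normalizer -/
structure ETI {G : Type*} [Group G] (D : Subgroup G) : Prop where
  ti : ∀ g d : G, d ∈ D → d ≠ 1 → g * d * g⁻¹ ∈ D → g ∈ Subgroup.normalizer (D : Set G)
  mul : ∀ a b : G, a ∈ Subgroup.normalizer (D : Set G) → b ∈ Subgroup.normalizer (D : Set G) → a ∉ D → b ∉ D →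
    a * b ∈ D

namespace ETI

variable {G : Type*} [Group G] {D : Subgroup G} (h : ETI D)

include h

theorem sq {a : G} (ha : a ∈ Subgroup.normalizer (D : Set G)) : a ^ 2 ∈ D := by
  by_cases h1 : a ∈ D
  · exact pow_mem h1 2
  · rw [pow_two]; exact h.mul a a ha ha h1 h1

theorem mem_normalizer_of_commute {g d : G} (hd : d ∈ D) (hd1 : d ≠ 1) (hgd : g * d = d * g) :
    g ∈ Subgroup.normalizer (D : Set G) := by
  refine h.ti g d hd hd1 ?_
  rw [hgd, mul_inv_cancel_right]
  exact hd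

theorem mem_of_odd {a : G} (ha : a ∈ Subgroup.normalizer (D : Set G)) (ho : Odd (orderOf a)) : a ∈ D := by
  have h1 : a ∈ Subgroup.zpowers (a ^ 2) := by
    rw [mem_zpowers_pow_iff]
    exact (Nat.coprime_two_right.2 ho).symm
  exact (Subgroup.zpowers_le.2 (h.sq ha)) h1

variable [Finite G]

/-- `|N(D) : D| ≤ 2` -/
theorem card_normalizer_dvd : Nat.card (Subgroup.normalizer (D : Set G)) ∣ 2 * Nat.card D := by
  classical
  have h0 : D ≤ Subgroup.normalizer (D : Set G) := Subgroup.le_normalizer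
  have h1 := Subgroup.card_mul_index (D.subgroupOf (Subgroup.normalizer (D : Set G)))
  have h3 : Nat.card (D.subgroupOf (Subgroup.normalizer (D : Set G))) = Nat.card D :=
    Nat.card_congr (Subgroup.subgroupOfEquivOfLe h0).toEquiv
  rw [h3] at h1
  by_cases hy : ∃ y ∈ Subgroup.normalizer (D : Set G), y ∉ D
  · obtain ⟨y, hyN, hyD⟩ := hy
    have h2 : (D.subgroupOf (Subgroup.normalizer (D : Set G))).index = 2 := by
      rw [Subgroup.index_eq_two_iff]
      refine ⟨⟨y, hyN⟩, fun b => ?_⟩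
      rw [Subgroup.mem_subgroupOf, Subgroup.mem_subgroupOf]
      by_cases hb : (b : G) ∈ D
      · refine Or.inr ⟨hb, fun h4 => hyD ?_⟩
        exact (Subgroup.mul_mem_cancel_left D hb).1 h4
      · exact Or.inl ⟨h.mul _ _ b.2 hyN hb hyD, hb⟩
    rw [h2] at h1
    rw [← h1, mul_comm]
  · push Not at hy
    have h4 : Subgroup.normalizer (D : Set G) = D := le_antisymm hy h0
    rw [h4]
    exact Dvd.intro_left _ rfl

/-- A `p`-subgroup meeting `D` nontrivially is contained in `D`. -/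
theorem le_of_isPGroup {p : ℕ} [hp : Fact p.Prime] (hp2 : p ≠ 2) {P : Subgroup G} (hP : IsPGroup p P) {d : G}
    (hdP : d ∈ P) (hdD : d ∈ D) (hd1 : d ≠ 1) : P ≤ D := by
  classical
  have hoddP : ∀ x ∈ P, Odd (orderOf x) := by
    intro x hx
    obtain ⟨k, hk⟩ := hP ⟨x, hx⟩
    have hk' : x ^ p ^ k = 1 := congrArg Subtype.val hk
    have h1 : Odd (p ^ k) := (hp.1.odd_of_ne_two hp2).pow
    exact h1.of_dvd_nat (orderOf_dvd_of_pow_eq_one hk')
  have : Nontrivial P := ⟨⟨⟨d, hdP⟩, 1, fun h1 => hd1 (congrArg Subtype.val h1)⟩⟩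
  have hZ : Nontrivial (Subgroup.center P) := hP.center_nontrivial
  obtain ⟨⟨z, hz⟩, hz1⟩ := exists_ne (1 : Subgroup.center P)
  have hzc : ∀ x ∈ P, x * (z : G) = z * x := fun x hx =>
    congrArg Subtype.val (Subgroup.mem_center_iff.1 hz ⟨x, hx⟩)
  have hz1' : (z : G) ≠ 1 := fun h1 => hz1 (Subtype.ext (Subtype.ext h1))
  have hzN : (z : G) ∈ Subgroup.normalizer (D : Set G) :=
    h.mem_normalizer_of_commute hdD hd1 (hzc d hdP).symm
  have hzD : (z : G) ∈ D := h.mem_of_odd hzN (hoddP z z.2)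
  intro x hx
  exact h.mem_of_odd (h.mem_normalizer_of_commute hzD hz1' (hzc x hx)) (hoddP x hx)

/-- A Sylow `p`-subgroup of `D`, `p ∣ |D|`, is a Sylow `p`-subgroup of `G`. -/
theorem exists_sylow_le {p : ℕ} [hp : Fact p.Prime] (hp2 : p ≠ 2) (hpD : p ∣ Nat.card D) :
    ∃ P : Sylow p G, (P : Subgroup G) ≤ D := by
  classical
  obtain ⟨d, hd⟩ := exists_prime_orderOf_dvd_card' p hpD
  have hd' : orderOf (d : G) = p := by rw [Subgroup.orderOf_coe, hd]
  have hdp : IsPGroup p (Subgroup.zpowers (d : G)) := by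
    rw [IsPGroup.iff_card]
    exact ⟨1, by rw [Nat.card_zpowers, hd', pow_one]⟩
  obtain ⟨Q, hQ⟩ := hdp.exists_le_sylow
  have hdQ : (d : G) ∈ (Q : Subgroup G) := hQ (Subgroup.mem_zpowers _)
  have hd1 : (d : G) ≠ 1 := by
    intro h1
    rw [h1, orderOf_one] at hd'
    exact hp.1.one_lt.ne hd'
  exact ⟨Q, h.le_of_isPGroup hp2 Q.isPGroup' hdQ d.2 hd1⟩

/-- the normalizer of a nontrivial subgroup of `D` -/
theorem normalizer_le {P : Subgroup G} (hP : P ≤ D) (hP1 : P ≠ ⊥) :
    Subgroup.normalizer (P : Set G) ≤ Subgroup.normalizer (D : Set G) := by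
  intro g hg
  obtain ⟨x, hx, hx1⟩ : ∃ x ∈ P, x ≠ 1 := by
    by_contra hcon
    push Not at hcon
    exact hP1 ((Subgroup.eq_bot_iff_forall _).2 hcon)
  exact h.ti g x (hP hx) hx1 (hP ((Subgroup.mem_normalizer_iff.1 hg x).1 hx))

/-- a subgroup of `D` of odd order acts semiregularly on the other conjugates of `D` -/
theorem dvd_index_sub_one {P : Subgroup G} (hP : P ≤ D) (hodd : Odd (Nat.card P)) :
    Nat.card P ∣ (Subgroup.normalizer (D : Set G)).index - 1 := by
  classical
  set N := Subgroup.normalizer (D : Set G) with hN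
  have key : ∀ x ∈ P, x ≠ 1 → ∀ g : G, g⁻¹ * x * g ∈ N → g ∈ N := by
    intro x hx hx1 g hg
    have h1 : Odd (orderOf (g⁻¹ * x * g)) := by
      have h2 : orderOf (g⁻¹ * x * g) = orderOf x := by
        have := orderOf_injective (MulAut.conj g⁻¹).toMonoidHom (MulAut.conj g⁻¹).injective x
        simpa using this
      rw [h2]
      exact hodd.of_dvd_nat (Subgroup.orderOf_dvd_natCard P hx)
    have h2 := h.mem_of_odd hg h1
    have h3 : g⁻¹ ∈ N := h.ti g⁻¹ x (hP hx) hx1 (by rwa [inv_inv])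
    have := inv_mem h3
    rwa [inv_inv] at this
  have hPN : P ≤ N := hP.trans Subgroup.le_normalizer
  -- the action on the other cosets
  let X := {c : G ⧸ N // c ≠ ((1 : G) : G ⧸ N)}
  let _ : MulAction P X :=
    { smul := fun x c => ⟨(x : G) • c.1, by
        intro h1
        apply c.2
        obtain ⟨g, hg⟩ := QuotientGroup.mk_surjective c.1
        rw [← hg] at h1 ⊢
        have h2 : (((x : G) * g : G) : G ⧸ N) = ((1 : G) : G ⧸ N) := h1
        rw [eq_comm, QuotientGroup.eq, inv_one, one_mul] at h2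
        rw [eq_comm, QuotientGroup.eq, inv_one, one_mul]
        exact (Subgroup.mul_mem_cancel_left N (hPN x.2)).1 h2⟩
      one_smul := fun c => Subtype.ext (one_smul G c.1)
      mul_smul := fun x y c => Subtype.ext (mul_smul (x : G) (y : G) c.1) }
  have hfree : ∀ c : X, stabilizer P c = ⊥ := by
    intro c
    rw [eq_bot_iff]
    intro x hx
    have hx1 : (x : G) • c.1 = c.1 := congrArg Subtype.val (mem_stabilizer_iff.1 hx)
    by_contra hne
    apply c.2
    obtain ⟨g, hg⟩ := QuotientGroup.mk_surjective c.1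
    rw [← hg] at hx1 ⊢
    have h2 : (((x : G) * g : G) : G ⧸ N) = (g : G ⧸ N) := hx1
    rw [eq_comm, QuotientGroup.eq, ← mul_assoc] at h2
    rw [eq_comm, QuotientGroup.eq, inv_one, one_mul]
    exact key x x.2 (fun h3 => hne (Subgroup.mem_bot.2 (Subtype.ext h3))) g h2
  have h1 := card_dvd_of_free hfree
  have h2 : Nat.card X = N.index - 1 := by
    have : Fintype (G ⧸ N) := Fintype.ofFinite _
    rw [Subgroup.index, Nat.card_eq_fintype_card, Nat.card_eq_fintype_card]
    show Fintype.card {c : G ⧸ N // ¬ (c = ((1 : G) : G ⧸ N))} = _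
    rw [Fintype.card_subtype_compl, Fintype.card_subtype_eq]
  rwa [h2] at h1

end ETI

section action

variable {G : Type*} [Group G] [Finite G] {Ω : Type*} [Finite Ω] [MulAction G Ω]
  (hfix : ∀ g : G, g ≠ 1 → Nat.card (fixedBy Ω g) ≤ 2) {α β : Ω} (hαβ : α ≠ β)

include hfix hαβ

theorem mem_or_of_conj {g d : G} (hd : d ∈ stabilizer G α ⊓ stabilizer G β) (hd1 : d ≠ 1)
    (hg : g * d * g⁻¹ ∈ stabilizer G α ⊓ stabilizer G β) :
    (g • α = α ∧ g • β = β) ∨ (g • α = β ∧ g • β = α) := by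
  have h1 : (g * d * g⁻¹) • g • α = g • α := by
    rw [← mul_smul, inv_mul_cancel_right, mul_smul, hd.1]
  have h2 : (g * d * g⁻¹) • g • β = g • β := by
    rw [← mul_smul, inv_mul_cancel_right, mul_smul, hd.2]
  have hne : g * d * g⁻¹ ≠ 1 := fun h => hd1 ((MulAut.conj g).injective (by rw [map_one]; exact h))
  have h3 := fixed_eq hfix hαβ hne hg.1 hg.2 h1
  have h4 := fixed_eq hfix hαβ hne hg.1 hg.2 h2
  rcases h3 with h3 | h3
  · rcases h4 with h4 | h4
    · exact absurd (MulAction.injective g (h3.trans h4.symm)) hαβ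
    · exact Or.inl ⟨h3, h4⟩
  · rcases h4 with h4 | h4
    · exact Or.inr ⟨h3, h4⟩
    · exact absurd (MulAction.injective g (h3.trans h4.symm)) hαβ

omit [Finite G] [Finite Ω] hfix hαβ in
theorem mem_normalizer_of {g : G} (hg : (g • α = α ∧ g • β = β) ∨ (g • α = β ∧ g • β = α)) :
    g ∈ Subgroup.normalizer ((stabilizer G α ⊓ stabilizer G β : Subgroup G) : Set G) := by
  rw [Subgroup.mem_normalizer_iff]
  intro x
  rw [Subgroup.mem_inf, Subgroup.mem_inf, mem_stabilizer_iff, mem_stabilizer_iff, mem_stabilizer_iff,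
    mem_stabilizer_iff]
  have key : ∀ a b : Ω, g • a = b → ((g * x * g⁻¹) • b = b ↔ x • a = a) := by
    intro a b hab
    rw [← hab, ← mul_smul, inv_mul_cancel_right, mul_smul]
    exact smul_left_cancel_iff g
  rcases hg with ⟨h1, h2⟩ | ⟨h1, h2⟩
  · rw [key _ _ h1, key _ _ h2]
  · rw [key _ _ h1, key _ _ h2, and_comm]

theorem mem_normalizer_iff (hne : stabilizer G α ⊓ stabilizer G β ≠ ⊥) {g : G} :
    g ∈ Subgroup.normalizer ((stabilizer G α ⊓ stabilizer G β : Subgroup G) : Set G) ↔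
      (g • α = α ∧ g • β = β) ∨ (g • α = β ∧ g • β = α) := by
  refine ⟨fun hg => ?_, mem_normalizer_of⟩
  obtain ⟨d, hd, hd1⟩ : ∃ d ∈ stabilizer G α ⊓ stabilizer G β, d ≠ 1 := by
    by_contra hcon
    push Not at hcon
    exact hne ((Subgroup.eq_bot_iff_forall _).2 hcon)
  exact mem_or_of_conj hfix hαβ hd hd1 ((Subgroup.mem_normalizer_iff.1 hg d).1 hd)

theorem eti (hne : stabilizer G α ⊓ stabilizer G β ≠ ⊥) : ETI (stabilizer G α ⊓ stabilizer G β) := by
  constructor
  · intro g d hd hd1 hg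
    exact mem_normalizer_of (mem_or_of_conj hfix hαβ hd hd1 hg)
  · intro a b ha hb ha' hb'
    rw [mem_normalizer_iff hfix hαβ hne] at ha hb
    rcases ha with ha | ha
    · exact absurd ⟨ha.1, ha.2⟩ ha'
    rcases hb with hb | hb
    · exact absurd ⟨hb.1, hb.2⟩ hb'
    exact ⟨by
      show (a * b) • α = α
      rw [mul_smul, hb.1, ha.2], by
      show (a * b) • β = β
      rw [mul_smul, hb.2, ha.1]⟩

end action

section simple

variable {G : Type*} [Group G] [Finite G] [IsSimpleGroup G]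

theorem not_frobenius (H : Subgroup G) : ¬ IsFrobeniusComplement H := by
  intro h
  obtain ⟨N, -, hN, hc⟩ := S0035.result H h
  rcases hN.eq_bot_or_eq_top with rfl | rfl
  · exact h.2.1 (Subgroup.isComplement'_bot_left.1 hc)
  · exact h.1 (Subgroup.isComplement'_top_left.1 hc)

/-- a TI subgroup of a simple group is not self-normalizing -/
theorem exists_mem_normalizer {D : Subgroup G} (hD : D ≠ ⊥) (hD' : D ≠ ⊤)
    (hti : ∀ g d : G, d ∈ D → d ≠ 1 → g * d * g⁻¹ ∈ D → g ∈ Subgroup.normalizer (D : Set G)) :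
    ∃ y ∈ Subgroup.normalizer (D : Set G), y ∉ D := by
  by_contra hcon
  push Not at hcon
  apply not_frobenius D
  refine ⟨hD, hD', fun g hg => ?_⟩
  rw [eq_bot_iff]
  rintro x ⟨hx, hx'⟩
  obtain ⟨d, hd, hdx⟩ := (Subgroup.mem_smul_pointwise_iff_exists _ _ _).1 hx'
  have hdx' : g * d * g⁻¹ = x := hdx
  by_contra hx1
  have hd1 : d ≠ 1 := by
    rintro rfl
    apply hx1
    rw [Subgroup.mem_bot, ← hdx']
    group
  exact hg (hcon g (hti g d hd hd1 (by rw [hdx']; exact hx)))

variable {Ω : Type*} [Finite Ω] [MulAction G Ω]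

theorem stabilizer_ne_top [IsPretransitive G Ω] {α β : Ω} (hαβ : α ≠ β) : stabilizer G α ≠ ⊤ := by
  intro h
  obtain ⟨g, hg⟩ := exists_smul_eq G α β
  have : g ∈ stabilizer G α := by rw [h]; trivial
  exact hαβ (this.symm.trans hg)

/-- **Two-point stabilizers of odd order in simple groups.** -/
theorem tih [IsPretransitive G Ω] (hfix : ∀ g : G, g ≠ 1 → Nat.card (fixedBy Ω g) ≤ 2) {α β : Ω} (hαβ : α ≠ β)
    (hne : stabilizer G α ⊓ stabilizer G β ≠ ⊥) (hodd : Odd (Nat.card ↥(stabilizer G α ⊓ stabilizer G β))) :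
    TIH (stabilizer G α ⊓ stabilizer G β) := by
  have h := eti hfix hαβ hne
  have hD' : stabilizer G α ⊓ stabilizer G β ≠ ⊤ := fun h1 =>
    stabilizer_ne_top (G := G) hαβ (top_le_iff.1 (h1.symm.le.trans inf_le_left))
  obtain ⟨y, hyN, hyD⟩ := exists_mem_normalizer hne hD' h.ti
  refine ⟨hne, hodd, h.ti, ?_⟩
  rw [Subgroup.relIndex, Subgroup.index_eq_two_iff]
  refine ⟨⟨y, hyN⟩, fun b => ?_⟩
  rw [Subgroup.mem_subgroupOf, Subgroup.mem_subgroupOf]
  by_cases hb : (b : G) ∈ stabilizer G α ⊓ stabilizer G β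
  · refine Or.inr ⟨hb, fun h4 => hyD ?_⟩
    exact (Subgroup.mul_mem_cancel_left _ hb).1 h4
  · exact Or.inl ⟨h.mul _ _ b.2 hyN hb hyD, hb⟩

/-- a simple group with non-trivial stabilizers has non-trivial two-point stabilizers -/
theorem exists_pair [IsPretransitive G Ω] (h2 : 1 < Nat.card Ω) (hnr : ∃ ω : Ω, stabilizer G ω ≠ ⊥) :
    ∃ α β : Ω, α ≠ β ∧ stabilizer G α ⊓ stabilizer G β ≠ ⊥ := by
  obtain ⟨ω, hω⟩ := hnr
  by_contra hcon
  push Not at hcon
  have : Nontrivial Ω := Finite.one_lt_card_iff_nontrivial.1 h2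
  obtain ⟨β, hβ⟩ := exists_ne ω
  apply not_frobenius (stabilizer G ω)
  refine ⟨hω, stabilizer_ne_top (G := G) hβ.symm, fun g hg => ?_⟩
  have h3 : MulAut.conj g • stabilizer G ω = stabilizer G (g • ω) := by
    rw [stabilizer_smul_eq_stabilizer_map_conj]
    rfl
  rw [h3]
  exact hcon _ _ fun h => hg h.symm

end simple

end Cfsg.Agent.H355.TwoPoint
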