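import Cfsg.Agent.H355.L3Grp

/-!
# Alternating groups of degree at least seven have no TI Hall subgroup `D` (helper355)
-/

set_option autoImplicit false
set_option linter.unusedSectionVars false

open Equiv

namespace Cfsg.Agent.H355.AltElim

open TIHall

variable {G : Type*} [Group G] [Finite G] {D : Subgroup G}

/-- transport to `ZMod p ⊕ β` -/
theorem exists_hom (hD : TIH D) {p n : ℕ} [hp : Fact p.Prime] (hpD : p ∣ Nat.card D) {β : Type*} [Fintype β]
    [DecidableEq β] (hn : n = p + Fintype.card β) (e : G ≃* alternatingGroup (Fin n)) :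
    ∃ ψ : alternatingGroup (ZMod p ⊕ β) →* G, Function.Injective ψ ∧
      ∀ w : alternatingGroup (ZMod p ⊕ β),
        (∃ j : ℕ, (w : Perm (ZMod p ⊕ β)) * sumCongr (Equiv.addRight 1) 1 =
          sumCongr (Equiv.addRight 1) 1 ^ j * (w : Perm (ZMod p ⊕ β))) → ψ w ∈ Subgroup.normalizer (D : Set G) := by
  classical
  have hp2 : p ≠ 2 := by
    rintro rfl
    exact hD.odd.not_two_dvd_nat hpD
  set c : Perm (ZMod p ⊕ β) := sumCongr (Equiv.addRight 1) 1 with hc
  have hcp : c ^ p = 1 := by
    have h1 : ∀ j : ℕ, c ^ j = sumCongr (Equiv.addRight (j : ZMod p)) 1 := by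
      intro j
      induction j with
      | zero =>
        rw [pow_zero]
        ext x
        rcases x with x | x <;> simp
      | succ j ih =>
        rw [pow_succ, ih]
        ext x
        rcases x with x | x
        · simp [hc]
          ring
        · simp [hc]
    rw [h1, CharP.cast_eq_zero]
    ext x
    rcases x with x | x <;> simp
  have hodd := hp.out.odd_of_ne_two hp2
  have hsign : Perm.sign c = 1 := by
    have h1 : Perm.sign c ^ p = 1 := by rw [← map_pow, hcp, map_one]
    rcases Int.units_eq_one_or (Perm.sign c) with h | h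
    · exact h
    · rw [h, hodd.neg_one_pow] at h1
      exact absurd h1 (by decide)
  have hc1 : c ≠ 1 := by
    intro h
    have h1 := congrArg (fun f : Perm (ZMod p ⊕ β) => f (Sum.inl 0)) h
    simp [hc] at h1
  have hcard : Fintype.card (ZMod p ⊕ β) = Fintype.card (Fin n) := by
    rw [Fintype.card_sum, ZMod.card, Fintype.card_fin, hn]
  let E : ZMod p ⊕ β ≃ Fin n := Fintype.equivOfCardEq hcard
  let e' : G ≃* alternatingGroup (ZMod p ⊕ β) := e.trans (Equiv.altCongrHom E).symm
  let c' : alternatingGroup (ZMod p ⊕ β) := ⟨c, hsign⟩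
  have hP : IsPGroup p (Subgroup.zpowers (e'.symm c')) := by
    rw [IsPGroup.iff_card, Nat.card_zpowers]
    have h1 : (e'.symm c') ^ p ^ 1 = 1 := by
      rw [pow_one, ← map_pow]
      have h2 : c' ^ p = 1 := Subtype.ext hcp
      rw [h2, map_one]
    obtain ⟨j, -, hj⟩ := (Nat.dvd_prime_pow hp.out).1 (orderOf_dvd_of_pow_eq_one h1)
    exact ⟨j, hj⟩
  obtain ⟨g, hg⟩ := hD.exists_conj_le hpD hP
  have hgc := hg _ (Subgroup.mem_zpowers _)
  refine ⟨(MulAut.conj g).toMonoidHom.comp e'.symm.toMonoidHom, (MulAut.conj g).injective.comp e'.symm.injective, ?_⟩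
  rintro w ⟨j, hj⟩
  show g * e'.symm w * g⁻¹ ∈ _
  refine hD.ti _ _ hgc ?_ ?_
  · intro h1
    apply hc1
    have h2 : e'.symm c' = 1 := (MulAut.conj g).injective (by rw [map_one]; exact h1)
    have h3 : c' = 1 := e'.symm.injective (by rw [h2, map_one])
    exact congrArg Subtype.val h3
  · have h1 : w * c' = c' ^ j * w := Subtype.ext hj
    have h2 : g * e'.symm w * g⁻¹ * (g * e'.symm c' * g⁻¹) * (g * e'.symm w * g⁻¹)⁻¹ =
        (g * e'.symm c' * g⁻¹) ^ j := by
      calc g * e'.symm w * g⁻¹ * (g * e'.symm c' * g⁻¹) * (g * e'.symm w * g⁻¹)⁻¹ =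
          g * (e'.symm w * e'.symm c') * (e'.symm w)⁻¹ * g⁻¹ := by group
        _ = g * (e'.symm (c' ^ j * w)) * (e'.symm w)⁻¹ * g⁻¹ := by rw [← map_mul, h1]
        _ = g * (e'.symm c') ^ j * g⁻¹ := by rw [map_mul, map_pow]; group
        _ = _ := by rw [conj_pow]
    rw [h2]
    exact pow_mem hgc j

/-- many fixed points -/
theorem not_dvd (hD : TIH D) {p n : ℕ} [hp : Fact p.Prime] (hn : p + 4 ≤ n)
    (e : G ≃* alternatingGroup (Fin n)) : ¬ p ∣ Nat.card D := by
  intro hpD
  obtain ⟨k, rfl⟩ : ∃ k, n = p + (k + 4) := ⟨n - p - 4, by omega⟩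
  obtain ⟨ψ, hinj, hψ⟩ := exists_hom (β := Fin k ⊕ Fin 4) hD hpD (by simp) e
  let ι : Perm (Fin 4) →* Perm (ZMod p ⊕ (Fin k ⊕ Fin 4)) :=
    (Perm.sumCongrHom (ZMod p) (Fin k ⊕ Fin 4)).comp ((MonoidHom.inr _ _).comp
      ((Perm.sumCongrHom (Fin k) (Fin 4)).comp (MonoidHom.inr _ _)))
  have hι : ∀ v, ι v = sumCongr 1 (sumCongr 1 v) := fun v => rfl
  have hιi : Function.Injective ι := by
    intro v w h
    ext i
    have h1 := congrArg (fun f : Perm (ZMod p ⊕ (Fin k ⊕ Fin 4)) => f (Sum.inr (Sum.inr i))) h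
    simp [hι] at h1
    rw [h1]
  have hs : ∀ v : Perm (Fin 4), Perm.sign v = 1 → Perm.sign (ι v) = 1 := by
    intro v hv
    rw [hι, Perm.sign_sumCongr, Perm.sign_sumCongr, hv]; simp
  let ι' : alternatingGroup (Fin 4) →* alternatingGroup (ZMod p ⊕ (Fin k ⊕ Fin 4)) :=
    (ι.comp (alternatingGroup (Fin 4)).subtype).codRestrict (alternatingGroup (ZMod p ⊕ (Fin k ⊕ Fin 4)))
      (fun v => hs v.1 v.2)
  let θ : alternatingGroup (Fin 4) →* G := ψ.comp ι'
  have hθi : Function.Injective θ := by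
    intro v w h
    have h1 := hinj h
    have h2 : ι v.1 = ι w.1 := congrArg Subtype.val h1
    exact Subtype.ext (hιi h2)
  have hN : ∀ v : alternatingGroup (Fin 4), θ v ∈ Subgroup.normalizer (D : Set G) := by
    intro v
    refine hψ _ ⟨1, ?_⟩
    rw [pow_one]
    show ι v.1 * _ = _ * ι v.1
    rw [hι]
    ext x
    rcases x with x | x <;> simp
  set u : alternatingGroup (Fin 4) := ⟨swap 0 1 * swap 2 3, by rw [Perm.mem_alternatingGroup]; decide⟩ with hu
  set v : alternatingGroup (Fin 4) := ⟨swap 0 2 * swap 1 3, by rw [Perm.mem_alternatingGroup]; decide⟩ with hv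
  have huu : u * u = 1 := by rw [hu]; decide
  have hvv : v * v = 1 := by rw [hv]; decide
  have huv : u * v = v * u := by rw [hu, hv]; decide
  have hu1 : u ≠ 1 := by rw [hu]; decide
  have hv1 : v ≠ 1 := by rw [hv]; decide
  have hne : u ≠ v := by rw [hu, hv]; decide
  have h2 := hD.klein (hN u) (hN v) (by rw [pow_two, ← map_mul, huu, map_one])
    (by rw [pow_two, ← map_mul, hvv, map_one]) (by rw [← map_mul, ← map_mul, huv])
    (fun h => hu1 (hθi (h.trans (map_one θ).symm))) (fun h => hv1 (hθi (h.trans (map_one θ).symm)))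
  exact hne (hθi h2)

/-- the unit `2` of `ZMod 5` -/
def a5 : (ZMod 5)ˣ := ⟨2, 3, by decide, by decide⟩

theorem sign_a5 : Perm.sign (Units.mulLeft a5) = -1 := by decide

theorem a5_four : ∀ x : ZMod 5, (a5 : ZMod 5) * (a5 * (a5 * (a5 * x))) = x := by decide

theorem a5_two : ¬ (a5 : ZMod 5) * a5 = 1 := by decide

/-- **Alternating groups.** -/
theorem le_six (hD : TIH D) {n : ℕ} (e : G ≃* alternatingGroup (Fin n)) : n ≤ 6 := by
  by_contra hn
  push Not at hn
  have hD1 : Nat.card D ≠ 1 := by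
    intro h
    exact hD.ne_bot (Subgroup.card_eq_one.1 h)
  obtain ⟨p, hp, hpD⟩ := Nat.exists_prime_and_dvd hD1
  have : Fact p.Prime := ⟨hp⟩
  have hp2 : p ≠ 2 := by
    rintro rfl
    exact hD.odd.not_two_dvd_nat hpD
  have hpn : n < p + 4 := by
    by_contra h
    exact not_dvd hD (not_lt.1 h) e hpD
  have hpn' : p ≤ n := by
    have h1 : p ∣ Nat.card (Perm (Fin n)) := by
      refine hpD.trans ((Subgroup.card_subgroup_dvd_card D).trans ?_)
      rw [Nat.card_congr e.toEquiv]
      exact Subgroup.card_subgroup_dvd_card _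
    rw [Nat.card_perm, Nat.card_eq_fintype_card, Fintype.card_fin] at h1
    exact (hp.dvd_factorial).1 h1
  obtain ⟨k, rfl⟩ : ∃ k, n = p + k := ⟨n - p, by omega⟩
  obtain ⟨ψ, hinj, hψ⟩ := exists_hom (β := Fin k) hD hpD (by simp) e
  -- the multiplications
  have hmul : ∀ a b : (ZMod p)ˣ, (sumCongr (Units.mulLeft a) 1 : Perm (ZMod p ⊕ Fin k)) * sumCongr (Units.mulLeft b) 1 =
      sumCongr (Units.mulLeft (a * b)) 1 := by
    intro a b
    ext x
    rcases x with x | x <;> simp [mul_assoc]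
  have hadd : ∀ j : ℕ, (sumCongr (Equiv.addRight (1 : ZMod p)) 1 : Perm (ZMod p ⊕ Fin k)) ^ j =
      sumCongr (Equiv.addRight (j : ZMod p)) 1 := by
    intro j
    induction j with
    | zero =>
      rw [pow_zero]
      ext x
      rcases x with x | x <;> simp
    | succ j ih =>
      rw [pow_succ, ih]
      ext x
      rcases x with x | x
      · simp
        ring
      · simp
  have hnorm : ∀ (a : (ZMod p)ˣ) (v : Perm (Fin k)), ∃ j : ℕ,
      (sumCongr (Units.mulLeft a) v : Perm (ZMod p ⊕ Fin k)) * sumCongr (Equiv.addRight 1) 1 =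
      sumCongr (Equiv.addRight 1) 1 ^ j * sumCongr (Units.mulLeft a) v := by
    intro a v
    refine ⟨(a : ZMod p).val, ?_⟩
    rw [hadd, ZMod.natCast_zmod_val]
    ext x
    rcases x with x | x <;> simp [mul_add]
  obtain ⟨g, hg⟩ := IsCyclic.exists_generator (α := (ZMod p)ˣ)
  have hord : orderOf g = p - 1 := by
    rw [orderOf_eq_card_of_forall_mem_zpowers hg, Nat.card_eq_fintype_card, ZMod.card_units]
  -- the fourth power of the generator
  have hx : ∀ a : (ZMod p)ˣ, Perm.sign (sumCongr (Units.mulLeft a * Units.mulLeft a) 1 : Perm (ZMod p ⊕ Fin k)) = 1 := by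
    intro a
    rw [Perm.sign_sumCongr, map_mul, map_one, mul_one]
    rcases Int.units_eq_one_or (Perm.sign (Units.mulLeft a)) with h | h <;> rw [h] <;> rfl
  set X : alternatingGroup (ZMod p ⊕ Fin k) := ⟨_, hx g⟩ with hX
  have hXN : ψ X ∈ Subgroup.normalizer (D : Set G) := by
    refine hψ X ?_
    obtain ⟨j, hj⟩ := hnorm (g * g) 1
    refine ⟨j, ?_⟩
    have h1 : (X : Perm (ZMod p ⊕ Fin k)) = sumCongr (Units.mulLeft (g * g)) 1 := by
      rw [← hmul]
      ext x
      rcases x with x | x <;> simp [hX]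
    rw [h1]
    exact hj
  have hXpow : ∀ j : ℕ, ((X ^ j : alternatingGroup (ZMod p ⊕ Fin k)) : Perm (ZMod p ⊕ Fin k)) =
      sumCongr (Units.mulLeft (g ^ (2 * j))) 1 := by
    intro j
    induction j with
    | zero =>
      ext x
      rcases x with x | x <;> simp
    | succ j ih =>
      rw [pow_succ, Subgroup.coe_mul, ih]
      have h2 : 2 * (j + 1) = 2 * j + 1 + 1 := by ring
      rw [h2, pow_succ, pow_succ]
      ext x
      rcases x with x | x <;> simp [hX, mul_assoc]
  have hXone : ∀ j : ℕ, X ^ j = 1 → g ^ (2 * j) = 1 := by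
    intro j hj
    have h1 := hXpow j
    rw [hj] at h1
    have h2 := congrArg (fun f : Perm (ZMod p ⊕ Fin k) => f (Sum.inl 1)) h1
    simp at h2
    exact Units.ext (by push_cast; exact h2.symm)
  have hX2D := hD.sq_mem hXN
  rw [← map_pow] at hX2D
  by_cases hX2 : X ^ 2 = 1
  · -- `p = 5`
    have h4 := hXone 2 hX2
    have h5 : p - 1 ∣ 4 := by rw [← hord]; exact orderOf_dvd_of_pow_eq_one h4
    have h6 := Nat.le_of_dvd (by norm_num) h5
    have hp5 : p = 5 := by
      have h7 : p = 3 ∨ p = 4 ∨ p = 5 := by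
        have := hp.two_le
        omega
      rcases h7 with rfl | rfl | rfl
      · omega
      · exact absurd hp (by norm_num)
      · rfl
    subst hp5
    have hk : 2 ≤ k := by omega
    set i0 : Fin k := ⟨0, by omega⟩
    set i1 : Fin k := ⟨1, by omega⟩
    have h01 : i0 ≠ i1 := by simp [i0, i1]
    have hsa : Perm.sign (Units.mulLeft a5) = -1 := by convert sign_a5
    have hs : Perm.sign (sumCongr (Units.mulLeft a5) (swap i0 i1) : Perm (ZMod 5 ⊕ Fin k)) = 1 := by
      rw [Perm.sign_sumCongr, hsa, Perm.sign_swap h01]; rfl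
    set w : alternatingGroup (ZMod 5 ⊕ Fin k) := ⟨_, hs⟩ with hw
    have hwN := hψ w (hnorm a5 (swap i0 i1))
    have hw4 : w ^ 4 = 1 := by
      apply Subtype.ext
      rw [Subgroup.coe_pow]
      show (sumCongr (Units.mulLeft a5) (swap i0 i1) : Perm (ZMod 5 ⊕ Fin k)) ^ 4 = 1
      ext x
      rcases x with x | x
      · simp only [pow_succ, pow_zero, one_mul, Perm.mul_apply, sumCongr_apply, Sum.map_inl, Units.mulLeft_apply,
          Perm.one_apply, a5_four]
      · simp [pow_succ]
    have h9 := hD.four hwN (by rw [← map_pow, hw4, map_one])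
    rw [← map_pow] at h9
    have h10 := hinj (h9.trans (map_one ψ).symm)
    have h11 := congrArg (fun f : alternatingGroup (ZMod 5 ⊕ Fin k) => f.1 (Sum.inl 1)) h10
    simp [hw, pow_two] at h11
    exact a5_two h11
  · -- a small prime
    have h1 : orderOf (ψ (X ^ 2)) ≠ 1 := by
      rw [Ne, orderOf_eq_one_iff]
      intro h
      exact hX2 (hinj (h.trans (map_one ψ).symm))
    obtain ⟨r, hr, hr1⟩ := Nat.exists_prime_and_dvd h1
    have hrD : r ∣ Nat.card D := hr1.trans (Subgroup.orderOf_dvd_natCard D hX2D)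
    have hr2 : r ≠ 2 := by
      rintro rfl
      exact hD.odd.not_two_dvd_nat hrD
    have : Fact r.Prime := ⟨hr⟩
    have h2 : r ∣ p - 1 := by
      refine hr1.trans (orderOf_dvd_of_pow_eq_one ?_)
      rw [← map_pow, ← pow_mul]
      have h3 : X ^ (2 * (p - 1)) = 1 := by
        apply Subtype.ext
        rw [hXpow, ← mul_assoc, mul_comm (2 * 2), pow_mul, ← hord, pow_orderOf_eq_one, one_pow]
        ext x
        rcases x with x | x <;> simp
      rw [h3, map_one]
    have hpodd := hp.odd_of_ne_two hp2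
    have h3 : 2 * r ∣ p - 1 := by
      refine Nat.Coprime.mul_dvd_of_dvd_of_dvd ?_ ?_ h2
      · exact (Nat.coprime_primes Nat.prime_two hr).2 (Ne.symm hr2)
      · obtain ⟨j, hj⟩ := hpodd
        exact ⟨j, by omega⟩
    have h4 := Nat.le_of_dvd (by have := hp.two_le; omega) h3
    exact not_dvd hD (p := r) (by omega) e hrD

end Cfsg.Agent.H355.AltElim
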