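import Cfsg.Agent.H355.EvenNum
import Cfsg.Agent.S0435

/-!
# `A₇` and `M₁₁` have no TI subgroup of even order with small normalizer (helper355)
-/

set_option autoImplicit false
set_option linter.unusedSectionVars false

open Cfsg

namespace Cfsg.Agent.H355.TwoPoint

open TIHall

section

variable {G : Type*} [Group G] [Finite G] [IsSimpleGroup G] {D : Subgroup G}

/-- the normalizer index, `3 ∣ |D|` -/
theorem ETI.index_facts (h : ETI D) (hD : D ≠ ⊥) (hD' : D ≠ ⊤) (heven : Even (Nat.card D))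
    (hone : ∀ x y : G, orderOf x = 2 → orderOf y = 2 → IsConj x y) {z x : G} (hz : orderOf z = 2)
    (hx : orderOf x = 3) (hxz : x * z = z * x) {n : ℕ} (hn : Nat.card G = 9 * n) (hn3 : ¬ 3 ∣ n) :
    (Subgroup.normalizer (D : Set G)).index ∣ n ∧ 9 ∣ (Subgroup.normalizer (D : Set G)).index - 1 ∧
      (Subgroup.normalizer (D : Set G)).index ≠ 1 ∧ ¬ 2 ∣ (Subgroup.normalizer (D : Set G)).index := by
  have : Fact (Nat.Prime 3) := ⟨Nat.prime_three⟩
  have h3 := h.dvd_card_of_commute heven hone hz Nat.prime_three (by norm_num) hx hxz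
  obtain ⟨P, hP, h1, h2⟩ := h.exists_sylow (by norm_num) h3
  have hPc : Nat.card (P : Subgroup G) = 9 := by
    rw [P.card_eq_multiplicity, hn, Nat.factorization_mul (by norm_num) (by rintro rfl; simp at hn3)]
    have e9 : (9 : ℕ) = 3 ^ 2 := by norm_num
    rw [Finsupp.add_apply, Nat.factorization_eq_zero_of_not_dvd hn3, e9, Nat.factorization_pow]
    simp [Nat.prime_three.factorization_self]
  have hPi : (P : Subgroup G).index = n := by
    have h4 := (P : Subgroup G).card_mul_index
    rw [hPc, hn] at h4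
    omega
  rw [hPi] at h1
  rw [hPc] at h2
  exact ⟨h1, h2, h.index_ne_one hD hD', h.odd_index heven hone⟩

/-- **`A₇`.** -/
theorem false_of_alt7 (e : G ≃* alternatingGroup (Fin 7)) (h : ETI D) (hD : D ≠ ⊥) (hD' : D ≠ ⊤)
    (heven : Even (Nat.card D)) (hone : ∀ x y : G, orderOf x = 2 → orderOf y = 2 → IsConj x y) : False := by
  have hc : Nat.card G = 9 * 280 := by
    rw [Nat.card_congr e.toEquiv, nat_card_alternatingGroup]
    simp [Nat.factorial]
  let z : alternatingGroup (Fin 7) := ⟨Equiv.swap 0 1 * Equiv.swap 2 3, by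
    rw [Equiv.Perm.mem_alternatingGroup]; decide⟩
  let x : alternatingGroup (Fin 7) := ⟨Equiv.swap 4 5 * Equiv.swap 5 6, by
    rw [Equiv.Perm.mem_alternatingGroup]; decide⟩
  have hz : orderOf z = 2 := by
    have : Fact (Nat.Prime 2) := ⟨Nat.prime_two⟩
    refine orderOf_eq_prime (Subtype.ext ?_) fun h1 => ?_
    · show (Equiv.swap (0 : Fin 7) 1 * Equiv.swap 2 3) ^ 2 = 1
      decide
    · have h2 : Equiv.swap (0 : Fin 7) 1 * Equiv.swap 2 3 = 1 := congrArg Subtype.val h1
      exact absurd h2 (by decide)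
  have hx : orderOf x = 3 := by
    have : Fact (Nat.Prime 3) := ⟨Nat.prime_three⟩
    refine orderOf_eq_prime (Subtype.ext ?_) fun h1 => ?_
    · show (Equiv.swap (4 : Fin 7) 5 * Equiv.swap 5 6) ^ 3 = 1
      decide
    · have h2 : Equiv.swap (4 : Fin 7) 5 * Equiv.swap 5 6 = 1 := congrArg Subtype.val h1
      exact absurd h2 (by decide)
  have hxz : x * z = z * x := Subtype.ext (by
    show Equiv.swap (4 : Fin 7) 5 * Equiv.swap 5 6 * (Equiv.swap 0 1 * Equiv.swap 2 3) =
      Equiv.swap 0 1 * Equiv.swap 2 3 * (Equiv.swap 4 5 * Equiv.swap 5 6)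
    decide)
  obtain ⟨h1, h2, h3, h4⟩ := h.index_facts hD hD' heven hone (z := e.symm z) (x := e.symm x)
    (by rw [← hz]; exact orderOf_injective e.symm.toMonoidHom e.symm.injective z)
    (by rw [← hx]; exact orderOf_injective e.symm.toMonoidHom e.symm.injective x)
    (by rw [← map_mul, ← map_mul, hxz]) hc (by norm_num)
  generalize (Subgroup.normalizer (D : Set G)).index = m at h1 h2 h3 h4
  have h5 : m ∣ 35 := by
    have h6 : Nat.Coprime m 8 := by
      have : Nat.Coprime m (2 ^ 3) := Nat.Coprime.pow_right 3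
        ((Nat.Prime.coprime_iff_not_dvd Nat.prime_two).2 h4).symm
      exact this
    exact h6.dvd_of_dvd_mul_left (by exact h1)
  have h6 : m ≤ 35 := Nat.le_of_dvd (by norm_num) h5
  interval_cases m <;> omega

/-- **`M₁₁`.** -/
theorem false_of_m11 (hM : Cfsg.IsM11 G) (h : ETI D) (hD : D ≠ ⊥) (hD' : D ≠ ⊤)
    (heven : Even (Nat.card D)) (hone : ∀ x y : G, orderOf x = 2 → orderOf y = 2 → IsConj x y) : False := by
  have hc : Nat.card G = 9 * 880 := by rw [hM.2]
  have : Fact (Nat.Prime 2) := ⟨Nat.prime_two⟩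
  have : Fact (Nat.Prime 3) := ⟨Nat.prime_three⟩
  obtain ⟨z, hz⟩ := exists_prime_orderOf_dvd_card' (G := G) 2 (by rw [hc]; norm_num)
  have h48 := S0435.result hM z hz
  obtain ⟨x, hx⟩ := exists_prime_orderOf_dvd_card' (G := Subgroup.centralizer ({z} : Set G)) 3 (by
    rw [h48]; norm_num)
  have hxz : (x : G) * z = z * x := Subgroup.mem_centralizer_singleton_iff.1 x.2
  obtain ⟨h1, h2, h3, h4⟩ := h.index_facts hD hD' heven hone hz (by rw [Subgroup.orderOf_coe, hx]) hxz hc (by norm_num)
  have h5 := h.dvd_two_mul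
  have h6 := h.card_normalizer_dvd
  have h7 := (Subgroup.normalizer (D : Set G)).card_mul_index
  rw [hc] at h7
  set m := (Subgroup.normalizer (D : Set G)).index with hm
  have h8 : m ∣ 55 := by
    have h6 : Nat.Coprime m 16 := by
      have : Nat.Coprime m (2 ^ 4) := Nat.Coprime.pow_right 4
        ((Nat.Prime.coprime_iff_not_dvd Nat.prime_two).2 h4).symm
      exact this
    exact h6.dvd_of_dvd_mul_left (by exact h1)
  have h9 : m = 55 := by
    have h6 : m ≤ 55 := Nat.le_of_dvd (by norm_num) h8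
    clear_value m
    clear hm
    interval_cases m <;> omega
  rw [h9] at h5 h7
  have h10 : Nat.card (Subgroup.normalizer (D : Set G)) = 144 := by omega
  rw [h10] at h6
  have h11 : 72 ∣ Nat.card D := by omega
  have h12 := h11.trans h5
  omega

end

end Cfsg.Agent.H355.TwoPoint
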