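import Cfsg.Agent.H355.EvenNum
import Cfsg.Agent.H355.L3Uni
import Cfsg.Agent.H88.RkPsu

/-!
# `PSU₃(q)`, `q` odd, has no TI subgroup of even order with small normalizer (helper355)
-/

set_option autoImplicit false
set_option linter.unusedSectionVars false

open Cfsg Matrix

namespace Cfsg.Agent.H355.TwoPoint

open TIHall Cfsg.Agent.H88

section

variable {G : Type*} [Group G] [Finite G] [IsSimpleGroup G] {D : Subgroup G}

theorem ETI.false_of_rk (h : ETI D) (hD : D ≠ ⊥) (hD' : D ≠ ⊤) {p : ℕ} {H S Φ : Subgroup G} {w : G}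
    (R : Rk p H S Φ w) (hp2 : p ≠ 2) (hpD : p ∣ Nat.card D) (hodd : ¬ 2 ∣ (Subgroup.normalizer (D : Set G)).index) :
    False := by
  have : Fact p.Prime := ⟨R.prime⟩
  obtain ⟨a, ha0, ha⟩ := R.exists_card
  have hS : ¬ p ∣ S.index := by
    have h1 := S.card_mul_index
    rw [R.card_eq] at h1
    have h2 : S.index = (Nat.card S + 1) * Nat.card (tor H w) := by
      apply Nat.eq_of_mul_eq_mul_left (Nat.card_pos (α := S))
      rw [h1]; ring
    rw [h2]
    intro h3
    rcases (Nat.Prime.dvd_mul R.prime).1 h3 with h4 | h4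
    · have h5 : p ∣ Nat.card S := by rw [ha]; exact dvd_pow_self p ha0.ne'
      exact R.prime.one_lt.ne' (Nat.dvd_one.1 ((Nat.dvd_add_right h5).1 h4))
    · exact R.cop h4
  let S' : Sylow p G := R.pgrp.toSylow hS
  have hS' : (S' : Subgroup G) = S := rfl
  obtain ⟨P, hP, -, hdvd⟩ := h.exists_sylow hp2 hpD
  have hPc : Nat.card (P : Subgroup G) = Nat.card S := by
    rw [P.card_eq_multiplicity, ← hS', S'.card_eq_multiplicity]
  have hP1 : (P : Subgroup G) ≠ ⊥ := by
    intro h1
    rw [h1, Subgroup.card_bot, ha] at hPc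
    have := Nat.one_lt_pow ha0.ne' R.prime.one_lt
    omega
  have hi : (Subgroup.normalizer ((P : Subgroup G) : Set G)).index = Nat.card S + 1 := by
    have h8 := Sylow.card_eq_index_normalizer P
    have h9 := Sylow.card_eq_index_normalizer S'
    have h10 : (Subgroup.normalizer ((S' : Subgroup G) : Set G)).index = Nat.card S + 1 := by
      rw [hS', R.data.normalizer_eq R.ne, R.data.index]
    exact (h8.symm.trans h9).trans h10
  have h1 := Subgroup.index_dvd_of_le (h.normalizer_le hP hP1)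
  rw [hi] at h1
  rw [hPc] at hdvd
  have h2 := h.index_ne_one hD hD'
  have h3 : (Subgroup.normalizer (D : Set G)).index ≠ 0 := Subgroup.index_ne_zero_of_finite
  have h4 := Nat.le_of_dvd (by omega) h1
  have h5 := Nat.le_of_dvd (by omega) hdvd
  have h6 : (Subgroup.normalizer (D : Set G)).index = Nat.card S + 1 := by omega
  apply hodd
  rw [h6, ha]
  have h7 : Odd (p ^ a) := (R.prime.odd_of_ne_two hp2).pow
  exact even_iff_two_dvd.1 h7.add_one

end

section

variable {F : Type*} [Field F] [Fintype F] {q : ℕ}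

open L3

/-- an involution commuting with a transvection -/
theorem exists_commute_psu {G : Type*} [Group G] (hF : Fintype.card F = q ^ 2) (h2 : (2 : F) ≠ 0)
    (e : G ≃* Cfsg.PSU 3 F q) {p : ℕ} [Fact p.Prime] [CharP F p] :
    ∃ z x : G, orderOf z = 2 ∧ orderOf x = p ∧ x * z = z * x := by
  classical
  obtain ⟨σ, hσ⟩ := ClassicalGeometry.GUBasic.exists_powHom hF
  have C := ctxU hF hσ e
  have hσσ : ∀ x, σ (σ x) = x := by
    intro x
    rw [hσ, hσ, ← pow_mul, ← pow_two, ← hF, FiniteField.pow_card]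
  -- numbers
  have hodd : Fintype.card F % 2 = 1 := by
    apply FiniteField.odd_card_of_char_ne_two
    intro h
    have := ringChar.of_eq h
    exact h2 (by exact_mod_cast CharP.cast_eq_zero F 2)
  have hqodd : q % 2 = 1 := by
    by_contra hq
    have hq0 : Even q := by
      rw [Nat.even_iff]
      omega
    have h1 : Even (q ^ 2) := hq0.pow_of_ne_zero two_ne_zero
    rw [← hF, Nat.even_iff] at h1
    omega
  obtain ⟨g, hg⟩ := IsCyclic.exists_generator (α := Fˣ)
  obtain ⟨j, hj⟩ : ∃ j : ℕ, q = 2 * j + 1 := ⟨q / 2, by omega⟩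
  have hord : orderOf g = q ^ 2 - 1 := by
    rw [orderOf_eq_card_of_forall_mem_zpowers hg, Nat.card_eq_fintype_card, Fintype.card_units, hF]
  have hq2 : q ^ 2 - 1 = 2 * (2 * (j * (j + 1))) := by
    rw [hj]
    have h3 : (2 * j + 1) ^ 2 = 2 * (2 * (j * (j + 1))) + 1 := by ring
    rw [h3, Nat.add_sub_cancel]
  have hj0 : 0 < 2 * (j * (j + 1)) := by
    rcases Nat.eq_zero_or_pos j with h | h
    · exfalso
      rw [h] at hj
      have h5 := Fintype.one_lt_card (α := F)
      rw [hF, hj] at h5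
      simp at h5
    · positivity
  have hgm : (g : F) ^ (2 * (j * (j + 1))) = -1 := by
    have h6 : ((g : F) ^ (2 * (j * (j + 1)))) ^ 2 = 1 := by
      rw [← pow_mul, mul_comm _ 2, ← hq2, ← hord, ← Units.val_pow_eq_pow_val, pow_orderOf_eq_one, Units.val_one]
    have h7 : (g : F) ^ (2 * (j * (j + 1))) ≠ 1 := by
      intro h
      rw [← Units.val_pow_eq_pow_val, Units.val_eq_one] at h
      have := Nat.le_of_dvd hj0 (orderOf_dvd_of_pow_eq_one h)
      rw [hord, hq2] at this
      omega
    have h8 : ((g : F) ^ (2 * (j * (j + 1))) - 1) * ((g : F) ^ (2 * (j * (j + 1))) + 1) = 0 := by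
      linear_combination h6
    rcases mul_eq_zero.1 h8 with h | h
    · exact absurd (sub_eq_zero.1 h) h7
    · exact eq_neg_of_add_eq_zero_left h
  set ω : F := (g : F) ^ j with hω
  set l : F := (g : F) ^ (j + 1) with hl
  have hl0 : l ≠ 0 := pow_ne_zero _ g.ne_zero
  have hωω : ω * σ ω = -1 := by
    rw [hσ, ← pow_succ', hω, ← pow_mul, ← hgm, hj]
    congr 1; ring
  have hσl : σ l = -l := by
    rw [hσ, hj, pow_succ, hl, ← pow_mul]
    have h3 : (g : F) ^ ((j + 1) * (2 * j)) = -1 := by
      rw [← hgm]; congr 1; ring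
    rw [h3]; ring
  have hσω := hσσ ω
  set ω' : F := σ ω with hω'
  clear_value ω l ω'
  clear hω hl
  -- the transvection
  set v : Fin 3 → F := ![l, l * ω, 0] with hv
  set φ : Fin 3 → F := ![1, ω', 0] with hφ
  have hvφ : vecMulVec v φ = !![l, l * ω', 0; l * ω, -l, 0; 0, 0, 0] := by
    ext i j
    fin_cases i <;> fin_cases j <;> simp [vecMulVec_apply, hv, hφ]
    rw [mul_assoc, hωω, mul_neg, mul_one]
  have hNN : vecMulVec v φ * vecMulVec v φ = 0 := by
    rw [hvφ]
    ext i j
    fin_cases i <;> fin_cases j <;> simp [Matrix.mul_apply, Fin.sum_univ_three]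
    · linear_combination l * l * hωω
    · ring
    · ring
    · linear_combination l * l * hωω
  have hdet : det (1 + vecMulVec v φ) = 1 := by
    rw [hvφ, det_fin_three]
    simp
    linear_combination -l * l * hωω
  have hst : st σ (vecMulVec v φ) = - vecMulVec v φ := by
    rw [hvφ]
    ext i j
    fin_cases i <;> fin_cases j <;> simp [st_apply, hσl, hσω, ← hω']
  have hU1 : U σ (1 + vecMulVec v φ) := by
    show st σ (1 + vecMulVec v φ) * (1 + vecMulVec v φ) = 1
    rw [st_add, st_one, hst]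
    simp only [add_mul, mul_add, one_mul, mul_one, neg_mul, hNN]
    abel_nf
  set d : Cfsg.SU 3 F q := ⟨⟨_, hdet⟩, mem_SU hσ ⟨_, hdet⟩ hU1⟩ with hd
  -- the involution
  have hdz : det (diagonal ![(-1 : F), -1, 1]) = 1 := by
    rw [det_diagonal, Fin.prod_univ_three]; simp
  have hUz : U σ (diagonal ![(-1 : F), -1, 1]) := by
    show st σ (diagonal ![(-1 : F), -1, 1]) * diagonal ![(-1 : F), -1, 1] = 1
    ext i j
    fin_cases i <;> fin_cases j <;> simp [Matrix.mul_apply, Fin.sum_univ_three, st_apply, diagonal]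
  set z : Cfsg.SU 3 F q := ⟨⟨_, hdz⟩, mem_SU hσ ⟨_, hdz⟩ hUz⟩ with hz
  have hzz : z * z = 1 := by
    apply Subtype.ext
    apply Subtype.ext
    show diagonal ![(-1 : F), -1, 1] * diagonal ![(-1 : F), -1, 1] = 1
    rw [diagonal_mul_diagonal, ← diagonal_one]
    congr 1
    ext k
    fin_cases k <;> simp
  have hz1 : πU e z ≠ 1 := by
    intro h1
    obtain ⟨c, hc⟩ := C.ker z h1
    have hc' : diagonal ![(-1 : F), -1, 1] = c • (1 : Matrix (Fin 3) (Fin 3) F) := hc
    have h3 := congrFun (congrFun hc' 0) 0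
    have h4 := congrFun (congrFun hc' 2) 2
    simp at h3 h4
    apply h2
    have h5 : (1 : F) = -1 := h4.trans h3.symm
    linear_combination h5
  have hd1 : πU e d ≠ 1 := by
    intro h1
    obtain ⟨c, hc⟩ := C.ker d h1
    have hc' : 1 + vecMulVec v φ = c • (1 : Matrix (Fin 3) (Fin 3) F) := hc
    rw [hvφ] at hc'
    have h3 := congrFun (congrFun hc' 0) 0
    have h4 := congrFun (congrFun hc' 2) 2
    simp at h3 h4
    rw [← h4] at h3
    exact hl0 (by linear_combination h3)
  have hdp : d ^ p = 1 := by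
    have h3 : ∀ n : ℕ, ((1 : Matrix (Fin 3) (Fin 3) F) + vecMulVec v φ) ^ n = 1 + (n : F) • vecMulVec v φ := by
      intro n
      induction n with
      | zero => simp
      | succ n ih =>
        rw [pow_succ, ih]
        simp only [add_mul, mul_add, one_mul, mul_one, smul_mul_assoc, hNN, smul_zero, add_zero]
        push_cast
        module
    apply Subtype.ext
    apply Subtype.ext
    show ((1 : Matrix (Fin 3) (Fin 3) F) + vecMulVec v φ) ^ p = 1
    rw [h3, CharP.cast_eq_zero, zero_smul, add_zero]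
  have hcomm : d * z = z * d := by
    apply Subtype.ext
    apply Subtype.ext
    show (1 + vecMulVec v φ) * diagonal ![(-1 : F), -1, 1] = diagonal ![(-1 : F), -1, 1] * (1 + vecMulVec v φ)
    rw [hvφ]
    ext i j
    fin_cases i <;> fin_cases j <;> simp [Matrix.mul_apply, Fin.sum_univ_three, diagonal, Matrix.one_apply]
  refine ⟨πU e z, πU e d, orderOf_eq_prime (by rw [← map_pow, pow_two, hzz, map_one]) hz1,
    orderOf_eq_prime (by rw [← map_pow, hdp, map_one]) hd1, ?_⟩
  rw [← map_mul, ← map_mul, hcomm]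

variable {G : Type*} [Group G] [Finite G] [IsSimpleGroup G] {D : Subgroup G}

/-- **`PSU₃(q)`, `q` odd.** -/
theorem false_of_psu3 (hF : Fintype.card F = q ^ 2) (h2 : (2 : F) ≠ 0) (e : G ≃* Cfsg.PSU 3 F q) (h : ETI D)
    (hD : D ≠ ⊥) (hD' : D ≠ ⊤) (heven : Even (Nat.card D))
    (hone : ∀ x y : G, orderOf x = 2 → orderOf y = 2 → IsConj x y) : False := by
  obtain ⟨p, hp⟩ := CharP.exists F
  have hpp : Fact p.Prime := ⟨CharP.char_is_prime F p⟩
  have hp2 : p ≠ 2 := by
    rintro rfl
    exact h2 (by exact_mod_cast CharP.cast_eq_zero F 2)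
  have hq : 3 ≤ q := by
    have h1 : q ≠ 0 := by
      rintro rfl
      have := Fintype.one_lt_card (α := F)
      rw [hF] at this
      norm_num at this
    have h3 : q ≠ 1 := by
      rintro rfl
      have := Fintype.one_lt_card (α := F)
      rw [hF] at this
      norm_num at this
    have h4 : q ≠ 2 := by
      rintro rfl
      have h5 : p ∣ Fintype.card F := by
        obtain ⟨n, -, hn⟩ := FiniteField.card F p
        rw [hn]
        exact dvd_pow_self p n.ne_zero
      rw [hF] at h5
      exact hp2 ((Nat.prime_dvd_prime_iff_eq hpp.out Nat.prime_two).1 (hpp.out.dvd_of_dvd_pow h5))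
    omega
  obtain ⟨r, H, S, Φ, w, R, hS⟩ := RkPsu.exists_rk hF hq e
  have hrp : r = p := by
    obtain ⟨a, ha0, ha⟩ := R.exists_card
    have h5 : p ∣ Fintype.card F := by
      obtain ⟨n, -, hn⟩ := FiniteField.card F p
      rw [hn]
      exact dvd_pow_self p n.ne_zero
    rw [hF] at h5
    have h6 := hpp.out.dvd_of_dvd_pow h5
    have h7 : p ∣ r ^ a := by
      rw [← ha, hS]
      exact dvd_pow h6 (by norm_num)
    exact ((Nat.prime_dvd_prime_iff_eq hpp.out R.prime).1 (hpp.out.dvd_of_dvd_pow h7)).symm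
  rw [hrp] at R
  obtain ⟨z, x, hz, hx, hxz⟩ := exists_commute_psu hF h2 e (p := p)
  exact h.false_of_rk hD hD' R hp2 (h.dvd_card_of_commute heven hone hz hpp.out hp2 hx hxz) (h.odd_index heven hone)

end

end Cfsg.Agent.H355.TwoPoint
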