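import Cfsg.Agent.H355.SylowTwo

/-!
# Sylow 2-subgroups of transitive groups of fixity two, the index two case
-/

set_option autoImplicit false
set_option linter.unusedSectionVars false

namespace Cfsg.Agent.H355.SylowTwoMain

open MulAction Subgroup Cfsg.Agent.H355.SylowTwo

variable {G : Type*} [Group G] [Finite G] {Ω : Type*} [Finite Ω] [MulAction G Ω]

/-- any element outside a normal subgroup of index two has a power which is a 2-element
outside that subgroup -/
theorem exists_two_element {N : Subgroup G} (hN : N.index = 2) {h : G} (hh : h ∉ N) :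
    ∃ m : ℕ, h ^ m ∉ N ∧ ∃ k, orderOf (h ^ m) = 2 ^ k := by
  obtain ⟨k, m, hm, hkm⟩ := Nat.exists_eq_two_pow_mul_odd (n := orderOf h) (orderOf_pos h).ne'
  have hm0 : m ≠ 0 := by rintro rfl; exact absurd hm (by decide)
  refine ⟨m, ?_, k, ?_⟩
  · intro hmem
    apply hh
    obtain ⟨j, hj⟩ := hm
    rw [hj, pow_succ, pow_mul] at hmem
    have h2 : h ^ 2 ∈ N := Subgroup.sq_mem_of_index_two hN h
    exact (Subgroup.mul_mem_cancel_left N (N.pow_mem h2 j)).1 hmem
  · rw [orderOf_pow_of_dvd hm0 ⟨2 ^ k, by rw [hkm, mul_comm]⟩, hkm]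
    exact Nat.mul_div_cancel _ (Nat.pos_of_ne_zero hm0)

/-- **Step D** -/
theorem step_d [FaithfulSMul G Ω] (htr : IsPretransitive G Ω)
    (hfix : ∀ g : G, g ≠ 1 → Nat.card (fixedBy Ω g) ≤ 2) (S : Sylow 2 G) {α : Ω}
    (hSα : ¬ (S : Subgroup G) ≤ stabilizer G α) (hne : (S : Subgroup G) ⊓ stabilizer G α ≠ ⊥)
    (hidx : ((S : Subgroup G) ⊓ stabilizer G α).relIndex S = 2)
    {x : G} (hxS : x ∈ S) (hxα : x • α ≠ α)
    (hfree : ∀ ω : Ω, ω ≠ α → ω ≠ x • α → ∀ s ∈ S, s • ω = ω → s = 1) :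
    ∃ N : Subgroup G, N.Normal ∧ N.index = 2 ∧ (∃ H : Subgroup ↥N, Cfsg.IsFrobeniusComplement H) := by
  classical
  have : Fact (Nat.Prime 2) := ⟨Nat.prime_two⟩
  set β := x • α with hβ
  set P := (S : Subgroup G) ⊓ stabilizer G α with hP
  have hαβ : α ≠ β := fun h => hxα h.symm
  have hPmem : ∀ s, s ∈ P ↔ s ∈ S ∧ s • α = α := fun s => by
    rw [hP]; exact mem_inf_stab
  have hmul : ∀ a ∈ S, ∀ b ∈ S, (a * b ∈ P ↔ (a ∈ P ↔ b ∈ P)) := by
    intro a ha b hb
    have h1 : (P.subgroupOf (S : Subgroup G)).index = 2 := hidx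
    exact Subgroup.mul_mem_iff_of_index_two h1 (a := ⟨a, ha⟩) (b := ⟨b, hb⟩)
  have hPn : ∀ s ∈ S, ∀ p ∈ P, s * p * s⁻¹ ∈ P := by
    intro s hs p hp
    have h1 := (hmul (s * p) (mul_mem hs hp.1) s⁻¹ (inv_mem hs)).2
    apply h1
    have h2 := hmul s hs p hp.1
    rw [h2, inv_mem_iff]
    tauto
  have hPβ : ∀ p ∈ P, p • β = β := by
    intro p hp
    have h1 := hPn x⁻¹ (inv_mem hxS) p hp
    rw [inv_inv] at h1
    have h2 : (x⁻¹ * p * x) • α = α := ((hPmem _).1 h1).2
    have h3 : p • β = x • (x⁻¹ * p * x) • α := by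
      rw [hβ]; simp only [← mul_smul]; congr 1; group
    rw [h3, h2]
  -- elements of `S` outside `P` have no fixed point
  have hnofix : ∀ s ∈ S, s ∉ P → ∀ ω : Ω, s • ω ≠ ω := by
    intro s hs hsP ω hω
    by_cases h1 : ω = α
    · subst h1
      exact hsP ((hPmem _).2 ⟨hs, hω⟩)
    by_cases h2 : ω = β
    · subst h2
      apply hsP
      have h3 : x⁻¹ * s * x ∈ P := by
        rw [hPmem]
        refine ⟨mul_mem (mul_mem (inv_mem hxS) hs) hxS, ?_⟩
        rw [mul_smul, mul_smul, ← hβ, hω, hβ, inv_smul_smul]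
      have h4 := hPn x hxS _ h3
      have : x * (x⁻¹ * s * x) * x⁻¹ = s := by group
      rwa [this] at h4
    · have h3 := hfree ω h1 h2 s hs hω
      rw [h3] at hsP
      exact hsP P.one_mem
  -- a 2-element with a fixed point which is conjugate into `S` is conjugate into `P`
  have hconj : ∀ g t : G, ∀ ω : Ω, t • ω = ω → g * t * g⁻¹ ∈ S → g * t * g⁻¹ ∈ P := by
    intro g t ω ht hgt
    by_contra hcon
    apply hnofix _ hgt hcon (g • ω)
    rw [← mul_smul, inv_mul_cancel_right, mul_smul, ht]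
  obtain ⟨p₀, hp₀⟩ : ∃ p ∈ P, p ≠ 1 := by
    by_contra hcon
    push Not at hcon
    apply hne
    rw [eq_bot_iff]
    intro p hp
    exact hcon p hp
  have hxP : x ∉ P := fun h => hxα ((hPmem _).1 h).2
  -- the focal subgroup
  have hfocal : (S : Subgroup G).focalSubgroup ≤ P := by
    rw [focalSubgroup_def, closure_le]
    rintro g ⟨hgS, a, haS, u, hg⟩
    -- `g = a (u a⁻¹ u⁻¹)`
    have hg' : g = a * (u * a⁻¹ * u⁻¹) := by rw [hg, commutatorElement_def]; group
    have hb : u * a⁻¹ * u⁻¹ ∈ S := by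
      have : u * a⁻¹ * u⁻¹ = a⁻¹ * g := by rw [hg']; group
      rw [this]
      exact mul_mem (inv_mem haS) hgS
    rw [SetLike.mem_coe, hg', hmul a haS _ hb]
    constructor
    · intro ha
      exact hconj u a⁻¹ α (P.inv_mem ha).2 hb
    · intro h
      have h1 := hconj u⁻¹ (u * a⁻¹ * u⁻¹) α h.2 (by
        have : u⁻¹ * (u * a⁻¹ * u⁻¹) * u⁻¹⁻¹ = a⁻¹ := by group
        rw [this]; exact inv_mem haS)
      have h2 : u⁻¹ * (u * a⁻¹ * u⁻¹) * u⁻¹⁻¹ = a⁻¹ := by group
      rw [h2] at h1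
      exact (P.inv_mem_iff).1 h1
  obtain ⟨N, hNn, hN2, hNS⟩ := FocalTwo.exists_index_two S P inf_le_left hidx hfocal
  have hxN : x ∉ N := fun h => hxP ((hNS x hxS).1 h)
  -- 2-elements with a fixed point are in `N`
  have h2el : ∀ t : G, (∃ k, orderOf t = 2 ^ k) → ∀ ω : Ω, t • ω = ω → t ∈ N := by
    rintro t ⟨k, hk⟩ ω hω
    have hp : IsPGroup 2 (Subgroup.zpowers t) := by
      apply IsPGroup.of_card (n := k)
      rw [Nat.card_zpowers, hk]
    obtain ⟨R, hR⟩ := hp.exists_le_sylow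
    obtain ⟨g, hg⟩ := exists_smul_eq G R S
    have h1 : g * t * g⁻¹ ∈ S := by
      have h2 : g * t * g⁻¹ ∈ ((g • R : Sylow 2 G) : Subgroup G) := by
        rw [Sylow.coe_subgroup_smul]
        exact ⟨t, hR (Subgroup.mem_zpowers t), rfl⟩
      rw [hg] at h2
      exact h2
    have h3 := hconj g t ω hω h1
    have h4 := (hNS _ h1).2 h3
    have h5 := hNn.conj_mem _ h4 g⁻¹
    have : g⁻¹ * (g * t * g⁻¹) * g⁻¹⁻¹ = t := by group
    rwa [this] at h5
  have hstab : ∀ ω : Ω, stabilizer G ω ≤ N := by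
    intro ω h hh
    by_contra hcon
    obtain ⟨m, hm1, hm2⟩ := exists_two_element hN2 hcon
    exact hm1 (h2el _ hm2 ω ((stabilizer G ω).pow_mem hh m))
  refine ⟨N, hNn, hN2, (stabilizer G α).subgroupOf N, ?_, ?_, ?_⟩
  · intro h
    rw [Subgroup.subgroupOf_eq_bot] at h
    have h1 : p₀ ∈ (⊥ : Subgroup G) := by
      rw [← h.eq_bot]
      exact ⟨hp₀.1.2, hstab α hp₀.1.2⟩
    exact hp₀.2 (Subgroup.mem_bot.1 h1)
  · intro h
    rw [Subgroup.subgroupOf_eq_top] at h
    -- then the stabilizer is normal, so trivial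
    apply hp₀.2
    apply FaithfulSMul.eq_of_smul_eq_smul (α := Ω)
    intro ω
    obtain ⟨g, rfl⟩ := exists_smul_eq G α ω
    have h1 : g⁻¹ * p₀ * g ∈ N := by
      have := hNn.conj_mem _ (hstab α hp₀.1.2) g⁻¹
      rwa [inv_inv] at this
    have h2 : (g⁻¹ * p₀ * g) • α = α := h h1
    have h3 : p₀ • g • α = g • (g⁻¹ * p₀ * g) • α := by
      simp only [← mul_smul]; congr 1; group
    rw [h3, h2, one_smul]
  · rintro ⟨g, hgN⟩ hg
    have hgα : g • α ≠ α := fun h => hg h
    rw [eq_bot_iff]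
    rintro ⟨d, hdN⟩ ⟨hd1, hd2⟩
    rw [Subgroup.mem_bot]
    by_contra hd0
    have hd0' : d ≠ 1 := fun h => hd0 (Subtype.ext h)
    have hdα : d • α = α := hd1
    set γ := g • α with hγ
    have hdγ : d • γ = γ := by
      obtain ⟨⟨e, heN⟩, he, hde⟩ := hd2
      have he' : e • α = α := he
      have hde' : g * e * g⁻¹ = d := congrArg Subtype.val hde
      rw [← hde', hγ, mul_smul, mul_smul, inv_smul_smul, he']
    have hγα : γ ≠ α := hgα
    -- a power of prime order
    obtain ⟨q, hq, hqd⟩ := Nat.exists_prime_and_dvd (fun h => hd0' (orderOf_eq_one_iff.1 h))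
    have : Fact q.Prime := ⟨hq⟩
    obtain ⟨m, hm⟩ := hqd
    have hpos : 0 < orderOf d := orderOf_pos d
    have hm0 : m ≠ 0 := by rintro rfl; omega
    have hord : orderOf (d ^ m) = q := by
      rw [orderOf_pow_of_dvd hm0 ⟨q, by rw [hm, mul_comm]⟩, hm,
        Nat.mul_div_cancel _ (Nat.pos_of_ne_zero hm0)]
    have hcα : (d ^ m) • α = α := (stabilizer G α).pow_mem hdα m
    have hcγ : (d ^ m) • γ = γ := (stabilizer G γ).pow_mem hdγ m
    generalize d ^ m = c at hord hcα hcγ
    have hc1 : c ≠ 1 := by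
      intro h1
      rw [h1, orderOf_one] at hord
      exact hq.one_lt.ne hord
    have hcp : IsPGroup q (Subgroup.zpowers c) := by
      apply IsPGroup.of_card (n := 1)
      rw [Nat.card_zpowers, hord, pow_one]
    by_cases hq2 : q = 2
    · subst hq2
      obtain ⟨R, hR⟩ := hcp.exists_le_sylow
      obtain ⟨y, hy⟩ := exists_smul_eq G R S
      have h1 : y * c * y⁻¹ ∈ S := by
        have h2 : y * c * y⁻¹ ∈ ((y • R : Sylow 2 G) : Subgroup G) := by
          rw [Sylow.coe_subgroup_smul]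
          exact ⟨c, hR (Subgroup.mem_zpowers c), rfl⟩
        rw [hy] at h2
        exact h2
      have h3 := hconj y c α hcα h1
      have h3' : y * c * y⁻¹ ≠ 1 := by
        intro h
        apply hc1
        have : c = y⁻¹ * (y * c * y⁻¹) * y := by group
        rw [this, h]; group
      have hyα : (y * c * y⁻¹) • y • α = y • α := by
        rw [← mul_smul, inv_mul_cancel_right, mul_smul, hcα]
      have hyγ : (y * c * y⁻¹) • y • γ = y • γ := by
        rw [← mul_smul, inv_mul_cancel_right, mul_smul, hcγ]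
      have e1 := fixed_eq hfix hαβ h3' h3.2 (hPβ _ h3) hyα
      have e2 := fixed_eq hfix hαβ h3' h3.2 (hPβ _ h3) hyγ
      have hne' : y • α ≠ y • γ := fun h => hγα (smul_left_cancel y h).symm
      rcases e1 with e1 | e1 <;> rcases e2 with e2 | e2
      · exact hne' (e1.trans e2.symm)
      · -- `y ∈ N`, `y γ = β`
        have hyN : y ∈ N := hstab α e1
        have h5 : x⁻¹ * (y * g) ∈ stabilizer G α := by
          rw [mem_stabilizer_iff, mul_smul, mul_smul, ← hγ, e2, hβ, inv_smul_smul]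
        have h6 := hstab α h5
        apply hxN
        have h7 : x⁻¹ ∈ N := (Subgroup.mul_mem_cancel_right N (N.mul_mem hyN hgN)).1 h6
        exact (N.inv_mem_iff).1 h7
      · have h5 : y * g ∈ N := by
          apply hstab α
          rw [mem_stabilizer_iff, mul_smul, ← hγ, e2]
        have hyN : y ∈ N := (Subgroup.mul_mem_cancel_right N hgN).1 h5
        have h6 : x⁻¹ * y ∈ stabilizer G α := by
          rw [mem_stabilizer_iff, mul_smul, e1, hβ, inv_smul_smul]
        have h7 := hstab α h6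
        apply hxN
        have h8 : x⁻¹ ∈ N := (Subgroup.mul_mem_cancel_right N hyN).1 h7
        exact (N.inv_mem_iff).1 h8
      · exact hne' (e1.trans e2.symm)
    · have hq3 : 2 < q := by
        have := hq.two_le
        omega
      obtain ⟨Q, hQ⟩ := hcp.exists_le_sylow
      have hcQ : c ∈ (Q : Subgroup G) := hQ (Subgroup.mem_zpowers _)
      have hQα := le_stabilizer_of_lt hfix hq3 Q.2 α c hcQ hcα hc1
      have hQγ := le_stabilizer_of_lt hfix hq3 Q.2 γ c hcQ hcγ hc1
      have hQN : (Q : Subgroup G) ≤ N := hQα.trans (hstab α)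
      have hfr := Sylow.normalizer_sup_eq_top' (N := N) Q hQN
      have hx : x ∈ Subgroup.normalizer (Q : Set G) ⊔ N := by
        rw [hfr]; trivial
      obtain ⟨y, hy', n, hn, hyn⟩ := Subgroup.mem_sup_of_normal_right.1 hx
      have hy : y ∈ Subgroup.normalizer ((Q : Subgroup G) : Set G) := hy'
      -- `y` moves `α` to `α` or `γ`
      have h1 : c • y • α = y • α := smul_smul_eq_of_mem_normalizer hQα hy hcQ
      have hyN : y ∈ N := by
        rcases fixed_eq hfix hγα.symm hc1 hcα hcγ h1 with h | h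
        · exact hstab α h
        · have h5 : g⁻¹ * y ∈ N := by
            apply hstab α
            rw [mem_stabilizer_iff, mul_smul, h, hγ, inv_smul_smul]
          have := N.mul_mem hgN h5
          rwa [mul_inv_cancel_left] at this
      apply hxN
      rw [← hyn]
      exact N.mul_mem hyN hn

end Cfsg.Agent.H355.SylowTwoMain
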