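import Cfsg.Agent.H355.TwoPoint

/-!
# TI subgroups of even order with small normalizer (helper355)
-/

set_option autoImplicit false
set_option linter.unusedSectionVars false

open Cfsg

namespace Cfsg.Agent.H355.TwoPoint

open MulAction TIHall SylowTwo
open scoped Pointwise

namespace ETI

variable {G : Type*} [Group G] {D : Subgroup G} (h : ETI D) [Finite G]

include h

/-- `|D|` divides `2 (|G : N(D)| - 1)` -/
theorem dvd_two_mul : Nat.card D ∣ 2 * ((Subgroup.normalizer (D : Set G)).index - 1) := by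
  classical
  set N := Subgroup.normalizer (D : Set G) with hN
  have hDN : D ≤ N := Subgroup.le_normalizer
  have key : ∀ x ∈ D, x ≠ 1 → ∀ g : G, g⁻¹ * x * g ∈ D → g ∈ N := by
    intro x hx hx1 g hg
    have h3 : g⁻¹ ∈ N := h.ti g⁻¹ x hx hx1 (by rwa [inv_inv])
    have := inv_mem h3
    rwa [inv_inv] at this
  -- the action on the other cosets
  let X := {c : G ⧸ N // c ≠ ((1 : G) : G ⧸ N)}
  let _ : MulAction D X :=
    { smul := fun x c => ⟨(x : G) • c.1, by
        intro h1
        apply c.2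
        obtain ⟨g, hg⟩ := QuotientGroup.mk_surjective c.1
        rw [← hg] at h1 ⊢
        have h2 : (((x : G) * g : G) : G ⧸ N) = ((1 : G) : G ⧸ N) := h1
        rw [eq_comm, QuotientGroup.eq, inv_one, one_mul] at h2
        rw [eq_comm, QuotientGroup.eq, inv_one, one_mul]
        exact (Subgroup.mul_mem_cancel_left N (hDN x.2)).1 h2⟩
      one_smul := fun c => Subtype.ext (one_smul G c.1)
      mul_smul := fun x y c => Subtype.ext (mul_smul (x : G) (y : G) c.1) }
  have hmem : ∀ (c : X) (g : G), ((g : G ⧸ N) = c.1) → ∀ x : D, x ∈ stabilizer D c → g⁻¹ * (x : G) * g ∈ N := by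
    intro c g hg x hx
    have hx1 : (x : G) • c.1 = c.1 := congrArg Subtype.val (mem_stabilizer_iff.1 hx)
    rw [← hg] at hx1
    have h2 : (((x : G) * g : G) : G ⧸ N) = (g : G ⧸ N) := hx1
    rwa [eq_comm, QuotientGroup.eq, ← mul_assoc] at h2
  have hstab : ∀ c : X, ∀ x ∈ stabilizer D c, ∀ y ∈ stabilizer D c, x ≠ 1 → y ≠ 1 → x * y = 1 := by
    intro c x hx y hy hx1 hy1
    obtain ⟨g, hg⟩ := QuotientGroup.mk_surjective c.1
    have hgN : g ∉ N := by
      intro h1
      apply c.2
      rw [← hg, eq_comm, QuotientGroup.eq, inv_one, one_mul]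
      exact h1
    have hxN := hmem c g hg x hx
    have hyN := hmem c g hg y hy
    have hx1' : (x : G) ≠ 1 := fun h1 => hx1 (Subtype.ext h1)
    have hy1' : (y : G) ≠ 1 := fun h1 => hy1 (Subtype.ext h1)
    have h1 := h.mul _ _ hxN hyN (fun h2 => hgN (key x x.2 hx1' g h2)) (fun h2 => hgN (key y y.2 hy1' g h2))
    have h2 : g⁻¹ * (x : G) * g * (g⁻¹ * (y : G) * g) = g⁻¹ * ((x : G) * y) * g := by group
    rw [h2] at h1
    by_contra hne
    exact hgN (key _ (mul_mem x.2 y.2) (fun h3 => hne (Subtype.ext h3)) g h1)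
  have hcard : ∀ c : X, Nat.card (stabilizer D c) ∣ 2 := by
    intro c
    by_cases h1 : stabilizer D c = ⊥
    · rw [h1, Subgroup.card_bot]; exact one_dvd 2
    · obtain ⟨x, hx, hx1⟩ : ∃ x ∈ stabilizer D c, x ≠ 1 := by
        by_contra hcon
        push Not at hcon
        exact h1 ((Subgroup.eq_bot_iff_forall _).2 hcon)
      have h2 : stabilizer D c = Subgroup.zpowers x := by
        apply le_antisymm
        · intro y hy
          by_cases hy1 : y = 1
          · rw [hy1]; exact one_mem _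
          · have h3 := hstab c x hx y hy hx1 hy1
            have h4 := hstab c x hx x hx hx1 hx1
            have h5 : y = x := by
              rw [eq_inv_of_mul_eq_one_right h3]
              exact (eq_inv_of_mul_eq_one_right h4).symm
            rw [h5]; exact Subgroup.mem_zpowers x
        · rw [Subgroup.zpowers_le]; exact hx
      rw [h2, Nat.card_zpowers]
      apply orderOf_dvd_of_pow_eq_one
      rw [pow_two]
      exact hstab c x hx x hx hx1 hx1
  have h2 : Nat.card X = N.index - 1 := by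
    have : Fintype (G ⧸ N) := Fintype.ofFinite _
    rw [Subgroup.index, Nat.card_eq_fintype_card, Nat.card_eq_fintype_card]
    show Fintype.card {c : G ⧸ N // ¬ (c = ((1 : G) : G ⧸ N))} = _
    rw [Fintype.card_subtype_compl, Fintype.card_subtype_eq]
  rw [← h2]
  have e := selfEquivSigmaOrbitsQuotientStabilizer D X
  have : Fintype (Quotient (orbitRel D X)) := Fintype.ofFinite _
  rw [Nat.card_congr e, Nat.card_sigma, Finset.mul_sum]
  apply Finset.dvd_sum
  intro i _
  obtain ⟨k, hk⟩ := hcard i.out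
  have h3 := (stabilizer D i.out).card_mul_index
  rw [Subgroup.index] at h3
  refine ⟨k, ?_⟩
  rw [← h3, hk]
  ring

theorem dvd_card_of_commute (heven : Even (Nat.card D)) (hone : ∀ x y : G, orderOf x = 2 → orderOf y = 2 → IsConj x y)
    {z x : G} (hz : orderOf z = 2) {p : ℕ} (hp : p.Prime) (hp2 : p ≠ 2) (hx : orderOf x = p) (hzx : x * z = z * x) :
    p ∣ Nat.card D := by
  have : Fact (Nat.Prime 2) := ⟨Nat.prime_two⟩
  obtain ⟨t, ht⟩ := exists_prime_orderOf_dvd_card' (G := D) 2 (even_iff_two_dvd.1 heven)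
  have ht' : orderOf (t : G) = 2 := by rw [Subgroup.orderOf_coe, ht]
  obtain ⟨g, hg⟩ := isConj_iff.1 (hone z t hz ht')
  have ht1 : (t : G) ≠ 1 := by
    intro h1
    rw [h1, orderOf_one] at ht'
    omega
  have h1 := h.mem_normalizer_of_commute (g := g * x * g⁻¹) t.2 ht1 (by
    rw [← hg]
    calc g * x * g⁻¹ * (g * z * g⁻¹) = g * (x * z) * g⁻¹ := by group
      _ = g * (z * x) * g⁻¹ := by rw [hzx]
      _ = _ := by group)
  have h2 : orderOf (g * x * g⁻¹) = p := by
    rw [← hx]
    exact orderOf_injective (MulAut.conj g).toMonoidHom (MulAut.conj g).injective x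
  have h3 := h.mem_of_odd h1 (by rw [h2]; exact hp.odd_of_ne_two hp2)
  have h4 := Subgroup.orderOf_dvd_natCard D h3
  rwa [h2] at h4

theorem odd_index (heven : Even (Nat.card D)) (hone : ∀ x y : G, orderOf x = 2 → orderOf y = 2 → IsConj x y) :
    ¬ 2 ∣ (Subgroup.normalizer (D : Set G)).index := by
  have : Fact (Nat.Prime 2) := ⟨Nat.prime_two⟩
  obtain ⟨t, ht⟩ := exists_prime_orderOf_dvd_card' (G := D) 2 (even_iff_two_dvd.1 heven)
  have ht' : orderOf (t : G) = 2 := by rw [Subgroup.orderOf_coe, ht]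
  have ht1 : (t : G) ≠ 1 := by
    intro h1
    rw [h1, orderOf_one] at ht'
    omega
  let S : Sylow 2 G := default
  have h2S : 2 ∣ Nat.card (S : Subgroup G) := by
    apply S.dvd_card_of_dvd_card
    exact (even_iff_two_dvd.1 heven).trans (Subgroup.card_subgroup_dvd_card D)
  have hnt : Nontrivial (S : Subgroup G) := by
    rw [← Finite.one_lt_card_iff_nontrivial]
    exact Nat.lt_of_lt_of_le (by norm_num) (Nat.le_of_dvd Nat.card_pos h2S)
  have hZ : Nontrivial (Subgroup.center (S : Subgroup G)) := S.isPGroup'.center_nontrivial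
  have h2Z : 2 ∣ Nat.card (Subgroup.center (S : Subgroup G)) := by
    obtain ⟨n, hn⟩ := IsPGroup.iff_card.1 (S.isPGroup'.to_subgroup (Subgroup.center (S : Subgroup G)))
    have h1 : 1 < Nat.card (Subgroup.center (S : Subgroup G)) := Finite.one_lt_card_iff_nontrivial.2 hZ
    rw [hn] at h1 ⊢
    rcases Nat.eq_zero_or_pos n with h0 | h0
    · rw [h0, pow_zero] at h1; omega
    · exact dvd_pow_self 2 h0.ne'
  obtain ⟨z, hz⟩ := exists_prime_orderOf_dvd_card' (G := Subgroup.center (S : Subgroup G)) 2 h2Z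
  have hz' : orderOf ((z : (S : Subgroup G)) : G) = 2 := by rw [Subgroup.orderOf_coe, Subgroup.orderOf_coe, hz]
  obtain ⟨g, hg⟩ := isConj_iff.1 (hone _ _ hz' ht')
  have hle : ∀ s ∈ (S : Subgroup G), g * s * g⁻¹ ∈ Subgroup.normalizer (D : Set G) := by
    intro s hs
    refine h.mem_normalizer_of_commute t.2 ht1 ?_
    have h3 : s * ((z : (S : Subgroup G)) : G) = z * s :=
      congrArg Subtype.val (Subgroup.mem_center_iff.1 z.2 ⟨s, hs⟩)
    rw [← hg]
    calc g * s * g⁻¹ * (g * ((z : (S : Subgroup G)) : G) * g⁻¹) = g * (s * ((z : (S : Subgroup G)) : G)) * g⁻¹ := by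
          group
      _ = g * (z * s) * g⁻¹ := by rw [h3]
      _ = _ := by group
  have hle' : ((g • S : Sylow 2 G) : Subgroup G) ≤ Subgroup.normalizer (D : Set G) := by
    intro x hx
    rw [Sylow.smul_def, Sylow.pointwise_smul_def, Subgroup.mem_smul_pointwise_iff_exists] at hx
    obtain ⟨z, hz, rfl⟩ := hx
    exact hle z hz
  intro h4
  exact (g • S).not_dvd_index (h4.trans (Subgroup.index_dvd_of_le hle'))

theorem index_ne_one [IsSimpleGroup G] (hD : D ≠ ⊥) (hD' : D ≠ ⊤) :
    (Subgroup.normalizer (D : Set G)).index ≠ 1 := by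
  intro h1
  rw [Subgroup.index_eq_one, Subgroup.normalizer_eq_top_iff] at h1
  rcases h1.eq_bot_or_eq_top with h2 | h2
  · exact hD h2
  · exact hD' h2

/-- the index of the normalizer, `p` odd -/
theorem exists_sylow {p : ℕ} [Fact p.Prime] (hp2 : p ≠ 2) (hpD : p ∣ Nat.card D) :
    ∃ P : Sylow p G, (P : Subgroup G) ≤ D ∧ (Subgroup.normalizer (D : Set G)).index ∣ (P : Subgroup G).index ∧
      Nat.card (P : Subgroup G) ∣ (Subgroup.normalizer (D : Set G)).index - 1 := by
  obtain ⟨P, hP⟩ := h.exists_sylow_le hp2 hpD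
  refine ⟨P, hP, Subgroup.index_dvd_of_le (hP.trans Subgroup.le_normalizer), h.dvd_index_sub_one hP ?_⟩
  obtain ⟨n, hn⟩ := IsPGroup.iff_card.1 P.isPGroup'
  rw [hn]
  exact ((Fact.out : p.Prime).odd_of_ne_two hp2).pow

end ETI

end Cfsg.Agent.H355.TwoPoint
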