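import Mathlib

/-!
# A normal subgroup of index two from the focal subgroup theorem
-/

set_option autoImplicit false

namespace Cfsg.Agent.H355.FocalTwo

open Subgroup

/-- If the focal subgroup of a Sylow 2-subgroup `S` lies in a subgroup `P` of index two of `S` then
there is a normal subgroup `N` of index two of `G` with `N ∩ S = P`. -/
theorem exists_index_two {G : Type*} [Group G] [Finite G] (S : Sylow 2 G) (P : Subgroup G)
    (hPS : P ≤ (S : Subgroup G)) (hi : P.relIndex (S : Subgroup G) = 2)
    (hf : (S : Subgroup G).focalSubgroup ≤ P) :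
    ∃ N : Subgroup G, N.Normal ∧ N.index = 2 ∧ ∀ s ∈ (S : Subgroup G), (s ∈ N ↔ s ∈ P) := by
  classical
  have : Fact (Nat.Prime 2) := ⟨Nat.prime_two⟩
  set Q : Subgroup (S : Subgroup G) := P.subgroupOf S with hQ
  have hQi : Q.index = 2 := hi
  have hQn : Q.Normal := Subgroup.normal_of_index_eq_two hQi
  have hle : (S : Subgroup G).focalSubgroupOf ≤ Q := by
    intro x hx
    rw [focalSubgroupOf_def, mem_subgroupOf] at hx
    rw [hQ, mem_subgroupOf]
    exact hf hx
  let π : (S : Subgroup G) ⧸ (S : Subgroup G).focalSubgroupOf →* (S : Subgroup G) ⧸ Q :=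
    QuotientGroup.map _ _ (MonoidHom.id _) (by rw [Subgroup.comap_id]; exact hle)
  have hπ : Function.Surjective π := by
    intro x
    obtain ⟨y, rfl⟩ := QuotientGroup.mk'_surjective _ x
    exact ⟨QuotientGroup.mk y, rfl⟩
  let f : G →* (S : Subgroup G) ⧸ Q := π.comp (S : Subgroup G).transferFocal
  have hfs : Function.Surjective f := hπ.comp (transferFocal_surjective S)
  refine ⟨f.ker, inferInstance, ?_, ?_⟩
  · rw [Subgroup.index_ker, MonoidHom.range_eq_top.2 hfs, Subgroup.card_top, ← Subgroup.index, hQi]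
  · intro s hs
    have h1 : f s = ((⟨s, hs⟩ : (S : Subgroup G)) : (S : Subgroup G) ⧸ Q) ^ (S : Subgroup G).index := by
      show π ((S : Subgroup G).transferFocal s) = _
      have h2 := transferFocal_eq_pow (S : Subgroup G) ⟨s, hs⟩
      have h3 : (S : Subgroup G).transferFocal s = (S : Subgroup G).transferFocal
        ((⟨s, hs⟩ : (S : Subgroup G)) : G) := rfl
      rw [h3, h2, map_pow]
      rfl
    rw [MonoidHom.mem_ker, h1]
    have hodd : ¬ 2 ∣ (S : Subgroup G).index := S.not_dvd_index
    have h4 : ∀ x : (S : Subgroup G) ⧸ Q, x ^ (S : Subgroup G).index = x := by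
      intro x
      have hx2 : x ^ 2 = 1 := by
        have : Nat.card ((S : Subgroup G) ⧸ Q) = 2 := hQi
        have h5 := pow_card_eq_one' (x := x)
        rwa [this] at h5
      obtain ⟨k, hk⟩ : ∃ k, (S : Subgroup G).index = 2 * k + 1 :=
        ⟨(S : Subgroup G).index / 2, by omega⟩
      rw [hk, pow_succ, pow_mul, hx2, one_pow, one_mul]
    rw [h4, QuotientGroup.eq_one_iff, hQ, mem_subgroupOf]

end Cfsg.Agent.H355.FocalTwo
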