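import Cfsg.Agent.H355.L3Alg
import Cfsg.Agent.H355.Prod

/-!
# Three-dimensional linear and unitary groups have no TI Hall subgroup `D` (helper355)
-/

set_option autoImplicit false
set_option linter.unusedSectionVars false

open Matrix

namespace Cfsg.Agent.H355

namespace TIHall

variable {G : Type*} [Group G] {D : Subgroup G} (h : TIH D)

include h

theorem TIH.notMem_of_sq {u : G} (hu2 : u ^ 2 = 1) (hu1 : u ≠ 1) : u ∉ D := by
  intro hu
  have h1 := h.odd_orderOf hu
  rw [orderOf_eq_prime hu2 hu1] at h1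
  exact absurd h1 (by decide)

theorem TIH.klein {u v : G} (hu : u ∈ Subgroup.normalizer (D : Set G)) (hv : v ∈ Subgroup.normalizer (D : Set G))
    (hu2 : u ^ 2 = 1) (hv2 : v ^ 2 = 1) (huv : u * v = v * u) (hu1 : u ≠ 1) (hv1 : v ≠ 1) : u = v := by
  have h1 := h.mul_mem_of_notMem hu (h.notMem_of_sq hu2 hu1) hv (h.notMem_of_sq hv2 hv1)
  have h2 : (u * v) ^ 2 = 1 := by
    rw [(show Commute u v from huv).mul_pow, hu2, hv2, one_mul]
  by_contra hne
  refine h.notMem_of_sq h2 ?_ h1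
  intro h3
  apply hne
  rw [eq_inv_of_mul_eq_one_left h3]
  rw [pow_two] at hv2
  exact inv_eq_of_mul_eq_one_left hv2

theorem TIH.four {u : G} (hu : u ∈ Subgroup.normalizer (D : Set G)) (hu4 : u ^ 4 = 1) : u ^ 2 = 1 := by
  by_contra hne
  refine h.notMem_of_sq (u := u ^ 2) ?_ hne (h.sq_mem hu)
  rw [← pow_mul]
  exact hu4

end TIHall

namespace L3

open TIHall

universe u

variable {K : Type u} [Field K]

/-! ### more on `T` -/

section More

variable {A : Matrix (Fin 3) (Fin 3) K} (h0 : det A = 0) (h1 : det (1 + A) = 1)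

include h0 h1

theorem trace_sq : trace (A * A) = trace A ^ 2 + 2 * trace A := by
  have h2 := congrArg trace (adj_eq' h0 h1)
  rw [trace_adj h0 h1, trace_add, trace_add, trace_smul, trace_smul, trace_one, Fintype.card_fin] at h2
  simp only [smul_eq_mul] at h2
  push_cast at h2
  linear_combination -h2

variable (ht : trace A ≠ 0)

include ht

theorem trace_T (x y w : K) : trace (T A (- trace A) x y w) = 2 * x + w := by
  rw [T, trace_add, trace_add, trace_smul, trace_smul, trace_smul, trace_sub, trace_ee h0 h1 ht, trace_one,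
    Fintype.card_fin, jj, trace_sub, trace_smul, trace_sq h0 h1]
  simp only [smul_eq_mul]
  push_cast
  ring

theorem T_eq_smul {x y w c : K} (h2 : (2 : K) ≠ 0) (h : T A (- trace A) x y w = c • 1) : x = c ∧ w = c := by
  have h3 := congrArg trace h
  rw [trace_T h0 h1 ht, trace_smul, trace_one, Fintype.card_fin, smul_eq_mul] at h3
  have h4 := T_ee (rel h0 h1) (neg_ne_zero.2 ht) x y w
  rw [h, smul_mul_assoc, one_mul] at h4
  have h5 : w = c := by
    by_contra hne
    apply ee_ne_zero h0 h1 ht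
    have h6 : (c - w) • ee A (- trace A) = 0 := by rw [sub_smul, h4, sub_self]
    exact (smul_eq_zero.1 h6).resolve_left (sub_ne_zero.2 (Ne.symm hne))
  refine ⟨?_, h5⟩
  subst h5
  push_cast at h3
  have h6 : 2 * (x - w) = 0 := by linear_combination h3
  exact sub_eq_zero.1 ((mul_eq_zero.1 h6).resolve_left h2)

theorem T_eq_smul' {x w c : K} (h : T A (- trace A) x 0 w = c • 1) : x = c ∧ w = c := by
  have hA : A ≠ 0 := by rintro rfl; exact ht (trace_zero _ _)
  have h4 := T_ee (rel h0 h1) (neg_ne_zero.2 ht) x 0 w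
  rw [h, smul_mul_assoc, one_mul] at h4
  constructor
  · have h5 : T A (- trace A) x 0 w * A = x • A := by
      rw [T_eq, add_mul, smul_mul_assoc, smul_mul_assoc, one_mul, ee_A (rel h0 h1) (neg_ne_zero.2 ht), smul_zero, add_zero]
    rw [h, smul_mul_assoc, one_mul] at h5
    by_contra hne
    apply hA
    have h6 : (c - x) • A = 0 := by rw [sub_smul, h5, sub_self]
    exact (smul_eq_zero.1 h6).resolve_left (sub_ne_zero.2 (Ne.symm hne))
  · by_contra hne
    apply ee_ne_zero h0 h1 ht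
    have h6 : (c - w) • ee A (- trace A) = 0 := by rw [sub_smul, h4, sub_self]
    exact (smul_eq_zero.1 h6).resolve_left (sub_ne_zero.2 (Ne.symm hne))

theorem T_pow (x w : K) (k : ℕ) : T A (- trace A) x 0 w ^ k = T A (- trace A) (x ^ k) 0 (w ^ k) := by
  induction k with
  | zero => rw [pow_zero, pow_zero, pow_zero, T_one]
  | succ k ih =>
    rw [pow_succ, ih, T_mul (rel h0 h1) (neg_ne_zero.2 ht), pow_succ, pow_succ]
    congr 1 <;> ring

end More

/-! ### the group -/

variable {G : Type*} [Group G] {S : Subgroup (SpecialLinearGroup (Fin 3) K)}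

/-- `π` presents `G` as the image of a group of matrices of determinant one, modulo scalars. The matrices `M` with
`P M` and determinant one are in `S`. -/
structure Ctx (π : S →* G) (P : Matrix (Fin 3) (Fin 3) K → Prop) : Prop where
  surj : Function.Surjective π
  ker : ∀ g : S, π g = 1 → ∃ c : K, (g : SpecialLinearGroup (Fin 3) K).1 = c • (1 : Matrix (Fin 3) (Fin 3) K)
  mem : ∀ M, P M → det M = 1 → ∃ g : S, (g : SpecialLinearGroup (Fin 3) K).1 = M
  neg : ∀ M, P M → P (-M)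

variable {π : S →* G} {P : Matrix (Fin 3) (Fin 3) K → Prop} (C : Ctx π P) {D : Subgroup G} (hD : TIH D)

include C in
theorem Ctx.get {M : Matrix (Fin 3) (Fin 3) K} (hP : P M) (hM : det M ^ 2 = 1) :
    ∃ g : S, (g : SpecialLinearGroup (Fin 3) K).1 = M ∨ (g : SpecialLinearGroup (Fin 3) K).1 = -M := by
  rcases (sq_eq_sq_iff_eq_or_eq_neg (a := det M) (b := 1)).1 (by rw [hM, one_pow]) with h1 | h1
  · obtain ⟨g, hg⟩ := C.mem M hP h1
    exact ⟨g, Or.inl hg⟩
  · obtain ⟨g, hg⟩ := C.mem (-M) (C.neg M hP) (by rw [det_neg, h1]; norm_num)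
    exact ⟨g, Or.inr hg⟩

/-- elements commuting with `d` are in the normalizer -/
theorem mem_N (hD : TIH D) {A : Matrix (Fin 3) (Fin 3) K} {d : S}
    (hd : (d : SpecialLinearGroup (Fin 3) K).1 = 1 + A) {x : G} (hx : x * π d * x⁻¹ ∈ D) (hx1 : π d ≠ 1) {g : S}
    (hg : (g : SpecialLinearGroup (Fin 3) K).1 * A = A * (g : SpecialLinearGroup (Fin 3) K).1) :
    x * π g * x⁻¹ ∈ Subgroup.normalizer (D : Set G) := by
  have h1 : g * d = d * g := by
    apply Subtype.ext
    apply Subtype.ext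
    show (g : SpecialLinearGroup (Fin 3) K).1 * (d : SpecialLinearGroup (Fin 3) K).1 =
      (d : SpecialLinearGroup (Fin 3) K).1 * (g : SpecialLinearGroup (Fin 3) K).1
    rw [hd, mul_add, add_mul, hg, mul_one, one_mul]
  refine hD.mem_normalizer_of_commute hx ?_ ?_
  · intro h2
    exact hx1 ((MulAut.conj x).injective (by rw [map_one]; exact h2))
  · have h2 := congrArg π h1
    rw [map_mul, map_mul] at h2
    calc x * π g * x⁻¹ * (x * π d * x⁻¹) = x * (π g * π d) * x⁻¹ := by group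
      _ = x * (π d * π g) * x⁻¹ := by rw [h2]
      _ = _ := by group

theorem conj_pow' (x y : G) (n : ℕ) : (x * y * x⁻¹) ^ n = x * y ^ n * x⁻¹ := conj_pow

theorem conj_eq_one' {x y : G} (h : x * y * x⁻¹ = 1) : y = 1 :=
  (MulAut.conj x).injective (by rw [map_one]; exact h)

include C hD in
/-- **The case of odd characteristic.** -/
theorem false_odd (h2 : (2 : K) ≠ 0) {A : Matrix (Fin 3) (Fin 3) K} (h0 : det A = 0) (ht : trace A ≠ 0) {d : S}
    (hd : (d : SpecialLinearGroup (Fin 3) K).1 = 1 + A) {x : G} (hx : x * π d * x⁻¹ ∈ D) (hx1 : π d ≠ 1)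
    (hz : P (T A (- trace A) (-1) 0 1)) {a b : K} (hM : P (T A (- trace A) a b 1))
    (hab : (a * b = 0 ∧ a ^ 2 + ((- trace A) ^ 2 - 4 * (- trace A)) * b ^ 2 = -1) ∨
      (a = 0 ∧ ((- trace A) ^ 2 - 4 * (- trace A)) * b ^ 2 = 1)) : False := by
  have h1 : det (1 + A) = 1 := by rw [← hd]; exact (d : SpecialLinearGroup (Fin 3) K).2
  have hr := rel h0 h1
  have ht' : - trace A ≠ 0 := neg_ne_zero.2 ht
  obtain ⟨z, hz⟩ := C.mem _ hz (by rw [det_T h0 h1 ht]; norm_num)
  have hzsq : z * z = 1 := by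
    apply Subtype.ext
    apply Subtype.ext
    show (z : SpecialLinearGroup (Fin 3) K).1 * (z : SpecialLinearGroup (Fin 3) K).1 = 1
    rw [hz, T_mul hr ht', ← T_one (A := A) (t := - trace A)]
    congr 1 <;> ring
  have hz1 : π z ≠ 1 := by
    intro h3
    obtain ⟨c, hc⟩ := C.ker z h3
    rw [hz] at hc
    obtain ⟨h4, h5⟩ := T_eq_smul h0 h1 ht h2 hc
    apply h2
    linear_combination h5 - h4
  have hzN := mem_N (π := π) hD hd hx hx1 (g := z) (by rw [hz]; exact T_comm hr ht' _ _ _)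
  -- the second element
  have hMsq : T A (- trace A) a b 1 * T A (- trace A) a b 1 =
      T A (- trace A) (a ^ 2 + ((- trace A) ^ 2 - 4 * (- trace A)) * b ^ 2) (2 * (a * b)) 1 := by
    rw [T_mul hr ht']
    congr 1 <;> ring
  have hMdet : det (T A (- trace A) a b 1) ^ 2 = 1 := by
    rw [pow_two, ← det_mul, hMsq]
    rcases hab with ⟨h3, h4⟩ | ⟨h3, h4⟩
    · rw [h3, h4, mul_zero, det_T h0 h1 ht]; norm_num
    · rw [h4, h3, zero_mul, mul_zero, det_T h0 h1 ht]; norm_num
  obtain ⟨m, hm⟩ := C.get hM hMdet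
  have hmm : (m : SpecialLinearGroup (Fin 3) K).1 * (m : SpecialLinearGroup (Fin 3) K).1 =
      T A (- trace A) a b 1 * T A (- trace A) a b 1 := by
    rcases hm with hm | hm <;> rw [hm]
    rw [neg_mul_neg]
  have hmN := mem_N (π := π) hD hd hx hx1 (g := m) (by
    rcases hm with hm | hm <;> rw [hm]
    · exact T_comm hr ht' _ _ _
    · rw [neg_mul, mul_neg, T_comm hr ht'])
  rcases hab with ⟨h3, h4⟩ | ⟨h3, h4⟩
  · -- order four
    have hmz : m * m = z := by
      apply Subtype.ext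
      apply Subtype.ext
      show (m : SpecialLinearGroup (Fin 3) K).1 * (m : SpecialLinearGroup (Fin 3) K).1 = (z : SpecialLinearGroup (Fin 3) K).1
      rw [hmm, hMsq, hz, h3, h4, mul_zero]
    have h5 : (x * π m * x⁻¹) ^ 4 = 1 := by
      rw [conj_pow', ← map_pow, show m ^ 4 = (m * m) * (m * m) from by
        rw [← pow_two, ← pow_two, ← pow_mul], hmz, hzsq, map_one]; group
    have h6 := hD.four hmN h5
    rw [conj_pow', ← map_pow, pow_two, hmz] at h6
    exact hz1 (conj_eq_one' h6)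
  · -- a four group
    have hmsq : m * m = 1 := by
      apply Subtype.ext
      apply Subtype.ext
      show (m : SpecialLinearGroup (Fin 3) K).1 * (m : SpecialLinearGroup (Fin 3) K).1 = 1
      rw [hmm, hMsq, ← T_one (A := A) (t := - trace A), h4, h3, zero_mul, mul_zero]
      congr 1
      ring
    have hneg : ∀ {M : Matrix (Fin 3) (Fin 3) K} {c : K}, -M = c • 1 → M = (-c) • 1 := by
      intro M c h5
      rw [neg_smul, ← h5, neg_neg]
    have hm1 : π m ≠ 1 := by
      intro h5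
      obtain ⟨c, hc⟩ := C.ker m h5
      have h6 : ∃ c : K, T A (- trace A) a b 1 = c • 1 := by
        rcases hm with hm | hm <;> rw [hm] at hc
        · exact ⟨c, hc⟩
        · exact ⟨-c, hneg hc⟩
      obtain ⟨c', hc'⟩ := h6
      obtain ⟨h7, h8⟩ := T_eq_smul h0 h1 ht h2 hc'
      rw [h3] at h7
      rw [← h7] at h8
      exact one_ne_zero h8
    have hcomm : z * m = m * z := by
      apply Subtype.ext
      apply Subtype.ext
      show (z : SpecialLinearGroup (Fin 3) K).1 * (m : SpecialLinearGroup (Fin 3) K).1 =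
        (m : SpecialLinearGroup (Fin 3) K).1 * (z : SpecialLinearGroup (Fin 3) K).1
      have h5 : T A (- trace A) (-1) 0 1 * T A (- trace A) a b 1 = T A (- trace A) a b 1 * T A (- trace A) (-1) 0 1 := by
        rw [T_mul hr ht', T_mul hr ht']
        congr 1 <;> ring
      rcases hm with hm | hm <;> rw [hm, hz]
      · exact h5
      · rw [mul_neg, neg_mul, h5]
    have h5 := hD.klein hzN hmN (by rw [conj_pow', ← map_pow, pow_two, hzsq, map_one]; group)
      (by rw [conj_pow', ← map_pow, pow_two, hmsq, map_one]; group)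
      (by
        have h6 := congrArg π hcomm
        rw [map_mul, map_mul] at h6
        calc x * π z * x⁻¹ * (x * π m * x⁻¹) = x * (π z * π m) * x⁻¹ := by group
          _ = x * (π m * π z) * x⁻¹ := by rw [h6]
          _ = _ := by group) (fun h6 => hz1 (conj_eq_one' h6)) (fun h6 => hm1 (conj_eq_one' h6))
    have h6 : π z = π m := (MulAut.conj x).injective h5
    have h7 : π (z * m) = 1 := by
      rw [map_mul, h6, ← map_mul, hmsq, map_one]
    obtain ⟨c, hc⟩ := C.ker _ h7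
    have h8 : (z : SpecialLinearGroup (Fin 3) K).1 * (m : SpecialLinearGroup (Fin 3) K).1 = c • 1 := hc
    have h9 : T A (- trace A) (-1) 0 1 * T A (- trace A) a b 1 =
        T A (- trace A) (-a) (-b) 1 := by
      rw [T_mul hr ht']
      congr 1 <;> ring
    have h10 : ∃ c : K, T A (- trace A) (-a) (-b) 1 = c • 1 := by
      rcases hm with hm | hm <;> rw [hm, hz] at h8
      · exact ⟨c, by rw [← h9, h8]⟩
      · rw [mul_neg, h9] at h8
        exact ⟨-c, hneg h8⟩
    obtain ⟨c', hc'⟩ := h10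
    obtain ⟨h11, h12⟩ := T_eq_smul h0 h1 ht h2 hc'
    rw [h3, neg_zero] at h11
    rw [← h11] at h12
    exact one_ne_zero h12

theorem one_add_smul_mul {N : Matrix (Fin 3) (Fin 3) K} (hNN : N * N = 0) (μ ν : K) :
    (1 + μ • N) * (1 + ν • N) = 1 + (μ + ν) • N := by
  rw [mul_add, add_mul, add_mul, smul_mul_smul_comm, hNN, smul_zero, add_smul, mul_one, one_mul, mul_one, add_zero,
    add_assoc]

theorem eq_zero_of_smul {N : Matrix (Fin 3) (Fin 3) K} (hN : N ≠ 0) (hNN : N * N = 0) {μ c : K}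
    (h : 1 + μ • N = c • (1 : Matrix (Fin 3) (Fin 3) K)) : μ = 0 := by
  have h1 : μ • N = (c - 1) • (1 : Matrix (Fin 3) (Fin 3) K) := by
    rw [sub_smul, ← h, one_smul]; abel
  have h2 : ((c - 1) * (c - 1)) • (1 : Matrix (Fin 3) (Fin 3) K) = 0 := by
    have h3 : (μ • N) * (μ • N) = 0 := by rw [smul_mul_smul_comm, hNN, smul_zero]
    rw [h1, smul_mul_smul_comm, mul_one] at h3
    exact h3
  have h3 : c - 1 = 0 := by
    have h4 := (smul_eq_zero.1 h2).resolve_right one_ne_zero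
    exact mul_self_eq_zero.1 h4
  rw [h3, zero_smul] at h1
  exact (smul_eq_zero.1 h1).resolve_right hN

include C hD in
/-- **The case of characteristic two.** -/
theorem false_even (h2 : (2 : K) = 0) {A : Matrix (Fin 3) (Fin 3) K} (h0 : det A = 0) (ht : trace A ≠ 0) {d : S}
    (hd : (d : SpecialLinearGroup (Fin 3) K).1 = 1 + A) {x : G} (hx : x * π d * x⁻¹ ∈ D) (hx1 : π d ≠ 1)
    {a : K} (ha0 : a ≠ 0) (ha3 : a ^ 3 ≠ 1) {k : ℕ} (hk : Odd k) (hak : a ^ k = 1)
    (ha : P (T A (- trace A) a 0 (a ^ 2)⁻¹)) {N : Matrix (Fin 3) (Fin 3) K} (hN : N ≠ 0) (hNN : N * N = 0)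
    (hNE : N * adjugate A = 0) (hEN : adjugate A * N = 0) (hdet : ∀ μ : K, det (1 + μ • N) = 1)
    {μ ν : K} (hμ : μ ≠ 0) (hν : ν ≠ 0) (hμν : μ ≠ ν) (hμP : P (1 + μ • N)) (hνP : P (1 + ν • N)) : False := by
  have h1 : det (1 + A) = 1 := by rw [← hd]; exact (d : SpecialLinearGroup (Fin 3) K).2
  have hr := rel h0 h1
  have ht' : - trace A ≠ 0 := neg_ne_zero.2 ht
  obtain ⟨c, hc⟩ := C.mem _ ha (by rw [det_T h0 h1 ht, mul_inv_cancel₀ (pow_ne_zero 2 ha0)])
  have hcN := mem_N (π := π) hD hd hx hx1 (g := c) (by rw [hc]; exact T_comm hr ht' _ _ _)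
  have hck : c ^ k = 1 := by
    apply Subtype.ext
    apply Subtype.ext
    show ((c ^ k : S) : SpecialLinearGroup (Fin 3) K).1 = 1
    have h3 : ((c ^ k : S) : SpecialLinearGroup (Fin 3) K).1 = (c : SpecialLinearGroup (Fin 3) K).1 ^ k := by
      rw [SubmonoidClass.coe_pow]
      exact Matrix.SpecialLinearGroup.coe_pow _ _
    rw [h3, hc, T_pow h0 h1 ht, hak, inv_pow, ← pow_mul, mul_comm 2 k, pow_mul, hak, one_pow, inv_one, T_one]
  have hyk : (x * π c * x⁻¹) ^ k = 1 := by rw [conj_pow', ← map_pow, hck, map_one]; group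
  have hyD := hD.mem_of_odd hcN (hk.of_dvd_nat (orderOf_dvd_of_pow_eq_one hyk))
  have hy1 : x * π c * x⁻¹ ≠ 1 := by
    intro h3
    obtain ⟨b, hb⟩ := C.ker c (conj_eq_one' h3)
    rw [hc] at hb
    obtain ⟨h4, h5⟩ := T_eq_smul' h0 h1 ht hb
    apply ha3
    rw [← h4] at h5
    have h6 : (a ^ 2)⁻¹ * a ^ 2 = a * a ^ 2 := by rw [h5]
    rw [inv_mul_cancel₀ (pow_ne_zero 2 ha0)] at h6
    rw [pow_succ', ← h6]
  have hee : ∀ ρ : K, (1 + ρ • N) * T A (- trace A) a 0 (a ^ 2)⁻¹ = T A (- trace A) a 0 (a ^ 2)⁻¹ * (1 + ρ • N) := by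
    intro ρ
    have h3 : N * ee A (- trace A) = 0 := by
      rw [ee, ← adj_eq' h0 h1, mul_smul_comm, hNE, smul_zero]
    have h4 : ee A (- trace A) * N = 0 := by
      rw [ee, ← adj_eq' h0 h1, smul_mul_assoc, hEN, smul_zero]
    rw [T_eq]
    generalize ee A (- trace A) = E at h3 h4
    simp only [add_mul, mul_add, smul_mul_assoc, mul_smul_comm, mul_one, one_mul, h3, h4, smul_zero, add_zero,
      smul_add]
    rw [smul_comm ρ a]
    abel
  have key : ∀ ρ : K, ρ ≠ 0 → P (1 + ρ • N) → ∃ s : S, (s : SpecialLinearGroup (Fin 3) K).1 = 1 + ρ • N ∧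
      x * π s * x⁻¹ ∈ Subgroup.normalizer (D : Set G) ∧ (x * π s * x⁻¹) ^ 2 = 1 ∧ x * π s * x⁻¹ ≠ 1 := by
    intro ρ hρ hρP
    obtain ⟨s, hs⟩ := C.mem _ hρP (hdet ρ)
    refine ⟨s, hs, ?_, ?_, ?_⟩
    · refine hD.mem_normalizer_of_commute hyD hy1 ?_
      have h3 : s * c = c * s := by
        apply Subtype.ext
        apply Subtype.ext
        show (s : SpecialLinearGroup (Fin 3) K).1 * (c : SpecialLinearGroup (Fin 3) K).1 =
          (c : SpecialLinearGroup (Fin 3) K).1 * (s : SpecialLinearGroup (Fin 3) K).1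
        rw [hs, hc, hee]
      have h4 := congrArg π h3
      rw [map_mul, map_mul] at h4
      calc x * π s * x⁻¹ * (x * π c * x⁻¹) = x * (π s * π c) * x⁻¹ := by group
        _ = x * (π c * π s) * x⁻¹ := by rw [h4]
        _ = _ := by group
    · have h3 : s * s = 1 := by
        apply Subtype.ext
        apply Subtype.ext
        show (s : SpecialLinearGroup (Fin 3) K).1 * (s : SpecialLinearGroup (Fin 3) K).1 = 1
        rw [hs, one_add_smul_mul hNN, ← two_mul, h2, zero_mul, zero_smul, add_zero]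
      rw [conj_pow', ← map_pow, pow_two, h3, map_one]; group
    · intro h3
      obtain ⟨b, hb⟩ := C.ker s (conj_eq_one' h3)
      rw [hs] at hb
      exact hρ (eq_zero_of_smul hN hNN hb)
  obtain ⟨s, hs, hsN, hs2, hs1⟩ := key μ hμ hμP
  obtain ⟨r, hr', hrN, hr2, hr1⟩ := key ν hν hνP
  have hsr : s * r = r * s := by
    apply Subtype.ext
    apply Subtype.ext
    show (s : SpecialLinearGroup (Fin 3) K).1 * (r : SpecialLinearGroup (Fin 3) K).1 =
      (r : SpecialLinearGroup (Fin 3) K).1 * (s : SpecialLinearGroup (Fin 3) K).1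
    rw [hs, hr', one_add_smul_mul hNN, one_add_smul_mul hNN, add_comm μ ν]
  have h3 := hD.klein hsN hrN hs2 hr2 (by
    have h6 := congrArg π hsr
    rw [map_mul, map_mul] at h6
    calc x * π s * x⁻¹ * (x * π r * x⁻¹) = x * (π s * π r) * x⁻¹ := by group
      _ = x * (π r * π s) * x⁻¹ := by rw [h6]
      _ = _ := by group) hs1 hr1
  have h4 : π s = π r := (MulAut.conj x).injective h3
  have h5 : π (s * r) = 1 := by
    have h6 := hr2
    rw [conj_pow', pow_two] at h6
    rw [map_mul, h4]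
    exact conj_eq_one' h6
  obtain ⟨b, hb⟩ := C.ker _ h5
  have h6 : (s : SpecialLinearGroup (Fin 3) K).1 * (r : SpecialLinearGroup (Fin 3) K).1 = b • 1 := hb
  rw [hs, hr', one_add_smul_mul hNN] at h6
  have h7 := eq_zero_of_smul hN hNN h6
  apply hμν
  have h8 : ν + ν = 0 := by rw [← two_mul, h2, zero_mul]
  linear_combination h7 - h8

/-! ### products of transvections -/

theorem det_rank_two (w α v φ : Fin 3 → K) : det (vecMulVec w α + vecMulVec v φ) = 0 := by
  rw [det_fin_three]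
  simp only [Matrix.add_apply, vecMulVec_apply]
  ring

theorem mul_adj_rank_two (w α v φ : Fin 3 → K) :
    vecMulVec v φ * adjugate (vecMulVec w α + vecMulVec v φ) = 0 := by
  rw [adjugate_fin_three]
  ext i j
  fin_cases i <;> fin_cases j <;>
    simp [Matrix.mul_apply, Fin.sum_univ_three, vecMulVec_apply] <;> ring

theorem adj_mul_rank_two (w α v φ : Fin 3 → K) :
    adjugate (vecMulVec w α + vecMulVec v φ) * vecMulVec v φ = 0 := by
  rw [adjugate_fin_three]
  ext i j
  fin_cases i <;> fin_cases j <;>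
    simp [Matrix.mul_apply, Fin.sum_univ_three, vecMulVec_apply] <;> ring

theorem pow_eq_one_of_cube {p : ℕ} [hp : Fact p.Prime] [CharP K p] {A : Matrix (Fin 3) (Fin 3) K} (hA : A ^ 3 = 0) :
    (1 + A) ^ p ^ 2 = 1 := by
  have h1 : 3 ≤ p ^ 2 := by
    have := hp.out.two_le
    nlinarith
  have h2 := add_pow_char_pow_of_commute p (n := 2) (Commute.one_left A)
  rw [h2, one_pow, pow_eq_zero_of_le h1 hA, add_zero]

theorem dvd_card_of_pow {p k : ℕ} [hp : Fact p.Prime] {D : Subgroup G} [Finite G] {y : G} (hy : y ∈ D) (hy1 : y ≠ 1)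
    (hk : y ^ p ^ k = 1) : p ∣ Nat.card D := by
  obtain ⟨j, -, hj⟩ := (Nat.dvd_prime_pow hp.out).1 (orderOf_dvd_of_pow_eq_one hk)
  have h2 := Subgroup.orderOf_dvd_natCard D hy
  rw [hj] at h2
  refine dvd_trans (dvd_pow_self p ?_) h2
  rintro rfl
  rw [pow_zero] at hj
  exact hy1 (orderOf_eq_one_iff.1 hj)

end L3

namespace L3

open TIHall

universe v u

variable {K : Type u} [Field K] {G : Type v} [Group G] {S : Subgroup (Matrix.SpecialLinearGroup (Fin 3) K)} {π : S →* G}
  {P : Matrix (Fin 3) (Fin 3) K → Prop} {D : Subgroup G}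

theorem exists_d [Finite G] [IsSimpleGroup G] (hG : ¬ IsMulCommutative G) (C : Ctx π P) (hD : TIH D)
    (hDs : commutator D ≠ ⊤) {p : ℕ} [hp : Fact p.Prime] [CharP K p] (hpD : ¬ p ∣ Nat.card D) {v φ : Fin 3 → K}
    {s : S} (hs : s.1.1 = 1 + vecMulVec v φ) (hN : vecMulVec v φ ≠ 0) (hNN : vecMulVec v φ * vecMulVec v φ = 0) :
    ∃ (A : Matrix (Fin 3) (Fin 3) K) (d : S) (x : G), d.1.1 = 1 + A ∧ det A = 0 ∧ trace A ≠ 0 ∧
      x * π d * x⁻¹ ∈ D ∧ π d ≠ 1 ∧ vecMulVec v φ * adjugate A = 0 ∧ adjugate A * vecMulVec v φ = 0 := by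
  have hs1 : π s ≠ 1 := by
    intro h1
    obtain ⟨c, hc⟩ := C.ker s h1
    rw [hs] at hc
    have h2 := eq_zero_of_smul hN hNN (μ := 1) (by rw [one_smul]; exact hc)
    exact one_ne_zero h2
  have hsp : s ^ p ^ 2 = 1 := by
    apply Subtype.ext
    apply Subtype.ext
    rw [SubmonoidClass.coe_pow]
    refine (Matrix.SpecialLinearGroup.coe_pow _ _).trans ?_
    rw [hs]
    exact pow_eq_one_of_cube (by rw [pow_succ, pow_two, hNN, zero_mul])
  have hout : ∀ c : G, c * π s * c⁻¹ ∉ D := by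
    intro c hc
    refine hpD (dvd_card_of_pow (k := 2) hc (fun h1 => hs1 (conj_eq_one' h1)) ?_)
    rw [conj_pow', ← map_pow, hsp, map_one]; group
  obtain ⟨a, x, hx, hx1⟩ := Exc.exists_mul_mem hG hD hDs hs1 hs1 hout hout
  obtain ⟨g, rfl⟩ := C.surj a
  set N := vecMulVec v φ with hNdef
  -- the product
  have hg : g.1.1 * (g⁻¹).1.1 = 1 := by
    have h1 : g * g⁻¹ = 1 := mul_inv_cancel g
    exact congrArg (fun y : S => y.1.1) h1
  have hg' : (g⁻¹).1.1 * g.1.1 = 1 := by
    have h1 : g⁻¹ * g = 1 := inv_mul_cancel g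
    exact congrArg (fun y : S => y.1.1) h1
  have hN' : g.1.1 * N * (g⁻¹).1.1 = vecMulVec (g.1.1 *ᵥ v) (φ ᵥ* (g⁻¹).1.1) := by
    rw [hNdef, mul_vecMulVec, vecMulVec_mul]
  set w := g.1.1 *ᵥ v with hw
  set ψ := φ ᵥ* (g⁻¹).1.1 with hψ
  have hgs : (g * s * g⁻¹).1.1 = 1 + vecMulVec w ψ := by
    rw [← hN']
    show g.1.1 * s.1.1 * (g⁻¹).1.1 = _
    rw [hs, mul_add, add_mul, mul_one, hg]
  have hd : (g * s * g⁻¹ * s).1.1 = 1 + (vecMulVec w (ψ + (ψ ⬝ᵥ v) • φ) + N) := by
    show (g * s * g⁻¹).1.1 * s.1.1 = _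
    rw [hgs, hs, mul_add, add_mul, add_mul, mul_one, one_mul, mul_one, vecMulVec_add, hNdef, vecMulVec_mul_vecMulVec]
    rw [vecMulVec_smul]
    abel
  have h0 : det (vecMulVec w (ψ + (ψ ⬝ᵥ v) • φ) + N) = 0 := det_rank_two _ _ _ _
  have h1 : det (1 + (vecMulVec w (ψ + (ψ ⬝ᵥ v) • φ) + N)) = 1 := by rw [← hd]; exact (g * s * g⁻¹ * s).1.2
  have hπ : π (g * s * g⁻¹ * s) = π g * π s * (π g)⁻¹ * π s := by simp
  refine ⟨_, g * s * g⁻¹ * s, x, hd, h0, ?_, ?_, ?_, mul_adj_rank_two _ _ _ _, adj_mul_rank_two _ _ _ _⟩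
  · intro ht
    have h3 := cube_eq_zero h0 h1 ht
    have h4 : (g * s * g⁻¹ * s) ^ p ^ 2 = 1 := by
      apply Subtype.ext
      apply Subtype.ext
      rw [SubmonoidClass.coe_pow]
      refine (Matrix.SpecialLinearGroup.coe_pow _ _).trans ?_
      rw [hd]
      exact pow_eq_one_of_cube h3
    refine hpD (dvd_card_of_pow (k := 2) hx (fun h5 => hx1 (conj_eq_one' h5)) ?_)
    rw [conj_pow', ← hπ, ← map_pow, h4, map_one]; group
  · rw [hπ]; exact hx
  · rw [hπ]; exact hx1

end L3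

end Cfsg.Agent.H355
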