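import Cfsg.Statements.S3392
import Cfsg.Prelude.Def_Solvable

/-!
# Definitions for S3392: the conclusions of the theorem on groups of fixity two (helper355)

* `LL G` : the subgroup generated by the elements of 2-power order;
* `Cond T` : `T` is a dihedral or semidihedral 2-group, a Suzuki group or a group between `PSL₂(F)` and `Aut(PSL₂(F))`;
* `One G`, `Two G`, `Three G Ω`, `Four G`, `Five G` : the five conclusions (without the conditions on the parity
  of the stabilizers);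
* `Fix2 G Ω` : transitive action of fixity two.
-/

set_option autoImplicit false

open Cfsg

namespace Cfsg.Agent.H355.Lsp

/-- the subgroup generated by the elements of 2-power order -/
abbrev LL (G : Type*) [Group G] : Subgroup G := Subgroup.closure {g : G | ∃ n : ℕ, orderOf g = 2 ^ n}

/-- the possible groups in conclusion (5) -/
def Cond (T : Type*) [Group T] : Prop :=
  (IsPGroup 2 T ∧ ((∃ n, Nonempty (T ≃* DihedralGroup n)) ∨ Cfsg.IsQuasiDihedral T)) ∨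
    Cfsg.Lie.IsoSuzuki T ∨
    (∃ (F : Type) (_ : Field F) (_ : Fintype F) (A : Subgroup (MulAut (Matrix.ProjectiveSpecialLinearGroup (Fin 2) F))),
      (MulAut.conj : Matrix.ProjectiveSpecialLinearGroup (Fin 2) F →* _).range ≤ A ∧ Nonempty (T ≃* ↥A))

/-- conclusion (1) -/
def One (G : Type*) [Group G] : Prop :=
  ∃ H : Subgroup G, (∃ n : ℕ, H.index = 2 ^ n) ∧ (∃ H : Subgroup ↥H, Cfsg.IsFrobeniusComplement H)

/-- conclusion (2) -/
def Two (G : Type*) [Group G] : Prop :=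
  Nat.card (Subgroup.center G) = 2 ∧ (∃ H : Subgroup ↥(⊤ : Subgroup (G ⧸ Subgroup.center G)), Cfsg.IsFrobeniusComplement H)

/-- conclusion (3) -/
def Three (G : Type*) [Group G] (Ω : Type*) [MulAction G Ω] : Prop :=
  (∀ α : Ω, Cfsg.IsMetacyclic ↥(MulAction.stabilizer G α) ∧ Odd (Nat.card (MulAction.stabilizer G α))) ∧
    ∀ (α β : Ω) (H : Subgroup G), α ≠ β → H = MulAction.stabilizer G α ⊓ MulAction.stabilizer G β → H ≠ ⊥ →
      H.relIndex (Subgroup.normalizer (H : Set G)) = 2 ∧ Group.IsSolvable G ∧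
      ∃ K : Subgroup G, K.Normal ∧ Group.IsNilpotent ↥K ∧ (Nat.card K).Coprime (Nat.card H) ∧
        (K.IsComplement' H ∨ K.IsComplement' (Subgroup.normalizer (H : Set G)))

/-- conclusion (4), group part -/
def Four (G : Type*) [Group G] : Prop :=
  ∃ (N M : Subgroup G) (_ : N.Normal) (_ : M.Normal), N < M ∧ Group.IsNilpotent ↥N ∧
    (∃ _ : (N.subgroupOf M).Normal, IsSimpleGroup (↥M ⧸ N.subgroupOf M) ∧
      ((∃ (F : Type) (_ : Field F) (_ : Fintype F), Nonempty (↥M ⧸ N.subgroupOf M ≃* Matrix.ProjectiveSpecialLinearGroup (Fin 2) F)) ∨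
       Cfsg.Lie.IsoSuzuki (↥M ⧸ N.subgroupOf M) ∨
       (∃ (F : Type) (_ : Field F) (_ : Fintype F), Fintype.card F = 4 ∧ Nonempty (↥M ⧸ N.subgroupOf M ≃* Matrix.ProjectiveSpecialLinearGroup (Fin 3) F)))) ∧
    Cfsg.IsMetacyclic (G ⧸ M) ∧ Odd (Nat.card (G ⧸ M))

/-- conclusion (5), group part -/
def Five (G : Type*) [Group G] : Prop :=
  ∃ N : Subgroup G, N.Normal ∧ Odd (Nat.card N) ∧ N ≤ LL G ∧
    ∃ _ : (N.subgroupOf (LL G)).Normal, Cond (↥(LL G) ⧸ N.subgroupOf (LL G))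

/-- transitive actions of fixity two -/
structure Fix2 (G Ω : Type*) [Group G] [MulAction G Ω] : Prop where
  tr : MulAction.IsPretransitive G Ω
  fix : ∀ g : G, g ≠ 1 → Nat.card (MulAction.fixedBy Ω g) ≤ 2
  ex : ∃ g : G, g ≠ 1 ∧ Nat.card (MulAction.fixedBy Ω g) = 2

/-- the shape of the final statement -/
theorem check {G : Type*} [Group G] [Finite G] {Ω : Type*} [Fintype Ω] [MulAction G Ω]
    (h0 : 2 ∣ Nat.card G)
    (h : One G ∨ Two G ∨ Three G Ω ∨ ((∀ α : Ω, Odd (Nat.card (MulAction.stabilizer G α))) ∧ Four G) ∨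
      ((∀ α : Ω, Even (Nat.card (MulAction.stabilizer G α))) ∧ Five G)) :
    2 ∣ Nat.card G ∧
    ((∃ H : Subgroup G, (∃ n : ℕ, H.index = 2 ^ n) ∧ (∃ H : Subgroup ↥H, Cfsg.IsFrobeniusComplement H)) ∨
     (Nat.card (Subgroup.center G) = 2 ∧ (∃ H : Subgroup ↥(⊤ : Subgroup (G ⧸ Subgroup.center G)), Cfsg.IsFrobeniusComplement H)) ∨
     ((∀ α : Ω, Cfsg.IsMetacyclic ↥(MulAction.stabilizer G α) ∧ Odd (Nat.card (MulAction.stabilizer G α))) ∧
        ∀ (α β : Ω) (H : Subgroup G), α ≠ β → H = MulAction.stabilizer G α ⊓ MulAction.stabilizer G β → H ≠ ⊥ →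
          H.relIndex (Subgroup.normalizer (H : Set G)) = 2 ∧ Group.IsSolvable G ∧
          ∃ K : Subgroup G, K.Normal ∧ Group.IsNilpotent ↥K ∧ (Nat.card K).Coprime (Nat.card H) ∧
            (K.IsComplement' H ∨ K.IsComplement' (Subgroup.normalizer (H : Set G)))) ∨
     ((∀ α : Ω, Odd (Nat.card (MulAction.stabilizer G α))) ∧
        ∃ (N M : Subgroup G) (_ : N.Normal) (_ : M.Normal), N < M ∧ Group.IsNilpotent ↥N ∧
          (∃ _ : (N.subgroupOf M).Normal, IsSimpleGroup (↥M ⧸ N.subgroupOf M) ∧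
            ((∃ (F : Type) (_ : Field F) (_ : Fintype F), Nonempty (↥M ⧸ N.subgroupOf M ≃* Matrix.ProjectiveSpecialLinearGroup (Fin 2) F)) ∨
             Cfsg.Lie.IsoSuzuki (↥M ⧸ N.subgroupOf M) ∨
             (∃ (F : Type) (_ : Field F) (_ : Fintype F), Fintype.card F = 4 ∧ Nonempty (↥M ⧸ N.subgroupOf M ≃* Matrix.ProjectiveSpecialLinearGroup (Fin 3) F)))) ∧
          Cfsg.IsMetacyclic (G ⧸ M) ∧ Odd (Nat.card (G ⧸ M))) ∨
     ((∀ α : Ω, Even (Nat.card (MulAction.stabilizer G α))) ∧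
        ∃ N : Subgroup G, N.Normal ∧ Odd (Nat.card N) ∧ N ≤ Subgroup.closure {g : G | ∃ n : ℕ, orderOf g = 2 ^ n} ∧
          ∃ _ : (N.subgroupOf (Subgroup.closure {g : G | ∃ n : ℕ, orderOf g = 2 ^ n})).Normal,
            (IsPGroup 2 (↥(Subgroup.closure {g : G | ∃ n : ℕ, orderOf g = 2 ^ n}) ⧸ N.subgroupOf (Subgroup.closure {g : G | ∃ n : ℕ, orderOf g = 2 ^ n})) ∧
               ((∃ n, Nonempty ((↥(Subgroup.closure {g : G | ∃ n : ℕ, orderOf g = 2 ^ n}) ⧸ N.subgroupOf (Subgroup.closure {g : G | ∃ n : ℕ, orderOf g = 2 ^ n})) ≃* DihedralGroup n)) ∨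
                Cfsg.IsQuasiDihedral (↥(Subgroup.closure {g : G | ∃ n : ℕ, orderOf g = 2 ^ n}) ⧸ N.subgroupOf (Subgroup.closure {g : G | ∃ n : ℕ, orderOf g = 2 ^ n})))) ∨
            Cfsg.Lie.IsoSuzuki (↥(Subgroup.closure {g : G | ∃ n : ℕ, orderOf g = 2 ^ n}) ⧸ N.subgroupOf (Subgroup.closure {g : G | ∃ n : ℕ, orderOf g = 2 ^ n})) ∨
            (∃ (F : Type) (_ : Field F) (_ : Fintype F) (A : Subgroup (MulAut (Matrix.ProjectiveSpecialLinearGroup (Fin 2) F))),
               (MulAut.conj : Matrix.ProjectiveSpecialLinearGroup (Fin 2) F →* _).range ≤ A ∧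
               Nonempty ((↥(Subgroup.closure {g : G | ∃ n : ℕ, orderOf g = 2 ^ n}) ⧸ N.subgroupOf (Subgroup.closure {g : G | ∃ n : ℕ, orderOf g = 2 ^ n})) ≃* ↥A)))) :=
  ⟨h0, h⟩

end Cfsg.Agent.H355.Lsp
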