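import Cfsg.Agent.H355.LspDefs
import Cfsg.Agent.H667.SemiDih

/-!
# Conclusion (5) of the theorem on groups of fixity two (helper355)

* `Cond.congr` : `Cond` is invariant under isomorphisms;
* `five_of_quot` : conclusion (5) from `Cond (LL (G/O(G)))`.
-/

set_option autoImplicit false
set_option linter.unusedSectionVars false

open Cfsg

namespace Cfsg.Agent.H355.Lsp

theorem Cond.congr {T T' : Type*} [Group T] [Group T'] (e : T ≃* T') (h : Cond T) : Cond T' := by
  rcases h with ⟨h1, h2⟩ | ⟨K, iK, jK, k, hk, hk', ⟨f⟩⟩ | ⟨F, i, j, A, hA, ⟨f⟩⟩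
  · refine Or.inl ⟨h1.of_equiv e, ?_⟩
    rcases h2 with ⟨n, ⟨f⟩⟩ | h2
    · exact Or.inl ⟨n, ⟨e.symm.trans f⟩⟩
    · exact Or.inr (Cfsg.Agent.TwoFusion.SylowTypeTransfer.isQuasiDihedral_of_mulEquiv e h2)
  · exact Or.inr (Or.inl ⟨K, iK, jK, k, hk, hk', ⟨e.symm.trans f⟩⟩)
  · exact Or.inr (Or.inr ⟨F, i, j, A, hA, ⟨e.symm.trans f⟩⟩)

section

variable {G : Type*} [Group G] [Finite G]

theorem map_LL {Y : Type*} [Group Y] [Finite Y] (π : G →* Y) (hπ : Function.Surjective π) : (LL G).map π = LL Y := by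
  have : Fact (Nat.Prime 2) := ⟨Nat.prime_two⟩
  apply le_antisymm
  · rw [Subgroup.map_le_iff_le_comap, Subgroup.closure_le]
    rintro g ⟨n, hn⟩
    rw [SetLike.mem_coe, Subgroup.mem_comap]
    have h1 : orderOf (π g) ∣ 2 ^ n := by
      rw [← hn]
      exact orderOf_map_dvd π g
    obtain ⟨k, -, hk⟩ := (Nat.dvd_prime_pow Nat.prime_two).1 h1
    exact Subgroup.subset_closure ⟨k, hk⟩
  · rw [Subgroup.closure_le]
    rintro y ⟨n, hn⟩
    have hy : IsPGroup 2 (Subgroup.zpowers y) := by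
      apply IsPGroup.of_card (n := n)
      rw [Nat.card_zpowers, hn]
    obtain ⟨Q, hQ⟩ := hy.exists_le_sylow
    obtain ⟨P, rfl⟩ := Sylow.mapSurjective_surjective hπ 2 Q
    have h1 : y ∈ ((P.mapSurjective hπ : Sylow 2 Y) : Subgroup Y) := hQ (Subgroup.mem_zpowers y)
    rw [Sylow.coe_mapSurjective] at h1
    obtain ⟨g, hg, rfl⟩ := h1
    refine ⟨g, ?_, rfl⟩
    obtain ⟨k, hk⟩ := (IsPGroup.iff_orderOf.1 P.2) ⟨g, hg⟩
    rw [Subgroup.orderOf_mk] at hk
    exact Subgroup.subset_closure ⟨k, hk⟩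

theorem five_of_quot (h : Cond ↥(LL (G ⧸ Cfsg.oddCore G))) : Five G := by
  have hOn : (Cfsg.oddCore G).Normal := inferInstance
  have hodd : Odd (Nat.card (Cfsg.oddCore G)) := by
    have hc : (Nat.card (oddCore G)).Coprime 2 := Lib.Cores.pPrimeCore_coprime (G := G) 2
    exact Nat.coprime_two_right.1 hc
  have hLn : (LL G).Normal := by
    refine ⟨fun n hn g => ?_⟩
    have h1 := map_LL (MulAut.conj g).toMonoidHom (MulAut.conj g).surjective
    rw [← h1]
    exact ⟨n, hn, rfl⟩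
  let N : Subgroup G := Cfsg.oddCore G ⊓ LL G
  have hNn : N.Normal := inferInstance
  let π := QuotientGroup.mk' (Cfsg.oddCore G)
  have hπ : Function.Surjective π := QuotientGroup.mk'_surjective _
  have hmap := map_LL π hπ
  let ψ : ↥(LL G) →* ↥(LL (G ⧸ Cfsg.oddCore G)) := (π.comp (LL G).subtype).codRestrict _ (fun x => by
    rw [← hmap]
    exact ⟨x, x.2, rfl⟩)
  have hψ : Function.Surjective ψ := by
    rintro ⟨y, hy⟩
    rw [← hmap] at hy
    obtain ⟨g, hg, rfl⟩ := hy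
    exact ⟨⟨g, hg⟩, rfl⟩
  have hker : ψ.ker = N.subgroupOf (LL G) := by
    ext x
    rw [MonoidHom.mem_ker, Subgroup.mem_subgroupOf]
    constructor
    · intro h
      have h1 : π x = 1 := congrArg Subtype.val h
      rw [QuotientGroup.mk'_apply, QuotientGroup.eq_one_iff] at h1
      exact ⟨h1, x.2⟩
    · intro h
      apply Subtype.ext
      show π x = 1
      rw [QuotientGroup.mk'_apply, QuotientGroup.eq_one_iff]
      exact h.1
  refine ⟨N, hNn, Odd.of_dvd_nat hodd (Subgroup.card_dvd_of_le inf_le_left), inf_le_right, inferInstance, ?_⟩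
  exact h.congr ((QuotientGroup.quotientMulEquivOfEq hker.symm).trans (QuotientGroup.quotientKerEquivOfSurjective ψ hψ)).symm

end

end Cfsg.Agent.H355.Lsp
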