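import Cfsg.Agent.H355.LspOdd
import Cfsg.Agent.H355.LspFive
import Cfsg.Agent.H355.EvenCase
import Cfsg.Agent.H196.Lsp.Strong
import Cfsg.Agent.S3390
import Cfsg.Agent.TwoFusion.QGroupQuotient
import Cfsg.Agent.ClassicalGeometry.PSL2Basic
import Mathlib.GroupTheory.SpecificGroups.Alternating.Simple

/-!
# Groups of fixity two with stabilizers of even order (helper355)

* `psl_quot` : a normal simple subgroup of odd index and (semi)dihedral Sylow 2-subgroups;
* `one_of_sl` : the case of `SL₂(q)`;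
* `even_case` : the assembly.
-/

set_option autoImplicit false
set_option linter.unusedSectionVars false

universe u v

open Cfsg

namespace Cfsg.Agent.H355.Lsp

open MulAction Cfsg.Agent.H355.TwoPoint Cfsg.Agent.TwoFusion
open scoped Pointwise

theorem _root_.Cfsg.Agent.H355.TwoPoint.ETI.subgroupOf {Y : Type*} [Group Y] {D M : Subgroup Y} (h : ETI D)
    (hne : D.subgroupOf M ≠ ⊥) : ETI (D.subgroupOf M) := by
  obtain ⟨d, hd, hd1⟩ : ∃ d ∈ D.subgroupOf M, d ≠ 1 := by
    by_contra hcon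
    push Not at hcon
    exact hne ((Subgroup.eq_bot_iff_forall _).2 hcon)
  have hsub : ∀ g : M, (g : Y) ∈ Subgroup.normalizer (D : Set Y) →
      g ∈ Subgroup.normalizer ((D.subgroupOf M : Subgroup M) : Set M) := by
    intro g hg
    rw [Subgroup.mem_normalizer_iff] at hg ⊢
    intro x
    exact hg (x : Y)
  have hsup : ∀ g : M, g ∈ Subgroup.normalizer ((D.subgroupOf M : Subgroup M) : Set M) →
      (g : Y) ∈ Subgroup.normalizer (D : Set Y) := by
    intro g hg
    have h1 : g * d * g⁻¹ ∈ D.subgroupOf M := (Subgroup.mem_normalizer_iff.1 hg d).1 hd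
    exact h.ti g d hd (fun h2 => hd1 (Subtype.ext h2)) h1
  constructor
  · intro g x hx hx1 hgx
    exact hsub g (h.ti g x hx (fun h2 => hx1 (Subtype.ext h2)) hgx)
  · intro a b ha hb ha' hb'
    exact h.mul a b (hsup a ha) (hsup b hb) ha' hb'

theorem mem_of_two_pow {Y : Type*} [Group Y] [Finite Y] (M : Subgroup Y) [M.Normal] (hodd : Odd M.index) {x : Y} {k : ℕ}
    (hx : orderOf x = 2 ^ k) : x ∈ M := by
  rw [← QuotientGroup.eq_one_iff, ← orderOf_eq_one_iff]
  have h1 : orderOf (x : Y ⧸ M) ∣ 2 ^ k := by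
    rw [← hx]
    exact orderOf_map_dvd (QuotientGroup.mk' M) x
  have h2 : orderOf (x : Y ⧸ M) ∣ M.index := by
    rw [Subgroup.index_eq_card]
    exact orderOf_dvd_natCard _
  have h3 : Nat.Coprime (2 ^ k) M.index := Nat.Coprime.pow_left k (Nat.coprime_two_left.2 hodd)
  exact Nat.eq_one_of_dvd_coprimes h3 h1 h2

/-- dihedral or semidihedral -/
def DQ (S : Type*) [Group S] : Prop := (∃ n : ℕ, Nonempty (S ≃* DihedralGroup n)) ∨ Cfsg.IsQuasiDihedral S

theorem DQ.congr {S T : Type*} [Group S] [Group T] (e : S ≃* T) (h : DQ S) : DQ T := by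
  rcases h with ⟨n, ⟨f⟩⟩ | h
  · exact Or.inl ⟨n, ⟨e.symm.trans f⟩⟩
  · exact Or.inr (SylowTypeTransfer.isQuasiDihedral_of_mulEquiv e h)

/-- **a normal simple subgroup of odd index** -/
theorem psl_quot {Y : Type*} [Group Y] [Finite Y] {Ω : Type*} [Finite Ω] [MulAction Y Ω] (h : Fix2 Y Ω)
    (h3 : 3 ≤ Nat.card Ω) (hO : Cfsg.oddCore Y = ⊥) (M : Subgroup Y) (hM : M.Normal) (hMo : Odd M.index)
    (hs : IsSimpleGroup M) (hna : ¬ IsMulCommutative M) {t : Y} (ht : orderOf t = 2) {α β : Ω} (hαβ : α ≠ β)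
    (htα : t • α = α) (htβ : t • β = β) (S : Sylow 2 Y) (hS : DQ (S : Subgroup Y)) : Cond ↥(LL Y) := by
  have : Fact (Nat.Prime 2) := ⟨Nat.prime_two⟩
  have ht1 : t ≠ 1 := by
    rintro rfl
    rw [orderOf_one] at ht
    omega
  have htM : t ∈ M := mem_of_two_pow M hMo (k := 1) (by rw [ht, pow_one])
  have htD : t ∈ stabilizer Y α ⊓ stabilizer Y β := ⟨htα, htβ⟩
  have hDne : stabilizer Y α ⊓ stabilizer Y β ≠ ⊥ := by
    intro h1
    rw [h1, Subgroup.mem_bot] at htD
    exact ht1 htD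
  have hE := eti h.fix hαβ hDne
  have htD' : (⟨t, htM⟩ : M) ∈ (stabilizer Y α ⊓ stabilizer Y β).subgroupOf M := htD
  have hDM : (stabilizer Y α ⊓ stabilizer Y β).subgroupOf M ≠ ⊥ := by
    intro h1
    rw [h1, Subgroup.mem_bot] at htD'
    exact ht1 (congrArg Subtype.val htD')
  have hEM := hE.subgroupOf hDM
  have hDT : (stabilizer Y α ⊓ stabilizer Y β).subgroupOf M ≠ ⊤ := by
    intro h1
    rw [Subgroup.subgroupOf_eq_top] at h1
    have h2 := h.eq_bot_of_le_stabilizer h3 hM (h1.trans inf_le_left)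
    subst h2
    have := hs.toNontrivial
    exact not_subsingleton _ (inferInstance : Subsingleton (⊥ : Subgroup Y))
  have heven : Even (Nat.card ↥((stabilizer Y α ⊓ stabilizer Y β).subgroupOf M)) := by
    rw [even_iff_two_dvd]
    have h1 := orderOf_dvd_natCard (⟨⟨t, htM⟩, htD'⟩ : ↥((stabilizer Y α ⊓ stabilizer Y β).subgroupOf M))
    rw [Subgroup.orderOf_mk, Subgroup.orderOf_mk, ht] at h1
    exact h1
  have hSM : (S : Subgroup Y) ≤ M := by
    intro x hx
    obtain ⟨k, hk⟩ := (IsPGroup.iff_orderOf.1 S.2) ⟨x, hx⟩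
    rw [Subgroup.orderOf_mk] at hk
    exact mem_of_two_pow M hMo hk
  have hS' : DQ ((S.subtype hSM : Sylow 2 M) : Subgroup M) := by
    rw [Sylow.coe_subtype]
    exact hS.congr (Subgroup.subgroupOfEquivOfLe hSM).symm
  obtain ⟨F, i, j, ⟨e⟩⟩ := psl_of_sylow hna hEM hDM hDT heven (S.subtype hSM) hS'
  have heM : 2 ∣ Nat.card M := by
    have h1 := orderOf_dvd_natCard (⟨t, htM⟩ : M)
    rwa [Subgroup.orderOf_mk, ht] at h1
  have hC : Subgroup.centralizer (M : Set Y) = ⊥ := by
    have hinf : Subgroup.centralizer (M : Set Y) ⊓ M = ⊥ := by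
      rw [Subgroup.eq_bot_iff_forall]
      rintro x ⟨hx, hxM⟩
      have h1 : (⟨x, hxM⟩ : M) ∈ Subgroup.center M := by
        rw [Subgroup.mem_center_iff]
        intro y
        apply Subtype.ext
        exact Subgroup.mem_centralizer_iff.1 hx y y.2
      rcases (inferInstance : (Subgroup.center M).Normal).eq_bot_or_eq_top with h2 | h2
      · rw [h2, Subgroup.mem_bot] at h1
        exact congrArg Subtype.val h1
      · exfalso
        apply hna
        refine ⟨⟨fun a b => ?_⟩⟩
        have h3 : b ∈ Subgroup.center M := by rw [h2]; trivial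
        exact Subgroup.mem_center_iff.1 h3 a
    have hodd : Odd (Nat.card (Subgroup.centralizer (M : Set Y))) := by
      have h1 : Nat.card ((Subgroup.centralizer (M : Set Y)).map (QuotientGroup.mk' M)) =
          Nat.card (Subgroup.centralizer (M : Set Y)) := by
        obtain ⟨e⟩ := QGroupQuotient.nonempty_equiv_map (QuotientGroup.mk' M) (Subgroup.centralizer (M : Set Y)) (by
          intro x hx hx1
          rw [QuotientGroup.mk'_apply, QuotientGroup.eq_one_iff] at hx1
          have h2 : x ∈ Subgroup.centralizer (M : Set Y) ⊓ M := ⟨hx, hx1⟩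
          rwa [hinf, Subgroup.mem_bot] at h2)
        exact (Nat.card_congr e.toEquiv).symm
      rw [← h1]
      refine Odd.of_dvd_nat hMo ?_
      rw [Subgroup.index_eq_card]
      exact Subgroup.card_subgroup_dvd_card _
    rw [eq_bot_iff, ← hO]
    exact Lib.Cores.le_pPrimeCore (p := 2) inferInstance (Nat.coprime_two_right.2 hodd)
  exact Cfsg.Agent.H667.SemiDih.cond_of_psl M heM hC e

/-- the dihedral case (LSP-E) -/
def DihStmt : Prop :=
  ∀ (G : Type u) [Group G] [Finite G] (S : Sylow 2 G) (n : ℕ), 1 ≤ n → Nonempty ((S : Subgroup G) ≃* DihedralGroup n) →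
    Cond ↥(LL (G ⧸ Cfsg.oddCore G)) ∨ Nonempty (G ⧸ Cfsg.oddCore G ≃* alternatingGroup (Fin 7))

/-- the case of `SL₂(q)` (LSP-G) -/
def SLStmt : Prop :=
  ∀ (Y : Type u) [Group Y] [Finite Y] (Ω : Type v) [Finite Ω] [MulAction Y Ω] [FaithfulSMul Y Ω], Fix2 Y Ω →
    (∀ α : Ω, Even (Nat.card (MulAction.stabilizer Y α))) → Cfsg.oddCore Y = ⊥ → ∀ (S : Sylow 2 Y),
    Cfsg.IsQuasiDihedral (S : Subgroup Y) → ∀ z : Y, orderOf z = 2 → z ∈ Subgroup.center Y → ∀ (K L : Subgroup Y),
    K.Normal → K.index = 2 →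
    (∀ P : Sylow 2 ↥K, ∃ m : ℕ, 1 ≤ m ∧ Nonempty ((P : Subgroup ↥K) ≃* QuaternionGroup (2 ^ m))) →
    (∀ H : Subgroup ↥K, H.index ≠ 2) → L.Normal → L ≤ K →
    (∃ (F : Type) (_ : Field F) (_ : Fintype F), Odd (Fintype.card F) ∧
      Nonempty (L ≃* Matrix.SpecialLinearGroup (Fin 2) F)) →
    ∃ (α : Ω) (t : Y) (H : Subgroup Y), t ∈ MulAction.stabilizer Y α ∧ orderOf t = 2 ∧ t ∈ H ∧ H.index = 8 ∧
      ∀ g ∈ H, g * t = t * g → g = 1 ∨ g = t

/-- **a Frobenius group of index 8** -/
theorem one_of_index_eight {G : Type*} [Group G] [Finite G] {Y : Type*} [Group Y] {Ω Ω' : Type*} [MulAction G Ω]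
    [MulAction Y Ω'] {X : Subgroup G} {π : G →* Y} {f : Ω → Ω'} (q : QuotAct X π f) (hX : Good X Ω) {α' : Ω'} {t' : Y}
    (ht' : t' • α' = α') (hto : orderOf t' = 2) {H : Subgroup Y} (htH : t' ∈ H) (hi : H.index = 8)
    (hc : ∀ g ∈ H, g * t' = t' * g → g = 1 ∨ g = t') (hcard : 16 < Nat.card G) : One G := by
  obtain ⟨α, rfl⟩ := q.fsurj α'
  obtain ⟨t, rfl, ht⟩ := q.exists_lift ht' α rfl
  have hi' : (H.comap π).index = 8 := by rw [Subgroup.index_comap_of_surjective _ q.surj, hi]
  have ht1 : t ≠ 1 := by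
    rintro rfl
    rw [map_one, orderOf_one] at hto
    omega
  have hord : orderOf t = 2 := by
    apply orderOf_eq_prime _ ht1
    have h1 : π (t ^ 2) = 1 := by rw [map_pow, ← hto, pow_orderOf_eq_one]
    exact hX.free _ (q.mem_of_map h1) α (by rw [pow_two, mul_smul, ht, ht])
  have hmem : ∀ x : G, x ∈ Subgroup.zpowers t ↔ x = 1 ∨ x = t := by
    intro x
    constructor
    · intro hx
      obtain ⟨k, rfl⟩ := Subgroup.mem_zpowers_iff.1 hx
      rcases Int.even_or_odd k with hk | hk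
      · left
        obtain ⟨m, rfl⟩ := hk
        rw [← two_mul, zpow_mul, zpow_ofNat, ← hord, pow_orderOf_eq_one, one_zpow]
      · right
        obtain ⟨m, rfl⟩ := hk
        rw [zpow_add, zpow_mul, zpow_ofNat, ← hord, pow_orderOf_eq_one, one_zpow, one_mul, zpow_one]
    · rintro (rfl | rfl)
      · exact Subgroup.one_mem _
      · exact Subgroup.mem_zpowers _
  refine ⟨H.comap π, ⟨3, by rw [hi']; norm_num⟩, (Subgroup.zpowers t).subgroupOf (H.comap π), ?_, ?_, ?_⟩
  · intro hbot
    rw [Subgroup.subgroupOf_eq_bot, disjoint_iff] at hbot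
    have h1 : t ∈ Subgroup.zpowers t ⊓ H.comap π := ⟨Subgroup.mem_zpowers t, htH⟩
    rw [hbot, Subgroup.mem_bot] at h1
    exact ht1 h1
  · intro htop
    rw [Subgroup.subgroupOf_eq_top] at htop
    have h1 : Nat.card (H.comap π) ≤ 2 := by
      refine (Nat.le_of_dvd Nat.card_pos (Subgroup.card_dvd_of_le htop)).trans ?_
      rw [Nat.card_zpowers, hord]
    have h2 := Subgroup.card_mul_index (H.comap π)
    rw [hi'] at h2
    omega
  · rintro ⟨g, hg⟩ hgn
    rw [eq_bot_iff]
    rintro ⟨x, hx⟩ ⟨hx1, hx2⟩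
    obtain ⟨⟨d, hd⟩, hd1, hd2⟩ := (Subgroup.mem_smul_pointwise_iff_exists _ _ _).1 hx2
    have hdx : g * d * g⁻¹ = x := congrArg Subtype.val hd2
    rw [Subgroup.mem_bot]
    apply Subtype.ext
    show x = 1
    have hx1' : x = 1 ∨ x = t := (hmem x).1 hx1
    have hd1' : d = 1 ∨ d = t := (hmem d).1 hd1
    rcases hx1' with h1 | h1
    · exact h1
    rcases hd1' with h2 | h2
    · rw [← hdx, h2]
      group
    exfalso
    apply hgn
    have h3 : g * t = t * g := by
      rw [h1, h2] at hdx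
      rwa [mul_inv_eq_iff_eq_mul] at hdx
    show g ∈ Subgroup.zpowers t
    rw [hmem]
    rcases hc (π g) hg (by rw [← map_mul, h3, map_mul]) with h4 | h4
    · left
      exact hX.cent t ht1 ⟨α, ht⟩ g (q.mem_of_map h4) h3
    · right
      have h5 : π (g * t⁻¹) = 1 := by rw [map_mul, map_inv, h4, mul_inv_cancel]
      have h6 := hX.cent t ht1 ⟨α, ht⟩ (g * t⁻¹) (q.mem_of_map h5) (by
        rw [inv_mul_cancel_right, ← mul_assoc, ← h3, mul_inv_cancel_right])
      exact mul_inv_eq_one.1 h6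

theorem card_sl (F : Type) [Field F] [Fintype F] (hF : Odd (Fintype.card F)) :
    24 ≤ Nat.card (Matrix.SpecialLinearGroup (Fin 2) F) := by
  rw [Cfsg.Agent.ClassicalGeometry.PSL2Basic.card_SL2]
  have h1 : 1 < Fintype.card F := Fintype.one_lt_card
  have h2 : 3 ≤ Fintype.card F := by
    obtain ⟨k, hk⟩ := hF
    omega
  have h3 : 8 ≤ Fintype.card F ^ 2 - 1 := by
    have : 3 ^ 2 ≤ Fintype.card F ^ 2 := Nat.pow_le_pow_left h2 2
    omega
  calc 24 = 3 * 8 := by norm_num
    _ ≤ _ := Nat.mul_le_mul h2 h3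

/-- the Sylow 2-subgroup of the quotient by a normal subgroup of odd order -/
theorem exists_sylow_quot {G : Type*} [Group G] [Finite G] (X : Subgroup G) [X.Normal] (hodd : Odd (Nat.card X)) (S : Sylow 2 G) :
    ∃ S' : Sylow 2 (G ⧸ X), Nonempty ((S : Subgroup G) ≃* (S' : Subgroup (G ⧸ X))) := by
  have : Fact (Nat.Prime 2) := ⟨Nat.prime_two⟩
  refine ⟨S.mapSurjective (QuotientGroup.mk'_surjective X), ?_⟩
  rw [Sylow.coe_mapSurjective]
  apply QGroupQuotient.nonempty_equiv_map
  intro x hx hx1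
  rw [QuotientGroup.mk'_apply, QuotientGroup.eq_one_iff] at hx1
  exact QGroupQuotient.eq_one_of_isPGroup_of_coprime S.2 (Nat.coprime_two_right.2 hodd) hx hx1

/-- **stabilizers of even order** -/
theorem even_case (hE : DihStmt.{u}) (hG : SLStmt.{u, v}) {G : Type u} [Group G] [Finite G] {Ω : Type v} [Fintype Ω]
    [MulAction G Ω] [FaithfulSMul G Ω] (h : Fix2 G Ω) (heven : ∀ α : Ω, Even (Nat.card (stabilizer G α))) :
    One G ∨ Five G := by
  classical
  have : Fact (Nat.Prime 2) := ⟨Nat.prime_two⟩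
  have h3 := h.three_le
  obtain ⟨α⟩ : Nonempty Ω := by
    obtain ⟨g, α, -⟩ := h.exists_pair
    exact ⟨α⟩
  -- an involution fixing `α` and a Sylow subgroup containing it
  obtain ⟨⟨t, htα⟩, ht⟩ := exists_prime_orderOf_dvd_card' (G := ↥(stabilizer G α)) 2 (even_iff_two_dvd.1 (heven α))
  rw [Subgroup.orderOf_mk] at ht
  have ht1 : t ≠ 1 := by
    rintro rfl
    rw [orderOf_one] at ht
    omega
  have htp : IsPGroup 2 (Subgroup.zpowers t) := by
    apply IsPGroup.of_card (n := 1)
    rw [Nat.card_zpowers, ht, pow_one]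
  obtain ⟨S, hS⟩ := htp.exists_le_sylow
  have htS : t ∈ (S : Subgroup G) := hS (Subgroup.mem_zpowers t)
  by_cases hstrong : ∃ (P : Sylow 2 G) (ω : Ω), (P : Subgroup G) ≤ stabilizer G ω
  · obtain ⟨P, ω, hPω⟩ := hstrong
    refine Or.inr (five_of_quot (Cfsg.Agent.H196.Lsp.strong_case h P ?_ hPω))
    intro hPb
    have h1 := P.card_eq_multiplicity
    rw [hPb, Subgroup.card_bot] at h1
    have h2 : 2 ∣ Nat.card G := by
      rw [← ht]
      exact orderOf_dvd_natCard t
    have h3 : 1 ≤ (Nat.card G).factorization 2 :=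
      (Nat.prime_two.dvd_iff_one_le_factorization Nat.card_pos.ne').1 h2
    have h4 : 2 ^ 1 ≤ 2 ^ (Nat.card G).factorization 2 := Nat.pow_le_pow_right (by norm_num) h3
    omega
  push Not at hstrong
  have hDQ : One G ∨ DQ (S : Subgroup G) := by
    rcases Cfsg.Agent.S3390.result h.tr h.fix h.ex α S with h1 | h1 | h1 | h1
    · exfalso
      have h2 : t ∈ (S : Subgroup G) ⊓ stabilizer G α := ⟨htS, htα⟩
      rw [h1, Subgroup.mem_bot] at h2
      exact ht1 h2
    · exact Or.inr h1.1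
    · obtain ⟨-, -, N, -, h2, h4⟩ := h1
      left
      refine ⟨N, ?_, h4⟩
      rcases h2 with h2 | h2
      · exact ⟨1, by rw [h2, pow_one]⟩
      · obtain ⟨k, hk⟩ := S.2.exists_card_eq
        exact ⟨k, by rw [h2]; exact hk⟩
    · exact absurd h1 (hstrong S α)
  rcases hDQ with h1 | hDQ
  · exact Or.inl h1
  -- the quotient by the odd core
  have hXo : Odd (Nat.card (Cfsg.oddCore G)) := by
    have hc : (Nat.card (oddCore G)).Coprime 2 := Lib.Cores.pPrimeCore_coprime (G := G) 2
    exact Nat.coprime_two_right.1 hc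
  have hXn : (Cfsg.oddCore G).Normal := inferInstance
  rcases good_or_small h h3 (Cfsg.oddCore G) hXn hXo with hX | hsm
  swap
  · exact Or.inl (hsm.one h h3)
  let _ := quotAction (Ω := Ω) (Cfsg.oddCore G)
  have q : QuotAct (Ω := Ω) (Ω' := orbitRel.Quotient (Cfsg.oddCore G) Ω) (Cfsg.oddCore G)
    (QuotientGroup.mk' (Cfsg.oddCore G)) (Quotient.mk'' : Ω → orbitRel.Quotient (Cfsg.oddCore G) Ω) :=
    exists_quotAct (Cfsg.oddCore G)
  rcases q.small_or hX h with hsm | ⟨h1, h2⟩
  · exact Or.inl (hsm.one h h3)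
  have hfin : Finite (orbitRel.Quotient (Cfsg.oddCore G) Ω) := Quotient.finite _
  have hf := h1.faithful h2
  have hO : Cfsg.oddCore (G ⧸ Cfsg.oddCore G) = ⊥ := Lib.Cores.pPrimeCore_quotient_pPrimeCore 2
  obtain ⟨S', ⟨eS⟩⟩ := exists_sylow_quot (Cfsg.oddCore G) hXo S
  -- the involution has exactly two fixed points
  obtain ⟨β, hβ, htβ⟩ : ∃ β : Ω, β ≠ α ∧ t • β = β := by
    by_contra hcon
    push Not at hcon
    -- `|Ω|` is odd and a Sylow subgroup fixes a point
    have h4 : fixedBy Ω t = {α} := by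
      ext x
      rw [mem_fixedBy, Set.mem_singleton_iff]
      constructor
      · intro hx
        by_contra hne
        exact hcon x hne hx
      · rintro rfl
        exact htα
    have h5 : Nat.card (fixedPoints (Subgroup.zpowers t) Ω) = 1 := by
      have h6 : fixedPoints (Subgroup.zpowers t) Ω = {α} := by
        rw [← h4]
        ext x
        constructor
        · intro hx
          exact hx ⟨t, Subgroup.mem_zpowers t⟩
        · rintro hx ⟨y, hy⟩
          obtain ⟨k, rfl⟩ := Subgroup.mem_zpowers_iff.1 hy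
          exact (stabilizer G x).zpow_mem hx k
      rw [h6, Nat.card_coe_set_eq, Set.ncard_singleton]
    have h6 := htp.card_modEq_card_fixedPoints Ω
    rw [h5] at h6
    have h7 : ¬ 2 ∣ Nat.card Ω := by
      intro h8
      have h9 := (Nat.modEq_zero_iff_dvd.2 h8).symm.trans h6
      exact absurd h9 (by decide)
    obtain ⟨ω, hω⟩ := S.2.nonempty_fixed_point_of_prime_not_dvd_card Ω h7
    exact hstrong S ω fun x hx => hω ⟨x, hx⟩
  have hpsl : ∀ M : Subgroup (G ⧸ Cfsg.oddCore G), M.Normal → Odd M.index → IsSimpleGroup M → ¬ IsMulCommutative M →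
      Five G := by
    intro M hM hMo hs hna
    refine five_of_quot (psl_quot h1 h2 hO M hM hMo hs hna (t := QuotientGroup.mk' (Cfsg.oddCore G) t) ?_ ?_
      (q.map_stab htα) (q.map_stab htβ) S' (hDQ.congr eS))
    · have ht2 : t ^ 2 = 1 := by
        rw [← ht]
        exact pow_orderOf_eq_one t
      apply orderOf_eq_prime
      · rw [← map_pow, ht2, map_one]
      · exact q.map_ne_one hX ht1 htα
    · intro h4
      exact hβ (q.fix_inj hX ht1 htβ htα h4.symm)
  rcases hDQ with ⟨n, hn⟩ | hQ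
  · have hn1 : 1 ≤ n := by
      by_contra hn0
      have hn0 : n = 0 := by omega
      subst hn0
      obtain ⟨e⟩ := hn
      have : Finite (DihedralGroup 0) := Finite.of_equiv _ e.toEquiv
      have h4 : Infinite (DihedralGroup 0) := by
        have h5 : Function.Injective (fun x : ZMod 0 => DihedralGroup.r x) := fun a b hab => by
          simpa using hab
        have : Infinite (ZMod 0) := (inferInstance : Infinite ℤ)
        exact Infinite.of_injective _ h5
      exact not_finite (DihedralGroup 0)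
    rcases hE G S n hn1 hn with h4 | ⟨⟨e⟩⟩
    · exact Or.inr (five_of_quot h4)
    · have hA : IsSimpleGroup (alternatingGroup (Fin 7)) := alternatingGroup.isSimpleGroup (by simp)
      have : Nontrivial (G ⧸ Cfsg.oddCore G) := e.toEquiv.nontrivial
      have hsY : IsSimpleGroup (G ⧸ Cfsg.oddCore G) :=
        IsSimpleGroup.isSimpleGroup_of_surjective e.symm.toMonoidHom e.symm.surjective
      let e' : G ⧸ Cfsg.oddCore G ≃* (⊤ : Subgroup (G ⧸ Cfsg.oddCore G)) := Subgroup.topEquiv.symm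
      have : Nontrivial (⊤ : Subgroup (G ⧸ Cfsg.oddCore G)) := e'.symm.toEquiv.nontrivial
      have hsT : IsSimpleGroup (⊤ : Subgroup (G ⧸ Cfsg.oddCore G)) :=
        IsSimpleGroup.isSimpleGroup_of_surjective e'.toMonoidHom e'.surjective
      refine Or.inr (hpsl ⊤ inferInstance (by rw [Subgroup.index_top]; exact odd_one) hsT ?_)
      intro hc
      have h5 := alternatingGroup.center_eq_bot (α := Fin 7) (by simp)
      obtain ⟨a, ha⟩ := exists_ne (1 : alternatingGroup (Fin 7))
      apply ha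
      rw [← Subgroup.mem_bot, ← h5, Subgroup.mem_center_iff]
      intro b
      have h6 : e' (e.symm b) * e' (e.symm a) = e' (e.symm a) * e' (e.symm b) := hc.is_comm.comm _ _
      rw [← map_mul, ← map_mul, ← map_mul, ← map_mul] at h6
      exact e.symm.injective (e'.injective h6)
  · rcases Cfsg.Agent.H667.SemiDih.semidihedral_case S hQ with h4 | ⟨M, hM, hMo, hs, hna⟩ | h4
    · exact Or.inr (five_of_quot h4)
    · exact Or.inr (hpsl M hM hMo hs hna)
    · obtain ⟨z, hzS, hz, hzc, K, L, hK, hK2, hKS, hKi, hL, hLK, F, i, j, hF, ⟨e⟩⟩ := h4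
      have heven' : ∀ ω' : orbitRel.Quotient (Cfsg.oddCore G) Ω, Even (Nat.card (stabilizer (G ⧸ Cfsg.oddCore G) ω')) := by
        intro ω'
        obtain ⟨ω, rfl⟩ := q.fsurj ω'
        rw [q.card_stabilizer hX]
        exact heven ω
      have hz1 : z ≠ 1 := by
        intro h5
        have h6 := hz.1
        rw [h5, orderOf_one] at h6
        omega
      have hz2 : z ^ 2 = 1 := by
        rw [← hz.1]
        exact pow_orderOf_eq_one z
      have hzo : orderOf (QuotientGroup.mk z : G ⧸ Cfsg.oddCore G) = 2 := by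
        apply orderOf_eq_prime
        · rw [← QuotientGroup.mk_pow, hz2, QuotientGroup.mk_one]
        · intro h5
          rw [QuotientGroup.eq_one_iff] at h5
          exact hz1 (QGroupQuotient.eq_one_of_isPGroup_of_coprime S.2 (Nat.coprime_two_right.2 hXo) hzS h5)
      obtain ⟨α', t', H, ht', hto, htH, hi, hc⟩ := hG (G ⧸ Cfsg.oddCore G) (orbitRel.Quotient (Cfsg.oddCore G) Ω) h1 heven'
        hO S' (SylowTypeTransfer.isQuasiDihedral_of_mulEquiv eS hQ) _ hzo hzc K L hK hK2 hKS hKi hL hLK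
        ⟨F, i, j, hF, ⟨e⟩⟩
      left
      refine one_of_index_eight q hX ht' hto htH hi hc ?_
      have h5 := card_sl F hF
      rw [← Nat.card_congr e.toEquiv] at h5
      have h6 : Nat.card L ≤ Nat.card (G ⧸ Cfsg.oddCore G) := Nat.card_le_card_of_injective _ L.subtype_injective
      have h7 : Nat.card (G ⧸ Cfsg.oddCore G) ≤ Nat.card G :=
        Nat.card_le_card_of_surjective _ (QuotientGroup.mk'_surjective (Cfsg.oddCore G))
      omega

end Cfsg.Agent.H355.Lsp
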