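import Cfsg.Agent.H355.TwoTransElim
import Cfsg.Agent.H355.L3Grp
import Cfsg.Agent.H88.ReeTwo

/-!
# The small Ree groups have no TI Hall subgroup `D` (helper355)
-/

set_option autoImplicit false
set_option linter.unusedSectionVars false

open Cfsg

namespace Cfsg.Agent.H355.ReeElim

open TIHall Cfsg.Agent.LieRecognition.ReeAbs Cfsg.Agent.LieRecognition.ReeThree
  Cfsg.Agent.LieRecognition.ReeSylowThree Cfsg.Agent.LieRecognition.ReeSplit
  Cfsg.Agent.H88.ReeTwo

universe u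

variable {G : Type u} [Group G] [Finite G] {D : Subgroup G} {K : Type*} [Field K] [Fintype K] {m : ℕ}
  {U : K → K → K → G} {h : Kˣ → G} {n : G}

theorem not_dvd_of_dvd (R : Data m U h n) (hK : Fintype.card K = 3 ^ (2 * m + 1)) (hD : TIH D) {r : ℕ}
    [hr : Fact r.Prime] (hrq : r ∣ Fintype.card K - 1) : ¬ r ∣ Nat.card D := by
  classical
  intro hrD
  obtain ⟨a, ha⟩ := exists_prime_orderOf_dvd_card' (G := Kˣ) r
    (by rwa [Nat.card_eq_fintype_card, Fintype.card_units])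
  have hh1 : h 1 = 1 := by
    have h1 := R.h_mul 1 1
    rw [mul_one] at h1
    exact (mul_eq_left.1 h1.symm)
  have hpow : ∀ j : ℕ, h a ^ j = h (a ^ j) := by
    intro j
    induction j with
    | zero => rw [pow_zero, pow_zero, hh1]
    | succ j ih => rw [pow_succ, pow_succ, R.h_mul, ih]
  have hinj : ∀ b c : Kˣ, h b = h c → b = c := by
    intro b c hbc
    have h1 : U 0 0 0 * h b = U 0 0 0 * h c := by rw [hbc]
    exact (R.inj₁ _ _ _ _ _ _ _ _ h1).2.2.2
  have hw1 : h a ≠ 1 := by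
    intro h1
    have h2 := hinj a 1 (by rw [h1, hh1])
    rw [h2, orderOf_one] at ha
    exact hr.out.one_lt.ne ha
  have hwr : h a ^ r = 1 := by rw [hpow, ← ha, pow_orderOf_eq_one, hh1]
  have hP : IsPGroup r (Subgroup.zpowers (h a)) := by
    rw [IsPGroup.iff_card, Nat.card_zpowers]
    exact ⟨1, by rw [orderOf_eq_prime hwr hw1, pow_one]⟩
  obtain ⟨g, hg⟩ := hD.exists_conj_le hrD hP
  have hgw := hg _ (Subgroup.mem_zpowers _)
  have hgw1 : g * h a * g⁻¹ ≠ 1 := fun h1 => hw1 (L3.conj_eq_one' h1)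
  have hz : h (-1) * h a = h a * h (-1) := by rw [← R.h_mul, ← R.h_mul, mul_comm]
  have hzN : g * h (-1) * g⁻¹ ∈ Subgroup.normalizer (D : Set G) := by
    refine hD.mem_normalizer_of_commute hgw hgw1 ?_
    calc g * h (-1) * g⁻¹ * (g * h a * g⁻¹) = g * (h (-1) * h a) * g⁻¹ := by group
      _ = g * (h a * h (-1)) * g⁻¹ := by rw [hz]
      _ = _ := by group
  have hna : n * h a * n⁻¹ = (h a)⁻¹ := by
    rw [R.n_h, mul_inv_cancel_right, eq_inv_iff_mul_eq_one, ← R.h_mul, inv_mul_cancel, hh1]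
  have hnN : g * n * g⁻¹ ∈ Subgroup.normalizer (D : Set G) := by
    refine hD.ti _ _ hgw hgw1 ?_
    have h1 : g * n * g⁻¹ * (g * h a * g⁻¹) * (g * n * g⁻¹)⁻¹ = (g * h a * g⁻¹)⁻¹ := by
      calc g * n * g⁻¹ * (g * h a * g⁻¹) * (g * n * g⁻¹)⁻¹ = g * (n * h a * n⁻¹) * g⁻¹ := by group
        _ = g * (h a)⁻¹ * g⁻¹ := by rw [hna]
        _ = _ := by group
    rw [h1]
    exact inv_mem hgw
  have hn1 : n ≠ h (-1) := by
    intro h1
    have h2 : U 0 0 0 = 1 := by
      have h3 := R.U_mul 0 0 0 0 0 0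
      have h4 : U 0 0 0 * U 0 0 0 = U 0 0 0 := by
        rw [h3]
        congr 1 <;> simp
      exact mul_eq_left.1 h4
    refine R.ne 0 0 0 (-1) 0 0 0 1 0 0 0 ?_
    rw [h2, hh1, one_mul, one_mul, one_mul, mul_one]
    exact h1.symm
  have hn2 : n ≠ 1 := by
    intro h1
    have h2 : U 0 0 0 = 1 := by
      have h3 := R.U_mul 0 0 0 0 0 0
      have h4 : U 0 0 0 * U 0 0 0 = U 0 0 0 := by
        rw [h3]
        congr 1 <;> simp
      exact mul_eq_left.1 h4
    refine R.ne 0 0 0 1 0 0 0 1 0 0 0 ?_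
    rw [h2, hh1, one_mul, one_mul, mul_one]
    exact h1.symm
  have h1 := hD.klein hzN hnN
    (by rw [L3.conj_pow', pow_two, R.inv_sq]; group)
    (by rw [L3.conj_pow', pow_two, R.n_n]; group)
    (by
      have h2 : h (-1) * n = n * h (-1) := by
        rw [R.n_h]
        simp
      calc g * h (-1) * g⁻¹ * (g * n * g⁻¹) = g * (h (-1) * n) * g⁻¹ := by group
        _ = g * (n * h (-1)) * g⁻¹ := by rw [h2]
        _ = _ := by group)
    (fun h2 => R.inv_ne_one hK (L3.conj_eq_one' h2)) (fun h2 => hn2 (L3.conj_eq_one' h2))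
  exact hn1 ((MulAut.conj g).injective h1).symm

theorem three_not_dvd (R : Data m U h n) (hK : Fintype.card K = 3 ^ (2 * m + 1)) (hm : 1 ≤ m) (hD : TIH D) :
    ¬ 3 ∣ Nat.card D := by
  classical
  intro h3
  have : Fact (Nat.Prime 3) := ⟨Nat.prime_three⟩
  -- an odd prime divisor of `q - 1`
  obtain ⟨r, hr, hr2, hrq⟩ : ∃ r : ℕ, r.Prime ∧ r ≠ 2 ∧ r ∣ Fintype.card K - 1 := by
    obtain ⟨c, hc⟩ : ∃ c, 9 ^ m = 8 * c + 1 := by
      have h1 : 9 ^ m ≡ 1 [MOD 8] := by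
        calc 9 ^ m ≡ 1 ^ m [MOD 8] := Nat.ModEq.pow m (by decide)
          _ = 1 := one_pow m
      refine ⟨9 ^ m / 8, ?_⟩
      have h2 : 9 ^ m % 8 = 1 := h1
      omega
    have h1 : Fintype.card K - 1 = 2 * (12 * c + 1) := by
      rw [hK, pow_succ, pow_mul]
      norm_num
      rw [hc]
      omega
    have h2 : 12 * c + 1 ≠ 1 := by
      intro h3
      have h4 : c = 0 := by omega
      rw [h4] at hc
      have h5 : 9 ^ 1 ≤ 9 ^ m := Nat.pow_le_pow_right (by norm_num) hm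
      omega
    refine ⟨(12 * c + 1).minFac, Nat.minFac_prime h2, ?_, ?_⟩
    · intro h3
      have h4 := Nat.minFac_dvd (12 * c + 1)
      rw [h3] at h4
      omega
    · rw [h1]
      exact (Nat.minFac_dvd _).mul_left 2
  have : Fact r.Prime := ⟨hr⟩
  apply not_dvd_of_dvd R hK hD hrq
  obtain ⟨a, ha⟩ := exists_prime_orderOf_dvd_card' (G := Kˣ) r
    (by rwa [Nat.card_eq_fintype_card, Fintype.card_units])
  have hP : IsPGroup 3 (uSub R) := by
    rw [IsPGroup.iff_card]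
    refine ⟨3 * (2 * m + 1), ?_⟩
    rw [card_uSub R, hK, ← pow_mul, mul_comm]
  obtain ⟨g, hg⟩ := hD.exists_conj_le h3 hP
  have hu1 : U 0 0 1 ≠ 1 := by
    intro h1
    have h2 : U 0 0 1 * h 1 = U 0 0 0 * h 1 := by
      have h3 : U 0 0 0 = 1 := by
        have h4 : U 0 0 0 * U 0 0 0 = U 0 0 0 := by
          rw [R.U_mul 0 0 0 0 0 0]
          congr 1 <;> simp
        exact mul_eq_left.1 h4
      rw [h1, h3]
    have h5 := (R.inj₁ _ _ _ _ _ _ _ _ h2).2.2.1
    exact one_ne_zero h5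
  have hu : U 0 0 1 ∈ uSub R := ⟨_, _, _, rfl⟩
  have hN : g * h a * g⁻¹ ∈ Subgroup.normalizer (D : Set G) := by
    refine hD.ti _ (g * U 0 0 1 * g⁻¹) (hg _ hu) (fun h1 => hu1 (L3.conj_eq_one' h1)) ?_
    have h1 : g * h a * g⁻¹ * (g * U 0 0 1 * g⁻¹) * (g * h a * g⁻¹)⁻¹ =
        g * (h a * U 0 0 1 * (h a)⁻¹) * g⁻¹ := by group
    rw [h1]
    exact hg _ (h_conj_mem R a hu)
  have horder : orderOf (g * h a * g⁻¹) = r := by
    have h1 : orderOf (g * h a * g⁻¹) = orderOf (h a) := by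
      have := orderOf_injective (MulAut.conj g).toMonoidHom (MulAut.conj g).injective (h a)
      simpa using this
    rw [h1]
    have h2 : orderOf (h a) = orderOf a :=
      orderOf_injective (MonoidHom.mk' h R.h_mul) (h_injective R) a
    rw [h2, ha]
  have hgD := hD.mem_of_odd hN (by rw [horder]; exact hr.odd_of_ne_two hr2)
  rw [← horder]
  exact Subgroup.orderOf_dvd_natCard D hgD

theorem coprime_card_bSub (R : Data m U h n) (hK : Fintype.card K = 3 ^ (2 * m + 1)) (hm : 1 ≤ m) (hD : TIH D) :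
    (Nat.card D).Coprime (Nat.card (bSub R)) := by
  rw [card_bSub R]
  refine Nat.Coprime.mul_right ?_ ?_
  · rw [hK, ← pow_mul]
    exact hD.coprime_of_prime Nat.prime_three (three_not_dvd R hK hm hD)
  · rw [Nat.coprime_iff_gcd_eq_one, Nat.eq_one_iff_not_exists_prime_dvd]
    intro r hr hrd
    have : Fact r.Prime := ⟨hr⟩
    exact not_dvd_of_dvd R hK hD (hrd.trans (Nat.gcd_dvd_right _ _)) (hrd.trans (Nat.gcd_dvd_left _ _))

theorem arith {q : ℕ} (hq : 3 ≤ q) (h : q ^ 3 - 1 ∣ q ^ 3 * (q - 1) * (q ^ 3 + 1)) : False := by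
  obtain ⟨a, rfl⟩ : ∃ a, q = a + 3 := ⟨q - 3, by omega⟩
  have h1 : (((a + 3) ^ 3 - 1 : ℕ)).Coprime ((a + 3) ^ 3) := by
    have h2 : 1 ≤ (a + 3) ^ 3 := Nat.one_le_pow _ _ (by omega)
    have h3 : (a + 3) ^ 3 = ((a + 3) ^ 3 - 1) + 1 := by omega
    rw [Nat.coprime_comm]
    conv_lhs => rw [h3]
    exact (Nat.coprime_self_add_left).2 (Nat.coprime_one_left _)
  rw [mul_assoc] at h
  have h2 := h1.dvd_of_dvd_mul_left h
  have h4 : (a + 3) ^ 3 - 1 ∣ (a + 3 - 1) * 2 := by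
    have h2' : 1 ≤ (a + 3) ^ 3 := Nat.one_le_pow _ _ (by omega)
    have h3 : (a + 3) ^ 3 + 1 = ((a + 3) ^ 3 - 1) + 2 := by omega
    rw [h3, mul_add] at h2
    exact (Nat.dvd_add_right (Dvd.intro_left _ rfl)).1 h2
  have h5 := Nat.le_of_dvd (by omega) h4
  have h6 : (a + 3) ^ 3 = a ^ 3 + 9 * a ^ 2 + 27 * a + 27 := by ring
  rw [h6] at h5
  have h7 : 0 ≤ a ^ 3 := Nat.zero_le _
  have h8 : 0 ≤ 9 * a ^ 2 := Nat.zero_le _
  omega

theorem false_of_data [IsSimpleGroup G] (hG : ¬ IsMulCommutative G) (hDs : commutator D ≠ ⊤)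
    (R : Data m U h n) (hK : Fintype.card K = 3 ^ (2 * m + 1)) (hm : 1 ≤ m) (hD : TIH D) : False := by
  have hcop := coprime_card_bSub R hK hm hD
  have hX := card_coset R
  have hq : 3 ≤ Fintype.card K := by
    rw [hK]
    calc 3 = 3 ^ 1 := by norm_num
      _ ≤ 3 ^ (2 * m + 1) := Nat.pow_le_pow_right (by norm_num) (by omega)
  have hq3 : 27 ≤ Fintype.card K ^ 3 := by
    calc 27 = 3 ^ 3 := by norm_num
      _ ≤ Fintype.card K ^ 3 := Nat.pow_le_pow_left hq 3
  have h1 := Exc.sub_two_dvd hG hD hDs (X := G ⧸ bSub R) (by omega) (two_coset R) (by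
    intro d hd hd1 y hy
    obtain ⟨g, rfl⟩ := QuotientGroup.mk_surjective y
    have h2 : g⁻¹ * d * g ∈ bSub R := by
      have h3 : ((d * g : G) : G ⧸ bSub R) = (g : G ⧸ bSub R) := hy
      have h4 := QuotientGroup.eq.1 h3.symm
      rwa [← mul_assoc] at h4
    have h3 : orderOf (g⁻¹ * d * g) = orderOf d := by
      have := orderOf_injective (MulAut.conj g⁻¹).toMonoidHom (MulAut.conj g⁻¹).injective d
      simpa using this
    have h4 : orderOf d ∣ Nat.card D := Subgroup.orderOf_dvd_natCard D hd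
    have h5 : orderOf d ∣ Nat.card (bSub R) := by
      rw [← h3]
      exact Subgroup.orderOf_dvd_natCard (bSub R) h2
    have h6 := Nat.Coprime.eq_one_of_dvd (hcop.coprime_dvd_left h4) h5
    exact hd1 (orderOf_eq_one_iff.1 h6))
  rw [hX, card_eq R] at h1
  have h2 : Fintype.card K ^ 3 + 1 - 2 = Fintype.card K ^ 3 - 1 := by omega
  rw [h2] at h1
  exact arith hq h1

/-- **The small Ree groups have no TI Hall subgroup `D`.** -/
theorem false_of_ree [IsSimpleGroup G] (hG : ¬ IsMulCommutative G) (hD : TIH D) (hDs : commutator D ≠ ⊤)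
    (h : Lie.IsoRee G) : False := by
  obtain ⟨K, _, _, m, hm, hK, ⟨e⟩⟩ := h
  obtain ⟨U, h, n, R⟩ := Cfsg.Agent.ChevalleyStructure.Ree.Data.exists_data hK
  exact false_of_data hG hDs (Cfsg.Agent.H88.ReeTwo.data_map e.symm R) hK hm hD

end Cfsg.Agent.H355.ReeElim
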