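import Mathlib

/-!
# Hall divisors of the orders of the sporadic groups (helper355)

`Num.main` : `N` the order of a sporadic group or of the Tits group, `N = m k`, `m > 1` odd, prime to `k`,
`k ≡ 2 mod m`, `a (a + 1) ∣ N` and `N m = a (a + 1) s²`: then `N = |J₁|`, `m = 55, 57` or `N = |Suz|`, `m = 7`.
-/

set_option autoImplicit false
set_option linter.style.longLine false

namespace Cfsg.Agent.H355.Num

/-- moduli and bit masks of the squares -/
def res : List (ℕ × ℕ) := [(43, 3678700564051), (67, 61808106872519771731), (199, 113609121299519182719251449131805282219309388139817713625015), (211, 1276851644109113882183330310376468972669945505335701621656087155), (349, 826880766488940389749994088849087325215025223839551146871575989527824718111256954121844499338046920708667), (179, 213639904063009026037015904849907732195616726489756219), (193, 12141444129520299540464513365627305638510449038044929807327), (239, 7065734077645836540429506696338911894775431419613439055992324412120959), (331, 1699862450396214707451032248524258986690879262815509236256504669919126981816691668543982116676518515),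 (37, 96068509339), (107, 50079290986288516948354744811035), (127, 30790515292689894969866990722818747159), (223, 2341578194317687999480691957418079046404556494213344638229394998167), (389, 781454403109685730892365377736105128167337980101733391188276713931562579849636714889719622034173783002679600368790259), (79, 89932533647391829339959), (191, 26252236807386378396776436556232156846523662924177192831), (113, 8586949319576899938239170417650583), (61, 1662926210933060155), (121, 740263759254911624382188592437514811), (31, 303908791), (263, 594840964307296816185063038393585183677063853173192926460230716038812197665631), (181, 2211898081514375631961044640985059119846564062529976891), (29, 332473075), (7, 23)]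

/-- the factorizations of the orders -/
def facs : List (List (ℕ × ℕ)) := [
  [(2, 4), (3, 2), (5, 1), (11, 1)],
  [(2, 6), (3, 3), (5, 1), (11, 1)],
  [(2, 7), (3, 2), (5, 1), (7, 1), (11, 1)],
  [(2, 7), (3, 2), (5, 1), (7, 1), (11, 1), (23, 1)],
  [(2, 10), (3, 3), (5, 1), (7, 1), (11, 1), (23, 1)],
  [(2, 3), (3, 1), (5, 1), (7, 1), (11, 1), (19, 1)],
  [(2, 7), (3, 3), (5, 2), (7, 1)],
  [(2, 7), (3, 5), (5, 1), (17, 1), (19, 1)],
  [(2, 21), (3, 3), (5, 1), (7, 1), (11, 3), (23, 1), (29, 1), (31, 1), (37, 1), (43, 1)],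
  [(2, 21), (3, 9), (5, 4), (7, 2), (11, 1), (13, 1), (23, 1)],
  [(2, 18), (3, 6), (5, 3), (7, 1), (11, 1), (23, 1)],
  [(2, 10), (3, 7), (5, 3), (7, 1), (11, 1), (23, 1)],
  [(2, 7), (3, 6), (5, 3), (7, 1), (11, 1)],
  [(2, 9), (3, 2), (5, 3), (7, 1), (11, 1)],
  [(2, 13), (3, 7), (5, 2), (7, 1), (11, 1), (13, 1)],
  [(2, 10), (3, 3), (5, 2), (7, 3), (17, 1)],
  [(2, 14), (3, 3), (5, 3), (7, 1), (13, 1), (29, 1)],
  [(2, 9), (3, 4), (5, 1), (7, 3), (11, 1), (19, 1), (31, 1)],
  [(2, 8), (3, 7), (5, 6), (7, 1), (11, 1), (31, 1), (37, 1), (67, 1)],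
  [(2, 17), (3, 9), (5, 2), (7, 1), (11, 1), (13, 1)],
  [(2, 18), (3, 13), (5, 2), (7, 1), (11, 1), (13, 1), (17, 1), (23, 1)],
  [(2, 21), (3, 16), (5, 2), (7, 3), (11, 1), (13, 1), (17, 1), (23, 1), (29, 1)],
  [(2, 14), (3, 6), (5, 6), (7, 1), (11, 1), (19, 1)],
  [(2, 15), (3, 10), (5, 3), (7, 2), (13, 1), (19, 1), (31, 1)],
  [(2, 41), (3, 13), (5, 6), (7, 2), (11, 1), (13, 1), (17, 1), (19, 1), (23, 1), (31, 1), (47, 1)],
  [(2, 46), (3, 20), (5, 9), (7, 6), (11, 2), (13, 3), (17, 1), (19, 1), (23, 1), (29, 1), (31, 1), (41, 1), (47, 1), (59, 1), (71, 1)],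
  [(2, 11), (3, 3), (5, 2), (13, 1)]]

theorem res_ok : ∀ x ∈ res, 0 < x.1 ∧ ∀ y < x.1, x.2.testBit (y * y % x.1) = true := by decide +kernel

/-- `x` is detected as a non-square -/
def nsq (x : ℕ) : Bool := res.any fun r => !(r.2.testBit (x % r.1))

theorem ne_of_nsq {x : ℕ} (h : nsq x = true) (y : ℕ) : y * y ≠ x := by
  rintro rfl
  unfold nsq at h
  rw [List.any_eq_true] at h
  obtain ⟨r, hr, h1⟩ := h
  obtain ⟨h0, h2⟩ := res_ok r hr
  have h3 := h2 (y % r.1) (Nat.mod_lt _ h0)
  rw [← Nat.mul_mod] at h3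
  rw [h3] at h1
  exact absurd h1 (by decide)

/-- the product -/
def prd (L : List (ℕ × ℕ)) : ℕ := (L.map fun x => x.1 ^ x.2).prod

/-- the odd Hall divisors -/
def halls : List (ℕ × ℕ) → List ℕ
  | [] => [1]
  | x :: L => if x.1 = 2 then halls L else halls L ++ (halls L).map fun y => y * x.1 ^ x.2

theorem mem_halls {L : List (ℕ × ℕ)} (hL : ∀ x ∈ L, x.1.Prime ∧ 0 < x.2) {m k : ℕ} (hm : m * k = prd L)
    (hc : m.Coprime k) (hodd : Odd m) : m ∈ halls L := by
  induction L generalizing m k with
  | nil =>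
    have h1 : m * k = 1 := hm
    rw [halls, List.mem_singleton]
    exact Nat.eq_one_of_mul_eq_one_right h1
  | cons x L ih =>
    obtain ⟨hp, he⟩ := hL x (by simp)
    have hm' : m * k = x.1 ^ x.2 * prd L := by rw [hm]; simp [prd]
    have hpp : IsPrimePow (x.1 ^ x.2) := hp.isPrimePow.pow he.ne'
    have h0 : 0 < x.1 ^ x.2 := pow_pos hp.pos _
    have hih := @ih (fun y hy => hL y (List.mem_cons_of_mem _ hy))
    rw [halls]
    rcases (hc.isPrimePow_dvd_mul hpp).1 ⟨_, hm'⟩ with h1 | h1
    · obtain ⟨m', rfl⟩ := h1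
      have h2 : m' * k = prd L := by
        apply Nat.eq_of_mul_eq_mul_left h0
        rw [← hm']; ring
      have h3 := hih h2 (Nat.Coprime.coprime_mul_left hc) (Nat.Odd.of_mul_right hodd)
      have hx2 : x.1 ≠ 2 := by
        intro h4
        have h5 : Odd (x.1 ^ x.2) := Nat.Odd.of_mul_left hodd
        rw [h4, Nat.odd_pow_iff he.ne'] at h5
        exact absurd h5 (by decide)
      rw [if_neg hx2, List.mem_append]
      right
      rw [List.mem_map]
      exact ⟨m', h3, by ring⟩
    · obtain ⟨k', rfl⟩ := h1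
      have h2 : m * k' = prd L := by
        apply Nat.eq_of_mul_eq_mul_left h0
        rw [← hm']; ring
      have h3 := hih h2 (Nat.Coprime.coprime_mul_left_right hc) hodd
      split_ifs
      · exact h3
      · rw [List.mem_append]; exact Or.inl h3

/-- parity of the exponent -/
def par (m : ℕ) (x : ℕ × ℕ) : ℕ := if x.1 ∣ m then 0 else x.2 % 2

/-- the candidates -/
def cands (m : ℕ) : List (ℕ × ℕ) → List ℕ
  | [] => [1]
  | x :: L => (cands m L).flatMap fun y => (List.range (x.2 / 2 + 1)).map fun i => y * x.1 ^ (2 * i + par m x)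

theorem mem_cands {m : ℕ} {L : List (ℕ × ℕ)} (hL : ∀ x ∈ L, x.1.Prime ∧ 0 < x.2) (hnd : (L.map Prod.fst).Nodup)
    {P : ℕ} (hP : P ∣ prd L) (hpar : ∀ x ∈ L, P.factorization x.1 % 2 = par m x) : P ∈ cands m L := by
  induction L generalizing P with
  | nil =>
    have h1 : P ∣ 1 := hP
    rw [cands, List.mem_singleton]
    exact Nat.dvd_one.1 h1
  | cons x L ih =>
    obtain ⟨hp, he⟩ := hL x (by simp)
    rw [List.map_cons, List.nodup_cons] at hnd
    have hP' : P ∣ x.1 ^ x.2 * prd L := by
      have : prd (x :: L) = x.1 ^ x.2 * prd L := by simp [prd]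
      rwa [this] at hP
    have hprd : prd L ≠ 0 := by
      rw [prd]
      refine List.prod_ne_zero ?_
      intro h
      rw [List.mem_map] at h
      obtain ⟨y, hy, h1⟩ := h
      exact (pow_pos (hL y (List.mem_cons_of_mem _ hy)).1.pos _).ne' h1
    have hcop : ∀ e : ℕ, (x.1 ^ e).Coprime (prd L) := by
      intro e
      apply Nat.Coprime.pow_left
      rw [prd, Nat.coprime_list_prod_right_iff]
      intro y hy
      rw [List.mem_map] at hy
      obtain ⟨z, hz, rfl⟩ := hy
      apply Nat.Coprime.pow_right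
      rw [Nat.coprime_primes hp (hL z (List.mem_cons_of_mem _ hz)).1]
      intro h
      exact hnd.1 (List.mem_map.2 ⟨z, hz, h.symm⟩)
    have hP0 : P ≠ 0 := by
      rintro rfl
      have := Nat.eq_zero_of_zero_dvd hP'
      exact (mul_ne_zero (pow_pos hp.pos _).ne' hprd) this
    obtain ⟨f, P', hP'c, hPe⟩ := Nat.exists_eq_pow_mul_and_not_dvd hP0 x.1 hp.ne_one
    have hcop' : P'.Coprime (x.1 ^ x.2) := (Nat.Coprime.pow_left _ ((hp.coprime_iff_not_dvd).2 hP'c)).symm
    have h1 : P' ∣ prd L := by
      have h2 : P' ∣ x.1 ^ x.2 * prd L := (Dvd.intro_left _ hPe.symm).trans hP'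
      exact hcop'.dvd_of_dvd_mul_left h2
    have h2 : f ≤ x.2 := by
      have h3 : x.1 ^ f ∣ x.1 ^ x.2 * prd L := (Dvd.intro _ hPe.symm).trans hP'
      have h4 := (hcop f).dvd_of_dvd_mul_right h3
      exact (Nat.pow_dvd_pow_iff_le_right hp.one_lt).1 h4
    have hP'0 : P' ≠ 0 := by rintro rfl; exact hP'c (dvd_zero _)
    have hfac : ∀ q : ℕ, P.factorization q = (if q = x.1 then f else 0) + P'.factorization q := by
      intro q
      rw [hPe, Nat.factorization_mul (pow_pos hp.pos _).ne' hP'0, Nat.Prime.factorization_pow hp, Finsupp.add_apply,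
        Finsupp.single_apply]
      congr 1
      exact if_congr eq_comm rfl rfl
    have h3 : P' ∈ cands m L := by
      refine ih (fun y hy => hL y (List.mem_cons_of_mem _ hy)) hnd.2 h1 ?_
      intro y hy
      rw [← hpar y (List.mem_cons_of_mem _ hy), hfac, if_neg, zero_add]
      intro h
      exact hnd.1 (List.mem_map.2 ⟨y, hy, h⟩)
    have h4 := hpar x (by simp)
    rw [hfac, if_pos rfl, Nat.factorization_eq_zero_of_not_dvd hP'c, add_zero] at h4
    rw [cands, List.mem_flatMap]
    refine ⟨P', h3, ?_⟩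
    rw [List.mem_map]
    refine ⟨f / 2, ?_, ?_⟩
    · rw [List.mem_range]
      have := Nat.div_le_div_right (c := 2) h2
      omega
    · rw [← h4, Nat.div_add_mod, hPe, mul_comm]

/-- the exceptions -/
def exc (N m : ℕ) : Bool := (N == 175560 && (m == 55 || m == 57)) || (N == 448345497600 && m == 7)

/-- the test -/
def ok (L : List (ℕ × ℕ)) : Bool :=
  (L.all fun x => decide (0 < x.2)) && decide (L.map Prod.fst).Nodup &&
  (halls L).all fun m => (m == 1) || !((prd L / m) % m == 2) || exc (prd L) m ||
    (cands m L).all fun P => nsq (4 * P + 1)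

theorem all_ok : ∀ L ∈ facs, ok L = true := by decide +kernel

theorem all_prime : ∀ L ∈ facs, ∀ x ∈ L, x.1.Prime := by decide +kernel

theorem factorization_prd {L : List (ℕ × ℕ)} (hL : ∀ x ∈ L, x.1.Prime) (hnd : (L.map Prod.fst).Nodup)
    {x : ℕ × ℕ} (hx : x ∈ L) : (prd L).factorization x.1 = x.2 := by
  induction L with
  | nil => simp at hx
  | cons y L ih =>
    rw [List.map_cons, List.nodup_cons] at hnd
    have hp := hL y (by simp)
    have hprd : prd L ≠ 0 := by
      rw [prd]
      refine List.prod_ne_zero ?_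
      intro h
      rw [List.mem_map] at h
      obtain ⟨z, hz, h1⟩ := h
      exact (pow_pos (hL z (List.mem_cons_of_mem _ hz)).pos _).ne' h1
    have h1 : prd (y :: L) = y.1 ^ y.2 * prd L := by simp [prd]
    rw [h1, Nat.factorization_mul (pow_pos hp.pos _).ne' hprd, Nat.Prime.factorization_pow hp, Finsupp.add_apply,
      Finsupp.single_apply]
    rcases List.mem_cons.1 hx with rfl | hx
    · rw [if_pos rfl]
      have h2 : ¬ x.1 ∣ prd L := by
        rw [prd, (Nat.prime_iff.1 hp).dvd_prod_iff]
        rintro ⟨a, ha, h3⟩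
        rw [List.mem_map] at ha
        obtain ⟨z, hz, rfl⟩ := ha
        have h4 := hp.dvd_of_dvd_pow h3
        rw [Nat.prime_dvd_prime_iff_eq hp (hL z (List.mem_cons_of_mem _ hz))] at h4
        exact hnd.1 (List.mem_map.2 ⟨z, hz, h4.symm⟩)
      rw [Nat.factorization_eq_zero_of_not_dvd h2, add_zero]
    · rw [if_neg, zero_add]
      · exact ih (fun z hz => hL z (List.mem_cons_of_mem _ hz)) hnd.2 hx
      · intro h2
        exact hnd.1 (List.mem_map.2 ⟨x, hx, h2.symm⟩)

/-- **The numerical criterion for the sporadic groups.** -/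
theorem main {L : List (ℕ × ℕ)} (hL : L ∈ facs) {m k j : ℕ} (hm : m * k = prd L) (hc : m.Coprime k) (hodd : Odd m)
    (hm1 : m ≠ 1) (hk : k = 2 + j * m) {a s : ℕ} (ha : a * (a + 1) ∣ prd L)
    (hs : prd L * m = a * (a + 1) * s ^ 2) : (prd L = 175560 ∧ (m = 55 ∨ m = 57)) ∨ (prd L = 448345497600 ∧ m = 7) := by
  have h0 := all_ok L hL
  have hp := all_prime L hL
  unfold ok at h0
  rw [Bool.and_eq_true, Bool.and_eq_true, List.all_eq_true, decide_eq_true_iff, List.all_eq_true] at h0
  obtain ⟨⟨h1, h2⟩, h3⟩ := h0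
  have hL' : ∀ x ∈ L, x.1.Prime ∧ 0 < x.2 := fun x hx => ⟨hp x hx, by simpa using h1 x hx⟩
  have h4 := h3 m (mem_halls hL' hm hc hodd)
  rw [Bool.or_eq_true, Bool.or_eq_true, Bool.or_eq_true] at h4
  have hm0 : 0 < m := Nat.pos_of_ne_zero (by rintro rfl; exact absurd hodd (by decide))
  rcases h4 with ((h4 | h4) | h4) | h4
  · exact absurd (by simpa using h4) hm1
  · exfalso
    have h5 : prd L / m = k := by rw [← hm]; exact Nat.mul_div_cancel_left k hm0
    rw [h5, hk, Nat.add_mul_mod_self_right, Nat.mod_eq_of_lt (by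
      obtain ⟨i, hi⟩ := hodd
      omega)] at h4
    simp at h4
  · unfold exc at h4
    simp only [Bool.or_eq_true, Bool.and_eq_true, beq_iff_eq] at h4
    exact h4
  · exfalso
    have h5 : a * (a + 1) ∈ cands m L := by
      refine mem_cands hL' h2 ha ?_
      intro x hx
      have hpx := hp x hx
      have hprd0 : prd L ≠ 0 := by
        rw [← hm]
        intro h6
        rcases mul_eq_zero.1 h6 with h6 | h6
        · omega
        · omega
      have hP0 : a * (a + 1) ≠ 0 := fun h6 => hprd0 (by rw [h6] at ha; exact Nat.eq_zero_of_zero_dvd ha)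
      have hs0 : s ≠ 0 := by
        rintro rfl
        rw [zero_pow two_ne_zero, mul_zero] at hs
        rcases mul_eq_zero.1 hs with h6 | h6
        · exact hprd0 h6
        · omega
      have h6 : (prd L * m).factorization x.1 = (a * (a + 1) * s ^ 2).factorization x.1 := by rw [hs]
      rw [Nat.factorization_mul hprd0 hm0.ne', Nat.factorization_mul hP0 (pow_ne_zero 2 hs0), Nat.factorization_pow,
        Finsupp.add_apply, Finsupp.add_apply, Finsupp.smul_apply, factorization_prd hp h2 hx, smul_eq_mul] at h6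
      have h7 : x.2 = m.factorization x.1 + k.factorization x.1 := by
        rw [← factorization_prd hp h2 hx, ← hm, Nat.factorization_mul hm0.ne' (by omega), Finsupp.add_apply]
      unfold par
      split_ifs with h8
      · have h9 : ¬ x.1 ∣ k := fun h10 => hpx.one_lt.ne' (Nat.dvd_one.1 (hc ▸ Nat.dvd_gcd h8 h10))
        rw [Nat.factorization_eq_zero_of_not_dvd h9] at h7
        omega
      · rw [Nat.factorization_eq_zero_of_not_dvd h8] at h6
        omega
    rw [List.all_eq_true] at h4
    exact ne_of_nsq (h4 _ h5) (2 * a + 1) (by ring)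

end Cfsg.Agent.H355.Num
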