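import Cfsg.Agent.H355.Numer
import Cfsg.Agent.H355.NumSpor
import Cfsg.Agent.H355.L3Grp
import Cfsg.Agent.NotCT.Orders
import Cfsg.Agent.H413.JOneLocal
import Cfsg.Agent.H421.Rows

/-!
# The sporadic groups have no TI Hall subgroup `D` (helper355)
-/

set_option autoImplicit false
set_option linter.unusedSectionVars false

open Cfsg

namespace Cfsg.Agent.H355.SporElim

open TIHall

universe u

variable {G : Type u} [Group G] [Finite G] {D : Subgroup G}

theorem key [IsSimpleGroup G] (hG : ¬ IsMulCommutative G) (hD : TIH D) (hDs : commutator D ≠ ⊤) {N : ℕ}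
    (hN : Nat.card G = N) (hmem : N ∈ Num.facs.map Num.prd) :
    (N = 175560 ∧ (Nat.card D = 55 ∨ Nat.card D = 57)) ∨ (N = 448345497600 ∧ Nat.card D = 7) := by
  obtain ⟨L, hL, hLN⟩ := List.mem_map.1 hmem
  obtain ⟨a, s, -, ha, hs⟩ := Exc.exists_square hG hD hDs
  obtain ⟨j, hj⟩ := hD.index_eq
  have h1 := Num.main hL (m := Nat.card D) (k := D.index) (by rw [D.card_mul_index, hN, hLN]) hD.coprime_index hD.odd
    (fun h => hD.ne_bot (Subgroup.card_eq_one.1 h)) hj (a := a) (s := s) (by rw [hLN, ← hN]; exact ha)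
    (by rw [hLN, ← hN]; exact hs)
  rwa [hLN] at h1

/-- an element of prime order commuting with an element of order `p ∣ |D|` -/
theorem dvd_of_commute (hD : TIH D) {p r : ℕ} [hp : Fact p.Prime] (hpD : p ∣ Nat.card D) {x y : G}
    (hx : orderOf x = p) (hy : orderOf y = r) (hr : Odd r) (hxy : y * x = x * y) : r ∣ Nat.card D := by
  have hP : IsPGroup p (Subgroup.zpowers x) := by
    rw [IsPGroup.iff_card, Nat.card_zpowers]
    exact ⟨1, by rw [hx, pow_one]⟩
  obtain ⟨g, hg⟩ := hD.exists_conj_le hpD hP
  have hgx := hg _ (Subgroup.mem_zpowers x)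
  have hx1 : g * x * g⁻¹ ≠ 1 := by
    intro h1
    rw [L3.conj_eq_one' h1, orderOf_one] at hx
    exact hp.out.one_lt.ne hx
  have h1 := hD.mem_normalizer_of_commute (g := g * y * g⁻¹) hgx hx1 (by
    calc g * y * g⁻¹ * (g * x * g⁻¹) = g * (y * x) * g⁻¹ := by group
      _ = g * (x * y) * g⁻¹ := by rw [hxy]
      _ = _ := by group)
  have h2 : orderOf (g * y * g⁻¹) = r := by
    rw [← hy]
    exact orderOf_injective (MulAut.conj g).toMonoidHom (MulAut.conj g).injective y
  have h3 := hD.mem_of_odd h1 (by rw [h2]; exact hr)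
  have h4 := Subgroup.orderOf_dvd_natCard D h3
  rwa [h2] at h4

theorem false_of_J1 (hD : TIH D) (h : Spor.IsoJ1 G) (hm : Nat.card D = 55 ∨ Nat.card D = 57) : False := by
  obtain ⟨e⟩ := h
  have hl := H413.JOneLocal.isLocal
  have h3 : Fact (Nat.Prime 3) := ⟨by norm_num⟩
  have h5 : Fact (Nat.Prime 5) := ⟨by norm_num⟩
  have h175 : Nat.card G = 175560 := by rw [Nat.card_congr e.toEquiv]; exact H413.JOneLocal.card_J1
  have := H413.JOneLocal.fin_J1
  obtain ⟨x3, hx3⟩ := exists_prime_orderOf_dvd_card' (G := G) 3 (by rw [h175]; norm_num)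
  have hc3 := hl.cent3 (e x3) (by rw [MulEquiv.orderOf_eq, hx3])
  obtain ⟨⟨y, hy⟩, hy5⟩ := exists_prime_orderOf_dvd_card' (G := Subgroup.centralizer ({e x3} : Set Spor.J1)) 5
    (by rw [hc3]; norm_num)
  rw [Subgroup.orderOf_mk] at hy5
  have hyc := Subgroup.mem_centralizer_singleton_iff.1 hy
  have hz5 : orderOf (e.symm y) = 5 := by rw [MulEquiv.orderOf_eq, hy5]
  have hcomm : e.symm y * x3 = x3 * e.symm y := by
    apply e.injective
    rw [map_mul, map_mul, e.apply_symm_apply, hyc]
  rcases hm with hm | hm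
  · have h1 := dvd_of_commute hD (p := 5) (by rw [hm]; norm_num) hz5 hx3 (by decide) hcomm.symm
    rw [hm] at h1
    exact absurd h1 (by norm_num)
  · have h1 := dvd_of_commute hD (p := 3) (by rw [hm]; norm_num) hx3 hz5 (by decide) hcomm
    rw [hm] at h1
    exact absurd h1 (by norm_num)

theorem false_of_suz (hD : TIH D) (h : Spor.IsoSuz G) (hm : Nat.card D = 7) : False := by
  obtain ⟨g, hg⟩ := H421.Rows.suz_21 h
  have h7 : Fact (Nat.Prime 7) := ⟨by norm_num⟩
  have h1 := dvd_of_commute hD (p := 7) (r := 3) (by rw [hm]) (x := g ^ 3) (y := g ^ 7)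
    (by rw [orderOf_pow, hg]; norm_num) (by rw [orderOf_pow, hg]; norm_num) (by decide)
    (by rw [← pow_add, ← pow_add])
  rw [hm] at h1
  exact absurd h1 (by norm_num)

/-- **The sporadic groups and the Tits group.** -/
theorem false_of_sporadic [IsSimpleGroup G] (hG : ¬ IsMulCommutative G) (hD : TIH D) (hDs : commutator D ≠ ⊤)
    (h : IsSporadicGroup G ∨ Lie.IsoTits G) : False := by
  have hne : ∀ {N : ℕ}, Nat.card G = N → N ∈ Num.facs.map Num.prd → N ≠ 175560 → N ≠ 448345497600 → False := by
    intro N hN hmem h1 h2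
    rcases key hG hD hDs hN hmem with ⟨h3, -⟩ | ⟨h3, -⟩
    · exact h1 h3
    · exact h2 h3
  rcases h with h | h
  · rcases h with h | h | h | h | h | h | h | h | h | h | h | h | h | h | h | h | h | h | h | h |
      h | h | h | h | h | h
    · exact hne (NotCT.Orders.m11 h) (by decide +kernel) (by norm_num) (by norm_num)
    · exact hne (NotCT.Orders.m12 h) (by decide +kernel) (by norm_num) (by norm_num)
    · exact hne (NotCT.Orders.m22 h) (by decide +kernel) (by norm_num) (by norm_num)
    · exact hne (NotCT.Orders.m23 h) (by decide +kernel) (by norm_num) (by norm_num)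
    · exact hne (NotCT.Orders.m24 h) (by decide +kernel) (by norm_num) (by norm_num)
    · rcases key hG hD hDs (NotCT.Orders.j1 h) (by decide +kernel) with ⟨-, h3⟩ | ⟨h3, -⟩
      · exact false_of_J1 hD h h3
      · exact absurd h3 (by norm_num)
    · exact hne (NotCT.Orders.j2 h) (by decide +kernel) (by norm_num) (by norm_num)
    · exact hne (NotCT.Orders.j3 h) (by decide +kernel) (by norm_num) (by norm_num)
    · exact hne (NotCT.Orders.j4 h) (by decide +kernel) (by norm_num) (by norm_num)
    · exact hne (NotCT.Orders.co1 h) (by decide +kernel) (by norm_num) (by norm_num)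
    · exact hne (NotCT.Orders.co2 h) (by decide +kernel) (by norm_num) (by norm_num)
    · exact hne (NotCT.Orders.co3 h) (by decide +kernel) (by norm_num) (by norm_num)
    · exact hne (NotCT.Orders.mcl h) (by decide +kernel) (by norm_num) (by norm_num)
    · exact hne (NotCT.Orders.hs h) (by decide +kernel) (by norm_num) (by norm_num)
    · rcases key hG hD hDs (NotCT.Orders.suz h) (by decide +kernel) with ⟨h3, -⟩ | ⟨-, h3⟩
      · exact absurd h3 (by norm_num)
      · exact false_of_suz hD h h3
    · exact hne (NotCT.Orders.he h) (by decide +kernel) (by norm_num) (by norm_num)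
    · exact hne (NotCT.Orders.ru h) (by decide +kernel) (by norm_num) (by norm_num)
    · exact hne (NotCT.Orders.on h) (by decide +kernel) (by norm_num) (by norm_num)
    · exact hne (NotCT.Orders.ly h) (by decide +kernel) (by norm_num) (by norm_num)
    · exact hne (NotCT.Orders.fi22 h) (by decide +kernel) (by norm_num) (by norm_num)
    · exact hne (NotCT.Orders.fi23 h) (by decide +kernel) (by norm_num) (by norm_num)
    · exact hne (NotCT.Orders.fi24 h) (by decide +kernel) (by norm_num) (by norm_num)
    · exact hne (NotCT.Orders.hn h) (by decide +kernel) (by norm_num) (by norm_num)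
    · exact hne (NotCT.Orders.th h) (by decide +kernel) (by norm_num) (by norm_num)
    · exact hne (NotCT.Orders.b h) (by decide +kernel) (by norm_num) (by norm_num)
    · exact hne (NotCT.Orders.m h) (by decide +kernel) (by norm_num) (by norm_num)
  · exact hne (NotCT.Orders.tits h) (by decide +kernel) (by norm_num) (by norm_num)

end Cfsg.Agent.H355.SporElim
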