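import Cfsg.Agent.H355.Prod
import Cfsg.Agent.H355.L3Grp
import Cfsg.Agent.KFacts.TwF4.Inv
import Cfsg.Agent.ChevalleyStructure.TwF4.TwistedFix

/-!
# The groups `²F₄(q)` have no TI Hall subgroup `D` (helper355)
-/

set_option autoImplicit false
set_option linter.unusedSectionVars false

open Cfsg

namespace Cfsg.Agent.H355.TwF4Elim

open TIHall Cfsg.Agent.KFacts.TwF4 Cfsg.Agent.SplitTwo Cfsg.Agent.SplitTwo.ZS
open Cfsg.Agent.TitsThree.RankTwoZ Cfsg.Agent.TitsThree.RankTwoRGD Cfsg.Agent.SplitTwo.RootSysZ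
open Cfsg.Agent.KFacts.TwF4.Arc

universe u

variable {F : Type*} [Field F] {σ : F →+* F} {G : Type u} [Group G] [Finite G] (S : Full σ G)

include S

theorem pair (hR : S.R.p = 2) {z s : G} (k : ZMod (2 * 8)) (hz : z ∈ S.R.X k) (hs : s ∈ S.Zc 2) :
    (∃ P : Subgroup G, IsPGroup 2 P ∧ z * s ∈ P) ∨ ∀ v : F, S.e 4 0 v * (z * s) = z * s * S.e 4 0 v := by
  have hX : ∀ k : ℤ, IsPGroup 2 (S.XZ k) := by
    intro k
    have := S.R.isPGroup (k : ZMod (2 * 8))
    rwa [hR] at this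
  have hk : (((k.val : ℕ) : ℤ) : ZMod (2 * 8)) = k := by rw [Int.cast_natCast]; exact ZMod.natCast_zmod_val _
  have hz' : z ∈ S.XZ (k.val : ℤ) := by
    show z ∈ S.R.X _
    rw [hk]; exact hz
  have hs' : s ∈ S.XZ 4 := S.Zc_le 2 hs
  have hlt : k.val < 16 := ZMod.val_lt k
  rcases lt_or_ge k.val 4 with h1 | h1
  · refine Or.inl ⟨J S.XZ 0 4, isPGroup_J S.zsys8 hX 8 0 4 (by norm_num) (by norm_num), mul_mem ?_ ?_⟩
    · exact mem_J hz' (by omega) (by omega)
    · exact mem_J hs' (by norm_num) (by norm_num)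
  rcases lt_or_ge k.val 12 with h2 | h2
  · refine Or.inl ⟨J S.XZ 4 11, isPGroup_J S.zsys8 hX 8 4 11 (by norm_num) (by norm_num), mul_mem ?_ ?_⟩
    · exact mem_J hz' (by omega) (by omega)
    · exact mem_J hs' (by norm_num) (by norm_num)
  rcases eq_or_ne k.val 12 with h3 | h3
  · right
    intro v
    have h4 : z ∈ S.XZ (2 * 6) := by rw [h3] at hz'; exact hz'
    obtain ⟨p, u, rfl⟩ := (S.mem_XZ_even 6 z).1 h4
    obtain ⟨w, rfl⟩ := hs
    have e1 := S.e_e2 4 0 v p u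
    have e2 := S.e_e2 2 0 w 0 v
    have h6 : ((4 : ZMod 8) + 2) = ((6 : ℤ) : ZMod 8) := by decide
    have h7 : ((2 : ZMod 8) + 2) = 4 := by decide
    rw [h6] at e1
    rw [h7] at e2
    calc S.e 4 0 v * (S.e ((6 : ℤ) : ZMod 8) p u * S.e 2 0 w) = S.e 4 0 v * S.e ((6 : ℤ) : ZMod 8) p u * S.e 2 0 w := by
          rw [mul_assoc]
      _ = S.e ((6 : ℤ) : ZMod 8) p u * (S.e 4 0 v * S.e 2 0 w) := by rw [e1, mul_assoc]
      _ = _ := by rw [← e2, mul_assoc]
  · have h5 : z ∈ S.XZ ((k.val : ℤ) - 16) := by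
      show z ∈ S.R.X _
      have : (((k.val : ℤ) - 16 : ℤ) : ZMod (2 * 8)) = k := by
        rw [Int.cast_sub, hk]
        have : ((16 : ℤ) : ZMod (2 * 8)) = 0 := by decide
        rw [this, sub_zero]
      rw [this]; exact hz
    refine Or.inl ⟨J S.XZ (-3) 4, isPGroup_J S.zsys8 hX 8 (-3) 4 (by norm_num) (by norm_num), mul_mem ?_ ?_⟩
    · exact mem_J h5 (by omega) (by omega)
    · exact mem_J hs' (by norm_num) (by norm_num)

theorem false_of_full [IsSimpleGroup G] (hG : ¬ IsMulCommutative G) {D : Subgroup G} (hD : TIH D)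
    (hDs : commutator D ≠ ⊤) (hR : S.R.p = 2) (hF : ∃ c : Fˣ, c ≠ 1) : False := by
  have hs1 : S.e 2 0 1 ≠ 1 := fun h => one_ne_zero (S.e_eq_one h).2
  have hsq : ∀ a : ZMod 8, ∀ v : F, S.e a 0 v ^ 2 = 1 := by
    intro a v
    have h2 : v + v = 0 := by rw [← two_mul, S.two, zero_mul]
    rw [pow_two, S.e_mul, add_zero, zero_mul, add_zero, h2, S.e_zero]
  have hns : ∀ x : G, x * S.e 2 0 1 * x⁻¹ ∉ D := by
    intro x
    exact hD.notMem_of_sq (by rw [L3.conj_pow', hsq]; group) (fun h => hs1 (L3.conj_eq_one' h))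
  obtain ⟨g, x, hx, hx1⟩ := Exc.exists_mul_mem hG hD hDs hs1 hs1 hns hns
  obtain ⟨b, hb, t, ht, w, hw, b', hb', rfl⟩ := S.bruhat g
  have hbP : b ∈ S.PL := J_mono (by norm_num) le_rfl hb
  have hbP' : b' ∈ S.PL := J_mono (by norm_num) le_rfl hb'
  have hs : S.e 2 0 1 ∈ S.Zc 2 := ⟨1, rfl⟩
  have e1 : b' * S.e 2 0 1 * b'⁻¹ = S.e 2 0 1 := by rw [S.comm_PL hbP' hs]; group
  have e2 : b⁻¹ * S.e 2 0 1 * b = S.e 2 0 1 := by rw [mul_assoc, ← S.comm_PL hbP hs]; group
  have hs1' : t⁻¹ * S.e 2 0 1 * t ∈ S.Zc 2 := by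
    have := S.T_conj_Zc (inv_mem ht) hs
    rwa [inv_inv] at this
  have h4 : S.e 2 0 1 ∈ S.R.X 4 := S.Zc_le 2 hs
  have e3 : b * t * w * b' * S.e 2 0 1 * (b * t * w * b')⁻¹ * S.e 2 0 1 =
      (b * t) * ((w * S.e 2 0 1 * w⁻¹) * (t⁻¹ * S.e 2 0 1 * t)) * (b * t)⁻¹ := by
    calc b * t * w * b' * S.e 2 0 1 * (b * t * w * b')⁻¹ * S.e 2 0 1
        = b * t * w * (b' * S.e 2 0 1 * b'⁻¹) * w⁻¹ * t⁻¹ * (b⁻¹ * S.e 2 0 1 * b) * b⁻¹ := by group
      _ = _ := by rw [e1, e2]; group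
  rw [e3] at hx hx1
  set d := (w * S.e 2 0 1 * w⁻¹) * (t⁻¹ * S.e 2 0 1 * t) with hd
  have hx' : (x * (b * t)) * d * (x * (b * t))⁻¹ ∈ D := by
    have : (x * (b * t)) * d * (x * (b * t))⁻¹ = x * (b * t * d * (b * t)⁻¹) * x⁻¹ := by group
    rw [this]; exact hx
  have hd1 : d ≠ 1 := by
    rintro h
    apply hx1
    rw [h]; group
  have hy1 : (x * (b * t)) * d * (x * (b * t))⁻¹ ≠ 1 := fun h => hd1 (L3.conj_eq_one' h)
  obtain ⟨k, hk⟩ : ∃ k, w * S.e 2 0 1 * w⁻¹ ∈ S.R.X k := by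
    obtain ⟨c, hc | hc⟩ := hw
    · exact ⟨_, (hc 4 _).2 h4⟩
    · exact ⟨_, (hc 4 _).2 h4⟩
  generalize x * (b * t) = y at hx' hy1
  rcases pair S hR k hk hs1' with ⟨P, hP, hdP⟩ | hcomm
  · obtain ⟨n, hn⟩ := hP ⟨d, hdP⟩
    have hn' : d ^ 2 ^ n = 1 := congrArg Subtype.val hn
    have h5 := hD.odd_orderOf hx'
    have h6 : orderOf (y * d * y⁻¹) ∣ 2 ^ n := by
      apply orderOf_dvd_of_pow_eq_one
      rw [L3.conj_pow', hn']; group
    have h7 : (orderOf (y * d * y⁻¹)).Coprime (2 ^ n) := (Nat.coprime_two_right.2 h5).pow_right n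
    exact hy1 (orderOf_eq_one_iff.1 (Nat.Coprime.eq_one_of_dvd h7 h6))
  · have hN : ∀ v : F, y * S.e 4 0 v * y⁻¹ ∈ Subgroup.normalizer (D : Set G) := by
      intro v
      refine hD.mem_normalizer_of_commute hx' hy1 ?_
      calc y * S.e 4 0 v * y⁻¹ * (y * d * y⁻¹) = y * (S.e 4 0 v * d) * y⁻¹ := by group
        _ = y * (d * S.e 4 0 v) * y⁻¹ := by rw [hd, hcomm v]
        _ = _ := by group
    obtain ⟨c, hc⟩ := hF
    have h5 := hD.klein (hN 1) (hN c) (by rw [L3.conj_pow', hsq]; group) (by rw [L3.conj_pow', hsq]; group)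
      (by
        have h6 : S.e 4 0 1 * S.e 4 0 c = S.e 4 0 c * S.e 4 0 1 := by
          rw [S.e_mul, S.e_mul, zero_mul, add_comm (1 : F)]
        calc y * S.e 4 0 1 * y⁻¹ * (y * S.e 4 0 c * y⁻¹) = y * (S.e 4 0 1 * S.e 4 0 c) * y⁻¹ := by group
          _ = y * (S.e 4 0 c * S.e 4 0 1) * y⁻¹ := by rw [h6]
          _ = _ := by group)
      (fun h => one_ne_zero (S.e_eq_one (L3.conj_eq_one' h)).2)
      (fun h => c.ne_zero (S.e_eq_one (L3.conj_eq_one' h)).2)
    have h6 := (MulAut.conj y).injective h5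
    exact hc (Units.ext (S.injE 4 0 1 0 c h6).2.symm)

omit S

/-- transport of the hypothesis to an isomorphic group -/
theorem TIH_map {G H : Type*} [Group G] [Group H] (e : G ≃* H) {D : Subgroup G} (hD : TIH D) :
    TIH (D.map e.toMonoidHom) := by
  have hN : Subgroup.normalizer ((D.map e.toMonoidHom : Subgroup H) : Set H) =
      (Subgroup.normalizer (D : Set G)).map e.toMonoidHom := by
    ext x
    rw [Subgroup.mem_normalizer_iff, Subgroup.mem_map]
    constructor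
    · intro hx
      refine ⟨e.symm x, ?_, by simp⟩
      rw [Subgroup.mem_normalizer_iff]
      intro y
      have h1 := hx (e y)
      have h2 : ∀ z : H, z ∈ D.map e.toMonoidHom ↔ e.symm z ∈ D := by
        intro z
        constructor
        · rintro ⟨w, hw, rfl⟩
          simpa using hw
        · intro hz
          exact ⟨_, hz, by simp⟩
      rw [h2, h2] at h1
      simpa using h1
    · rintro ⟨g, hg, rfl⟩
      rw [Subgroup.mem_normalizer_iff] at hg
      intro y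
      have h2 : ∀ z : H, z ∈ D.map e.toMonoidHom ↔ e.symm z ∈ D := by
        intro z
        constructor
        · rintro ⟨w, hw, rfl⟩
          simpa using hw
        · intro hz
          exact ⟨_, hz, by simp⟩
      rw [h2, h2]
      have := hg (e.symm y)
      simpa using this
  constructor
  · intro h
    apply hD.ne_bot
    rw [Subgroup.map_eq_bot_iff_of_injective _ e.injective] at h
    exact h
  · rw [Nat.card_congr (D.equivMapOfInjective e.toMonoidHom e.injective).toEquiv.symm]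
    exact hD.odd
  · rintro g _ ⟨d, hd, rfl⟩ hd1 ⟨d', hd', h⟩
    rw [hN]
    refine ⟨e.symm g, hD.ti _ d hd (fun h => hd1 (by rw [h]; simp)) ?_, by simp⟩
    have h2 : e.symm g * d * (e.symm g)⁻¹ = d' := by
      apply e.injective
      have h3 : e d' = g * e d * g⁻¹ := h
      rw [h3]
      simp
    rw [h2]; exact hd'
  · rw [hN]
    have := Subgroup.relIndex_map_map_of_injective D (Subgroup.normalizer (D : Set G)) (f := e.toMonoidHom)
      e.injective
    rw [this]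
    exact hD.idx

/-- **The groups `²F₄(q)`, `q > 2`, have no TI Hall subgroup `D`.** -/
theorem false_of_twF4 {G : Type u} [Group G] [Finite G] [IsSimpleGroup G] (hG : ¬ IsMulCommutative G) {D : Subgroup G}
    (hD : TIH D) (hDs : commutator D ≠ ⊤) (h : Lie.Iso2F4 G) : False := by
  obtain ⟨F, _, _, m, hm, hK, ⟨e⟩⟩ := h
  obtain ⟨φ, hφ⟩ := Cfsg.Agent.ChevalleyStructure.TwF4.TwistedFix.exists_rln hK
  have := Cfsg.Agent.ChevalleyStructure.TwF4.Twisted.charP_two hK
  have hfin : Finite ↥(Lie.twistedF4 F (2 ^ m)) := Finite.of_equiv G e.toEquiv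
  have hF : ∃ c : Fˣ, c ≠ 1 := by
    have h1 : 1 < Nat.card Fˣ := by
      rw [Nat.card_units, Nat.card_eq_fintype_card, hK]
      have : 2 ^ 3 ≤ 2 ^ (2 * m + 1) := Nat.pow_le_pow_right (by norm_num) (by omega)
      omega
    have h2 : Nontrivial Fˣ := Finite.one_lt_card_iff_nontrivial.1 h1
    exact exists_ne 1
  have hs : IsSimpleGroup ↥(Lie.twistedF4 F (2 ^ m)) := by
    have : Nontrivial ↥(Lie.twistedF4 F (2 ^ m)) := e.symm.toEquiv.nontrivial
    exact IsSimpleGroup.isSimpleGroup_of_surjective e.toMonoidHom e.surjective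
  refine false_of_full (Cfsg.Agent.KFacts.TwF4.Inst.full hK hφ) (D := D.map e.toMonoidHom) ?_ (TIH_map e hD) ?_ rfl hF
  · intro hc
    apply hG
    constructor
    constructor
    intro a b
    apply e.injective
    rw [map_mul, map_mul]
    exact hc.is_comm.comm _ _
  · intro hc
    apply hDs
    have e' := D.equivMapOfInjective e.toMonoidHom e.injective
    rw [eq_top_iff]
    intro x _
    have h1 : e' x ∈ commutator ↥(D.map e.toMonoidHom) := by rw [hc]; trivial
    have h2 : (commutator D).map e'.toMonoidHom = commutator ↥(D.map e.toMonoidHom) := by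
      rw [commutator_def, commutator_def, Subgroup.map_commutator]
      congr 1 <;> exact Subgroup.map_top_of_surjective _ e'.surjective
    rw [← h2] at h1
    obtain ⟨y, hy, hyx⟩ := h1
    have : y = x := e'.injective hyx
    rwa [← this]

end Cfsg.Agent.H355.TwF4Elim
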