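import Cfsg.Agent.H355.FiltClass
import Cfsg.Agent.H355.L3Lin
import Cfsg.Agent.H355.L3Uni
import Cfsg.Agent.H355.AltElim
import Cfsg.Agent.H355.SporElim
import Cfsg.Agent.H355.ReeElim
import Cfsg.Agent.H355.TwF4Elim
import Cfsg.Agent.S0252
import Cfsg.Agent.S0254
import Cfsg.Agent.S0255

/-!
# Simple groups with a TI subgroup of odd order and index two in its normalizer (helper355)
-/

set_option autoImplicit false
set_option linter.unusedSectionVars false

open Cfsg

namespace Cfsg.Agent.H355.OddCase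

open TIHall Rgd Cfsg.Agent.ChevalleyStructure.CoxeterGeomTypes Cfsg.Agent.ChevalleyStructure
  Cfsg.Agent.ChevalleyStructure.NPerm Cfsg.Agent.Nodes.RGDChev

universe u

/-- the conclusion of S2992 -/
def Concl (G : Type u) [Group G] : Prop :=
  (∃ (F : Type) (_ : Field F) (_ : Fintype F), Fintype.card F = 4 ∧
    Nonempty (G ≃* Matrix.ProjectiveSpecialLinearGroup (Fin 3) F)) ∨
  (∃ (F : Type) (_ : Field F) (_ : Fintype F), Nonempty (G ≃* Matrix.ProjectiveSpecialLinearGroup (Fin 2) F)) ∨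
  Cfsg.Lie.IsoSuzuki G

section

variable {G : Type u} [Group G] [Finite G] [IsSimpleGroup G] (hG : ¬ IsMulCommutative G) {D : Subgroup G}
  (hD : TIH D) (hDs : commutator D ≠ ⊤)

include hG hD hDs

theorem of_alternating (h : IsAlternating G) : Concl G := by
  obtain ⟨n, hn, ⟨e⟩⟩ := h
  have h6 := AltElim.le_six hD e
  have hcases : n = 5 ∨ n = 6 := by omega
  rcases hcases with rfl | rfl
  · have : Fact (Nat.Prime 2) := ⟨Nat.prime_two⟩
    have hF : Nat.card (GaloisField 2 2) = 4 := by rw [GaloisField.card 2 2 (by norm_num)]; norm_num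
    let := Fintype.ofFinite (GaloisField 2 2)
    rw [Nat.card_eq_fintype_card] at hF
    obtain ⟨f⟩ := S0252.result hF
    exact Or.inr (Or.inl ⟨GaloisField 2 2, inferInstance, inferInstance, ⟨e.trans f.symm⟩⟩)
  · have : Fact (Nat.Prime 3) := ⟨Nat.prime_three⟩
    have hF : Nat.card (GaloisField 3 2) = 9 := by rw [GaloisField.card 3 2 (by norm_num)]; norm_num
    let := Fintype.ofFinite (GaloisField 3 2)
    rw [Nat.card_eq_fintype_card] at hF
    obtain ⟨f⟩ := S0254.result hF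
    exact Or.inr (Or.inl ⟨GaloisField 3 2, inferInstance, inferInstance, ⟨e.trans f.symm⟩⟩)

theorem of_psl (h : IsPSL G) : Concl G := by
  obtain ⟨F, _, _, n, hn, -, ⟨e⟩⟩ := h
  obtain ⟨p, hp⟩ := CharP.exists F
  have : Fact p.Prime := ⟨CharP.char_is_prime F p⟩
  rcases eq_or_ne n 2 with rfl | hn2
  · exact Or.inr (Or.inl ⟨F, inferInstance, inferInstance, ⟨e⟩⟩)
  rcases eq_or_ne n 3 with rfl | hn3
  · rcases L3.card_of_psl hG e hD hDs with h2 | h4
    · have : Fact (Nat.Prime 7) := ⟨by norm_num⟩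
      obtain ⟨f⟩ := S0255.result (F := ZMod 7) (K := F) (ZMod.card 7) h2
      exact Or.inr (Or.inl ⟨ZMod 7, inferInstance, inferInstance, ⟨e.trans f.symm⟩⟩)
    · exact Or.inl ⟨F, inferInstance, inferInstance, h4, ⟨e⟩⟩
  · exfalso
    obtain ⟨k, rfl⟩ : ∃ k, n = k + 1 := ⟨n - 1, by omega⟩
    exact ((filtOf_PSL (F := F) k (p := p)).of_equiv e.symm).false hG (Or.inl (by omega)) hD hDs

theorem of_psp (h : IsPSp G) : Concl G := by
  obtain ⟨F, _, _, m, hm, -, ⟨e⟩⟩ := h
  obtain ⟨p, hp⟩ := CharP.exists F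
  have : Fact p.Prime := ⟨CharP.char_is_prime F p⟩
  exfalso
  refine ((filtOf_PSp (F := F) (m := m) (by omega) (p := p)).of_equiv e.symm).false hG ?_ hD hDs
  rcases eq_or_ne m 2 with rfl | h2
  · refine Or.inr ⟨rfl, fun i j => ?_⟩
    fin_cases i <;> fin_cases j <;> simp [CoxeterMatrix.B]
  · exact Or.inl (by omega)

theorem of_psu (h : IsPSU G) : Concl G := by
  obtain ⟨F, _, _, N, q, hF, hN, hNq, ⟨e⟩⟩ := h
  obtain ⟨p, hp⟩ := CharP.exists F
  have : Fact p.Prime := ⟨CharP.char_is_prime F p⟩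
  exfalso
  rcases eq_or_ne N 3 with rfl | hN3
  · exact L3.false_of_psu hG hF (fun h => hNq ⟨rfl, h⟩) e hD hDs
  obtain ⟨m, hm, hfilt⟩ := filtOf_PSU (F := F) hF hN (p := p)
  refine (hfilt.of_equiv e.symm).false hG ?_ hD hDs
  rcases eq_or_ne m 2 with rfl | h2
  · refine Or.inr ⟨rfl, fun i j => ?_⟩
    fin_cases i <;> fin_cases j <;> simp [CoxeterMatrix.B]
  · exact Or.inl (by omega)

theorem of_po_odd (h : IsPOmegaOdd G) : Concl G := by
  obtain ⟨F, _, _, m, hm, hodd, ⟨e⟩⟩ := h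
  obtain ⟨p, hp⟩ := CharP.exists F
  have : Fact p.Prime := ⟨CharP.char_is_prime F p⟩
  exfalso
  have h2 : (2 : F) ≠ 0 := by
    intro h2
    have h3 : ringChar F = 2 := by
      have h4 : ringChar F ∣ 2 := (ringChar.spec F 2).1 (by exact_mod_cast h2)
      rcases (Nat.dvd_prime Nat.prime_two).1 h4 with h5 | h5
      · exact absurd h5 (CharP.ringChar_ne_one)
      · exact h5
    have h4 := FiniteField.even_card_of_char_two h3
    rw [Nat.odd_iff] at hodd
    omega
  exact ((filtOf_PO_odd (F := F) h2 (m := m) (by omega) (p := p)).of_equiv e.symm).false hG (Or.inl (by omega)) hD hDs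

theorem of_po_plus (h : IsPOmegaPlus G) : Concl G := by
  obtain ⟨F, _, _, m, hm, ⟨e⟩⟩ := h
  obtain ⟨p, hp⟩ := CharP.exists F
  have : Fact p.Prime := ⟨CharP.char_is_prime F p⟩
  exfalso
  obtain ⟨k, rfl⟩ : ∃ k, m = k + 3 := ⟨m - 3, by omega⟩
  exact ((filtOf_PO_plus (F := F) k (p := p)).of_equiv e.symm).false hG (Or.inl (by omega)) hD hDs

theorem of_po_minus (h : IsPOmegaMinus G) : Concl G := by
  obtain ⟨F, _, _, m, a, b, hm, hab, ⟨e⟩⟩ := h
  obtain ⟨p, hp⟩ := CharP.exists F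
  have : Fact p.Prime := ⟨CharP.char_is_prime F p⟩
  exfalso
  exact ((filtOf_PO_minus (F := F) (m := m - 1) a b hab (by omega) (p := p)).of_equiv e.symm).false hG
    (Or.inl (by omega)) hD hDs

theorem of_exceptional (h : IsExceptionalLieType G) : Concl G := by
  rcases h with h | h | h | h | h | h | h | h | h | h | h
  · obtain ⟨F, _, _, -, ⟨e⟩⟩ := h
    obtain ⟨p, hp⟩ := CharP.exists F
    have : Fact p.Prime := ⟨CharP.char_is_prime F p⟩
    exact absurd (((filtOf_group (D := Cfsg.Lie.chevG2) (l := 2) (M := CoxeterMatrix.G₂) (by simp [IsType, typeList]) F p).of_equiv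
      e.symm).false hG (Or.inr ⟨rfl, fun i j => by
        fin_cases i <;> fin_cases j <;> simp [CoxeterMatrix.G₂]⟩) hD hDs) id
  · obtain ⟨F, _, _, ⟨e⟩⟩ := h
    obtain ⟨p, hp⟩ := CharP.exists F
    have : Fact p.Prime := ⟨CharP.char_is_prime F p⟩
    exact absurd (((filtOf_group (D := Cfsg.Lie.chevF4) (l := 4) (M := CoxeterMatrix.F₄) (by simp [IsType, typeList]) F p).of_equiv
      e.symm).false hG (Or.inl (by norm_num)) hD hDs) id
  · obtain ⟨F, _, _, ⟨e⟩⟩ := h
    obtain ⟨p, hp⟩ := CharP.exists F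
    have : Fact p.Prime := ⟨CharP.char_is_prime F p⟩
    exact absurd (((filtOf_group (D := Cfsg.Lie.chevE6) (l := 6) (M := CoxeterMatrix.E₆) (by simp [IsType, typeList]) F p).of_equiv
      e.symm).false hG (Or.inl (by norm_num)) hD hDs) id
  · obtain ⟨F, _, _, ⟨e⟩⟩ := h
    obtain ⟨p, hp⟩ := CharP.exists F
    have : Fact p.Prime := ⟨CharP.char_is_prime F p⟩
    exact absurd (((filtOf_group (D := Cfsg.Lie.chevE7) (l := 7) (M := CoxeterMatrix.E₇) (by simp [IsType, typeList]) F p).of_equiv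
      e.symm).false hG (Or.inl (by norm_num)) hD hDs) id
  · obtain ⟨F, _, _, ⟨e⟩⟩ := h
    obtain ⟨p, hp⟩ := CharP.exists F
    have : Fact p.Prime := ⟨CharP.char_is_prime F p⟩
    exact absurd (((filtOf_group (D := Cfsg.Lie.chevE8) (l := 8) (M := CoxeterMatrix.E₈) (by simp [IsType, typeList]) F p).of_equiv
      e.symm).false hG (Or.inl (by norm_num)) hD hDs) id
  · obtain ⟨F, _, _, q, hq, hF, ⟨e⟩⟩ := h
    obtain ⟨p, hp⟩ := CharP.exists F
    have : Fact p.Prime := ⟨CharP.char_is_prime F p⟩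
    exact absurd (((filtOf_twE6 hq hF p).of_equiv e.symm).false hG (Or.inl (by norm_num)) hD hDs) id
  · obtain ⟨F, _, _, q, hq, hF, ⟨e⟩⟩ := h
    obtain ⟨p, hp⟩ := CharP.exists F
    have : Fact p.Prime := ⟨CharP.char_is_prime F p⟩
    exact absurd (((filtOf_twD4 hq hF p).of_equiv e.symm).false hG (Or.inr ⟨rfl, fun i j => by
        fin_cases i <;> fin_cases j <;> simp [CoxeterMatrix.G₂]⟩) hD hDs) id
  · exact Or.inr (Or.inr h)
  · exact absurd (ReeElim.false_of_ree hG hD hDs h) id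
  · exact absurd (TwF4Elim.false_of_twF4 hG hD hDs h) id
  · exact absurd (SporElim.false_of_sporadic hG hD hDs (Or.inr h)) id

/-- **The classification of the simple groups with a TI subgroup `D` of odd order, `|N(D) : D| = 2`, `D` not perfect.** -/
theorem classify (hK : IsKnownSimple' G) : Concl G := by
  rcases hK with h | h | h | h | h | h | h | h | h | h
  · exfalso
    apply hG
    have : Fact (Nat.card G).Prime := ⟨h⟩
    have hc : IsCyclic G := isCyclic_of_prime_card rfl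
    exact ⟨⟨fun a b => (IsCyclic.commGroup (α := G)).mul_comm a b⟩⟩
  · exact of_alternating hG hD hDs h
  · exact of_psl hG hD hDs h
  · exact of_psp hG hD hDs h
  · exact of_psu hG hD hDs h
  · exact of_po_odd hG hD hDs h
  · exact of_po_plus hG hD hDs h
  · exact of_po_minus hG hD hDs h
  · exact of_exceptional hG hD hDs h
  · exact absurd (SporElim.false_of_sporadic hG hD hDs (Or.inl h)) id

end

end Cfsg.Agent.H355.OddCase
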