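import Cfsg.Agent.H355.LspOdd
import Cfsg.Agent.H355.OddCase
import Cfsg.Agent.OddOrderLocal.Metacyclic
import Cfsg.Agent.H953.LspB
import Cfsg.Agent.Mrg.Omega.FrameI
import Cfsg.Agent.S0144

/-!
# Conclusion (4) of the theorem on groups of fixity two (helper355)

* `four_of` : conclusion (4) from the structure of `G/X`;
* `odd_nonsolvable` : groups of fixity two with stabilizers of odd order, not solvable.
-/

set_option autoImplicit false
set_option linter.unusedSectionVars false

universe u v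

open Cfsg

namespace Cfsg.Agent.H355.Lsp

open MulAction

/-- `PSL₂(2)` and `PSL₂(3)` are not simple -/
theorem four_le_card {M : Type*} [Group M] [Finite M] (hs : IsSimpleGroup M) (hna : ¬ IsMulCommutative M) {F : Type} [Field F]
    [Fintype F] (e : M ≃* Matrix.ProjectiveSpecialLinearGroup (Fin 2) F) : 4 ≤ Fintype.card F := by
  by_contra hlt
  have h1 : 1 < Fintype.card F := Fintype.one_lt_card
  have h2 : Nat.card (Matrix.ProjectiveSpecialLinearGroup (Fin 2) F) ∣ 48 := by
    refine (Cfsg.Agent.Omega.FrameExtra.card_psl_two_dvd F).trans ?_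
    have h3 : Fintype.card F = 2 ∨ Fintype.card F = 3 := by omega
    rcases h3 with h3 | h3 <;> rw [h3] <;> norm_num
  rw [← Nat.card_congr e.toEquiv] at h2
  have h4 : ∃ a b : ℕ, Nat.card M = 2 ^ a * 3 ^ b := by
    have h5 : Nat.card M ∈ Nat.divisors 48 := Nat.mem_divisors.2 ⟨h2, by norm_num⟩
    have h6 : ∀ n ∈ Nat.divisors 48, ∃ a ∈ Finset.range 5, ∃ b ∈ Finset.range 5, n = 2 ^ a * 3 ^ b := by decide
    obtain ⟨a, -, b, -, hab⟩ := h6 _ h5
    exact ⟨a, b, hab⟩
  obtain ⟨a, b, hab⟩ := h4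
  have h5 := Cfsg.Agent.S0144.result 2 3 a b Nat.prime_two Nat.prime_three hab
  apply hna
  have h6 : IsSimpleGroup M := hs
  have h7 : commutator M = ⊥ := by
    rcases (inferInstance : (commutator M).Normal).eq_bot_or_eq_top with h | h
    · exact h
    · exfalso
      have : Nontrivial M := h6.toNontrivial
      exact (Group.IsSolvable.commutator_lt_top_of_nontrivial M).ne h
  refine ⟨⟨fun a b => ?_⟩⟩
  have h8 : a * b * a⁻¹ * b⁻¹ ∈ commutator M := Subgroup.commutator_mem_commutator (Subgroup.mem_top a) (Subgroup.mem_top b)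
  rw [h7, Subgroup.mem_bot, mul_inv_eq_one, mul_inv_eq_iff_eq_mul] at h8
  exact h8

section

variable {G : Type u} [Group G] [Finite G]

/-- assembling conclusion (4) -/
theorem four_of {X : Subgroup G} [hXn : X.Normal] (hX : Group.IsNilpotent X) {M : Subgroup (G ⧸ X)} (hM : M.Normal)
    (hs : IsSimpleGroup M) (hna : ¬ IsMulCommutative M) (hodd : Odd M.index)
    (hc : Subgroup.centralizer (M : Set (G ⧸ X)) = ⊥) (hK : OddCase.Concl M) : Four G := by
  have hmet : Cfsg.IsMetacyclic ((G ⧸ X) ⧸ M) := by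
    apply Cfsg.Agent.H953.LspB.metacyclic_of_odd_index M _ hc hodd
    rcases hK with h | ⟨F, i, j, ⟨e⟩⟩ | h
    · exact Or.inl h
    · exact Or.inr (Or.inl ⟨F, i, j, four_le_card hs hna e, ⟨e⟩⟩)
    · exact Or.inr (Or.inr h)
  let π := QuotientGroup.mk' X
  have hsurj : Function.Surjective π := QuotientGroup.mk'_surjective X
  let ψ : ↥(M.comap π) →* M := π.subgroupComap M
  have hψ : Function.Surjective ψ := π.subgroupComap_surjective_of_surjective M hsurj
  have hker : ψ.ker = X.subgroupOf (M.comap π) := by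
    ext x
    rw [MonoidHom.mem_ker, Subgroup.mem_subgroupOf]
    constructor
    · intro h
      have h1 : π x = 1 := congrArg Subtype.val h
      rwa [QuotientGroup.mk'_apply, QuotientGroup.eq_one_iff] at h1
    · intro h
      apply Subtype.ext
      show π x = 1
      rwa [QuotientGroup.mk'_apply, QuotientGroup.eq_one_iff]
  have hle : X ≤ M.comap π := fun x hx => by
    rw [Subgroup.mem_comap]
    have h1 : π x = 1 := by rwa [QuotientGroup.mk'_apply, QuotientGroup.eq_one_iff]
    rw [h1]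
    exact M.one_mem
  let e : (↥(M.comap π) ⧸ X.subgroupOf (M.comap π)) ≃* M :=
    (QuotientGroup.quotientMulEquivOfEq hker.symm).trans (QuotientGroup.quotientKerEquivOfSurjective ψ hψ)
  have hMb : M ≠ ⊥ := by
    rintro rfl
    have := hs.toNontrivial
    exact not_subsingleton _ (inferInstance : Subsingleton (⊥ : Subgroup (G ⧸ X)))
  refine ⟨X, M.comap π, hXn, inferInstance, ?_, hX, ⟨inferInstance, ?_, ?_⟩, ?_, ?_⟩
  · refine lt_of_le_of_ne hle fun h => hMb ?_
    rw [Subgroup.eq_bot_iff_forall]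
    intro y hy
    obtain ⟨g, rfl⟩ := hsurj y
    have h1 : g ∈ M.comap π := hy
    rw [← h] at h1
    rwa [QuotientGroup.mk'_apply, QuotientGroup.eq_one_iff]
  · have := e.toEquiv.nontrivial
    exact IsSimpleGroup.isSimpleGroup_of_surjective e.symm.toMonoidHom e.symm.surjective
  · rcases hK with ⟨F, i, j, h4, ⟨f⟩⟩ | ⟨F, i, j, ⟨f⟩⟩ | h
    · exact Or.inr (Or.inr ⟨F, i, j, h4, ⟨e.trans f⟩⟩)
    · exact Or.inl ⟨F, i, j, ⟨e.trans f⟩⟩
    · right
      left
      obtain ⟨K, iK, jK, k, hk, hk', ⟨f⟩⟩ := h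
      exact ⟨K, iK, jK, k, hk, hk', ⟨e.trans f⟩⟩
  · have h2 : (M.comap π).map π = M := Subgroup.map_comap_eq_self_of_surjective hsurj M
    have e2 : (G ⧸ X) ⧸ M ≃* G ⧸ M.comap π :=
      (QuotientGroup.quotientMulEquivOfEq h2.symm).trans (QuotientGroup.quotientQuotientEquivQuotient X (M.comap π) hle)
    exact Cfsg.Agent.OddOrderLocal.Metacyclic.isMetacyclic_of_surjective e2.toMonoidHom e2.surjective hmet
  · have h1 : (M.comap π).index = M.index := Subgroup.index_comap_of_surjective M hsurj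
    rw [Subgroup.index_eq_card] at h1
    rw [h1]
    exact hodd

end

/-- elements with a fixed point centralize no element of a normal 2-subgroup, unless the group is solvable -/
def TwoStmt : Prop :=
  ∀ (G : Type u) [Group G] [Finite G] (Ω : Type v) [Finite Ω] [MulAction G Ω] [FaithfulSMul G Ω], Fix2 G Ω →
    (∀ α : Ω, Odd (Nat.card (stabilizer G α))) → ∀ T : Subgroup G, T.Normal → IsPGroup 2 T →
    ∀ (g z : G) (α : Ω), g ≠ 1 → g • α = α → z ∈ T → z ≠ 1 → g * z = z * g → Group.IsSolvable G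

/-- the case of a trivial solvable radical -/
def CoreStmt : Prop :=
  ∀ (Y : Type u) [Group Y] [Finite Y] (Ω : Type v) [Finite Ω] [MulAction Y Ω] [FaithfulSMul Y Ω], Fix2 Y Ω →
    (∀ α : Ω, Odd (Nat.card (stabilizer Y α))) → (∀ N : Subgroup Y, N.Normal → Group.IsSolvable N → N = ⊥) →
    ∃ (M : Subgroup Y) (_ : M.Normal), IsSimpleGroup M ∧ ¬ IsMulCommutative M ∧ Odd M.index ∧
      Subgroup.centralizer (M : Set Y) = ⊥ ∧ OddCase.Concl M

/-- **stabilizers of odd order, not solvable** -/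
theorem odd_nonsolvable (hT : TwoStmt.{u, v}) (hC : CoreStmt.{u, v}) {G : Type u} [Group G] [Finite G] {Ω : Type v}
    [Finite Ω] [MulAction G Ω] (h : Fix2 G Ω) (hodd : ∀ α : Ω, Odd (Nat.card (stabilizer G α)))
    (hns : ¬ Group.IsSolvable G) : Small G Ω ∨ Four G := by
  classical
  by_cases hsm : Small G Ω
  · exact Or.inl hsm
  right
  obtain ⟨X, hX, hmax⟩ : ∃ X : Subgroup G, Good X Ω ∧ ∀ X' : Subgroup G, Good X' Ω → Nat.card X' ≤ Nat.card X := by
    obtain ⟨X, hX, hmax⟩ := Set.exists_max_image {X : Subgroup G | Good X Ω} (fun X => Nat.card X) (Set.toFinite _)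
      ⟨⊥, good_bot⟩
    exact ⟨X, hX, fun X' h' => hmax X' h'⟩
  have hXn := hX.normal
  have hnil := hX.nilpotent h
  let _ := quotAction (Ω := Ω) X
  have q : QuotAct (Ω := Ω) (Ω' := orbitRel.Quotient X Ω) X (QuotientGroup.mk' X)
    (Quotient.mk'' : Ω → orbitRel.Quotient X Ω) := exists_quotAct X
  obtain ⟨h1, h2⟩ := (q.small_or hX h).resolve_left hsm
  have hfin : Finite (orbitRel.Quotient X Ω) := Quotient.finite _
  have hf := h1.faithful h2
  have hodd' : ∀ ω' : orbitRel.Quotient X Ω, Odd (Nat.card (stabilizer (G ⧸ X) ω')) := by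
    intro ω'
    obtain ⟨ω, rfl⟩ := q.fsurj ω'
    rw [q.card_stabilizer hX]
    exact hodd ω
  have hnsY : ¬ Group.IsSolvable (G ⧸ X) := by
    intro hs
    apply hns
    have h4 : Group.IsSolvable X := inferInstance
    exact Group.isSolvable_of_ker_le_range X.subtype (QuotientGroup.mk' X)
      (by rw [QuotientGroup.ker_mk', Subgroup.range_subtype])
  have hrad : ∀ N : Subgroup (G ⧸ X), N.Normal → Group.IsSolvable N → N = ⊥ := by
    intro N hN hNs
    by_contra hNb
    obtain ⟨p, R, hp, hR, hRN, hRb, hRp, hab⟩ := exists_abelian_normal N hNb hNs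
    have hRg : Good R (orbitRel.Quotient X Ω) := by
      have : Fact p.Prime := ⟨hp⟩
      obtain ⟨k, hk⟩ := hRp.exists_card_eq
      rcases hp.eq_two_or_odd' with rfl | hpo
      · have hfree : ∀ x ∈ R, ∀ ω : orbitRel.Quotient X Ω, x • ω = ω → x = 1 := by
          intro x hx ω hω
          have h4 : Odd (orderOf x) := odd_orderOf (hodd' ω) (X := stabilizer (G ⧸ X) ω) hω
          obtain ⟨j, hj⟩ := (IsPGroup.iff_orderOf.1 hRp) ⟨x, hx⟩
          rw [Subgroup.orderOf_mk] at hj
          rw [hj] at h4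
          have hj0 : j = 0 := by
            by_contra hj0
            exact (Nat.not_odd_iff_even.2 ((Nat.even_pow.2 ⟨even_two, hj0⟩))) h4
          rw [hj0, pow_zero, orderOf_eq_one_iff] at hj
          exact hj
        refine ⟨hR, hfree, fun g hg1 hg x hx hxg => ?_⟩
        obtain ⟨ω, hω⟩ := hg
        by_contra hx1
        exact hnsY (hT (G ⧸ X) (orbitRel.Quotient X Ω) h1 hodd' R hR hRp g x ω hg1 hω hx hx1 hxg.symm)
      · exact good_of_abelian h1 h2 hR (by rw [hk]; exact hpo.pow) hab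
    have h4 := hmax _ (q.good_comap hX hRg)
    have h5 : X ≤ R.comap (QuotientGroup.mk' X) := fun x hx => by
      rw [Subgroup.mem_comap, q.map_mem hx]
      exact R.one_mem
    have h6 : X = R.comap (QuotientGroup.mk' X) := Subgroup.eq_of_le_of_card_ge h5 h4
    apply hRb
    rw [Subgroup.eq_bot_iff_forall]
    intro y hy
    obtain ⟨g, rfl⟩ := q.surj y
    have h7 : g ∈ R.comap (QuotientGroup.mk' X) := hy
    rw [← h6] at h7
    exact q.map_mem h7
  obtain ⟨M, hM, hs, hna, ho, hc, hK⟩ := hC (G ⧸ X) (orbitRel.Quotient X Ω) h1 hodd' hrad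
  exact four_of hnil hM hs hna ho hc hK

end Cfsg.Agent.H355.Lsp
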