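import Cfsg.Agent.H355.LspFour
import Cfsg.Agent.H355.LspEven
import Cfsg.Agent.H42.Lsp.Core
import Cfsg.Agent.H796.SlFinal

/-!
# The theorem on groups of fixity two: assembly (helper355)
-/

set_option autoImplicit false
set_option linter.unusedSectionVars false

universe u v

open Cfsg

namespace Cfsg.Agent.H355.Lsp

open MulAction

/-- the solvable case (LSP-H) -/
def SolvStmt : Prop :=
  ∀ (G : Type u) [Group G] [Finite G] (Ω : Type v) [Finite Ω] [MulAction G Ω] [FaithfulSMul G Ω], Fix2 G Ω →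
    (∀ α : Ω, Odd (Nat.card (stabilizer G α))) → Group.IsSolvable G → One G ∨ Two G

/-- coprime automorphisms of simple groups (LSP-A) -/
def FixStmt : Prop :=
  ∀ (M : Type u) [Group M] [Finite M], IsSimpleGroup M → ¬ IsMulCommutative M → ∀ (φ : MulAut M) (r : ℕ), r.Prime →
    orderOf φ = r → ¬ r ∣ Nat.card M → 2 < Nat.card {x : M // φ x = x}

/-- the classification -/
def KnownStmt : Prop := ∀ (M : Type u) [Group M] [Finite M], IsSimpleGroup M → Cfsg.IsKnownSimple' M

theorem slStmt : SLStmt.{u, v} := fun _ _ _ _ _ _ _ h heven hO S hS _ hz hzc K L hK hK2 hKS hKi hL hLK hLe =>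
  Cfsg.Agent.H796.SlCase.sl2_case h heven hO S hS hz hzc K L hK hK2 hKS hKi hL hLK hLe

theorem coreStmt (hA : FixStmt.{u}) (hK : KnownStmt.{u}) : CoreStmt.{u, v} := fun _ _ _ _ _ _ _ h hodd hrad =>
  Cfsg.Agent.H42.Lsp.core_case h hodd hrad (fun M hs _ => hK M hs) (fun M hs hna φ r hr hφ hc => hA M hs hna φ r hr hφ hc)

/-- **The theorem on groups of fixity two.** -/
theorem main (hA : FixStmt.{u}) (hK : KnownStmt.{u}) (hE : DihStmt.{u}) (hT : TwoStmt.{u, v}) (hS : SolvStmt.{u, v})
    {G : Type u} [Group G] [Finite G] {Ω : Type v} [Fintype Ω] [MulAction G Ω] [FaithfulSMul G Ω] (h : Fix2 G Ω) :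
    One G ∨ Two G ∨ Three G Ω ∨ ((∀ α : Ω, Odd (Nat.card (stabilizer G α))) ∧ Four G) ∨
      ((∀ α : Ω, Even (Nat.card (stabilizer G α))) ∧ Five G) := by
  have h3 := h.three_le
  have htr := h.tr
  obtain ⟨α⟩ : Nonempty Ω := by
    obtain ⟨g, α, -⟩ := h.exists_pair
    exact ⟨α⟩
  have hcard : ∀ β : Ω, Nat.card (stabilizer G β) = Nat.card (stabilizer G α) := by
    intro β
    have h1 := Subgroup.card_mul_index (stabilizer G β)
    have h2 := Subgroup.card_mul_index (stabilizer G α)
    rw [h.index_eq] at h1 h2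
    exact Nat.eq_of_mul_eq_mul_right (by omega : 0 < Nat.card Ω) (h1.trans h2.symm)
  rcases Nat.even_or_odd (Nat.card (stabilizer G α)) with hev | hodd
  · have hev' : ∀ β : Ω, Even (Nat.card (stabilizer G β)) := fun β => by rw [hcard]; exact hev
    rcases even_case hE slStmt h hev' with h1 | h1
    · exact Or.inl h1
    · exact Or.inr (Or.inr (Or.inr (Or.inr ⟨hev', h1⟩)))
  · have hodd' : ∀ β : Ω, Odd (Nat.card (stabilizer G β)) := fun β => by rw [hcard]; exact hodd
    by_cases hs : Group.IsSolvable G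
    · rcases hS G Ω h hodd' hs with h1 | h1
      · exact Or.inl h1
      · exact Or.inr (Or.inl h1)
    · rcases odd_nonsolvable hT (coreStmt hA hK) h hodd' hs with h1 | h1
      · exact Or.inl (h1.one h h3)
      · exact Or.inr (Or.inr (Or.inr (Or.inl ⟨hodd', h1⟩)))

end Cfsg.Agent.H355.Lsp
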