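import Cfsg.Agent.H355.LspQuot
import Cfsg.Agent.Lib.SolvableMinNormal
import Cfsg.Agent.S0205
import Cfsg.Agent.S0033

/-!
# Normal subgroups of odd order of groups of fixity two (helper355)

* `good_of_abelian` : abelian normal subgroups of odd order are good;
* `good_or_small` : normal subgroups of odd order are good or some good subgroup has two orbits;
* `Good.nilpotent` : good subgroups are nilpotent (Thompson).
-/

set_option autoImplicit false
set_option linter.unusedSectionVars false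
set_option linter.unusedVariables false

universe u v

namespace Cfsg.Agent.H355.Lsp

open MulAction

theorem exists_abelian_normal {G : Type*} [Group G] [Finite G] (X : Subgroup G) [X.Normal] (hX : X ≠ ⊥)
    (hs : Group.IsSolvable X) :
    ∃ (p : ℕ) (R : Subgroup G), p.Prime ∧ R.Normal ∧ R ≤ X ∧ R ≠ ⊥ ∧ IsPGroup p R ∧ ∀ a ∈ R, ∀ b ∈ R, a * b = b * a := by
  have hnt : Nontrivial X := (Subgroup.nontrivial_iff_ne_bot X).2 hX
  obtain ⟨p, hp, A, hA, hAc, hAp, hAb⟩ := Cfsg.Agent.Lib.SolvableMinNormal.exists_characteristic_pgroup (G := X)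
  refine ⟨p, A.map X.subtype, hp, inferInstance, ?_, ?_, hAp.map _, ?_⟩
  · rintro _ ⟨a, -, rfl⟩
    exact a.2
  · intro h
    rw [Subgroup.map_eq_bot_iff_of_injective _ X.subtype_injective] at h
    exact hAb h
  · rintro _ ⟨a, ha, rfl⟩ _ ⟨b, hb, rfl⟩
    have h1 : (⟨a, ha⟩ : A) * ⟨b, hb⟩ = ⟨b, hb⟩ * ⟨a, ha⟩ := hAc.is_comm.comm _ _
    have h2 : a * b = b * a := congrArg Subtype.val h1
    rw [← map_mul, h2, map_mul]

section

variable {G : Type*} [Group G] [Finite G] {Ω : Type*} [Finite Ω] [MulAction G Ω]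

theorem good_bot : Good (⊥ : Subgroup G) Ω :=
  ⟨inferInstance, fun x hx _ _ => Subgroup.mem_bot.1 hx, fun _ _ _ x hx _ => Subgroup.mem_bot.1 hx⟩

theorem odd_orderOf {X : Subgroup G} (hodd : Odd (Nat.card X)) {x : G} (hx : x ∈ X) : Odd (orderOf x) := by
  have h1 : orderOf x ∣ Nat.card X := by
    have := orderOf_dvd_natCard (⟨x, hx⟩ : X)
    rwa [Subgroup.orderOf_mk] at this
  exact Odd.of_dvd_nat hodd h1

theorem Fix2.eq_bot_of_le_stabilizer (h : Fix2 G Ω) (h3 : 3 ≤ Nat.card Ω) {R : Subgroup G} (hR : R.Normal) {ω : Ω}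
    (hle : R ≤ stabilizer G ω) : R = ⊥ := by
  have := h.faithful h3
  have := h.tr
  rw [Subgroup.eq_bot_iff_forall]
  intro r hr
  apply FaithfulSMul.eq_of_smul_eq_smul (α := Ω)
  intro ω'
  obtain ⟨x, rfl⟩ := exists_smul_eq G ω ω'
  have h1 := hle (hR.conj_mem r hr x⁻¹)
  rw [inv_inv] at h1
  have h2 : (x⁻¹ * r * x) • ω = ω := h1
  rw [mul_smul, mul_smul, inv_smul_eq_iff] at h2
  rw [one_smul]
  exact h2

/-- abelian normal subgroups of odd order are good -/
theorem good_of_abelian (h : Fix2 G Ω) (h3 : 3 ≤ Nat.card Ω) {R : Subgroup G} (hR : R.Normal) (hodd : Odd (Nat.card R))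
    (hab : ∀ a ∈ R, ∀ b ∈ R, a * b = b * a) : Good R Ω := by
  have hfree : ∀ x ∈ R, ∀ ω : Ω, x • ω = ω → x = 1 := by
    intro r hr ω hrω
    by_contra hr1
    have hle : R ≤ stabilizer G ω := fun x hx =>
      h.smul_eq_of_commute hr1 hrω (odd_orderOf hodd hx) (hab x hx r hr)
    have := h.eq_bot_of_le_stabilizer h3 hR hle
    rw [this, Subgroup.mem_bot] at hr
    exact hr1 hr
  refine ⟨hR, hfree, fun g hg1 hg x hx hxg => ?_⟩
  obtain ⟨ω, hω⟩ := hg
  exact hfree x hx ω (h.smul_eq_of_commute hg1 hω (odd_orderOf hodd hx) hxg)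

/-- **Thompson**: good subgroups are nilpotent -/
theorem Good.nilpotent (h : Fix2 G Ω) {X : Subgroup G} (hX : Good X Ω) : Group.IsNilpotent X := by
  classical
  obtain ⟨g, α, β, hg1, hne, hα, hβ, hfe⟩ := h.exists_pair
  have ho1 : orderOf g ≠ 1 := fun h => hg1 (orderOf_eq_one_iff.1 h)
  obtain ⟨p, hp, hpo⟩ := Nat.exists_prime_and_dvd ho1
  obtain ⟨m, hm⟩ := hpo
  have hm0 : m ≠ 0 := by
    rintro rfl
    have := orderOf_pos g
    omega
  have hg' : orderOf (g ^ m) = p := by
    rw [orderOf_pow_of_dvd hm0 ⟨p, by rw [hm, mul_comm]⟩, hm]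
    exact Nat.mul_div_cancel _ (Nat.pos_of_ne_zero hm0)
  have hg'1 : g ^ m ≠ 1 := by
    intro h
    rw [h, orderOf_one] at hg'
    exact hp.one_lt.ne hg'
  have hα' : g ^ m • α = α := (stabilizer G α).pow_mem hα m
  have := hX.normal
  let φ : MulAut X := MulAut.conjNormal (g ^ m)
  have hfpf : MonoidHom.FixedPointFree (φ : X →* X) := by
    intro x hx
    have h1 : g ^ m * (x : G) * (g ^ m)⁻¹ = x := by
      have := congrArg Subtype.val hx
      exact this
    apply Subtype.ext
    apply hX.cent (g ^ m) hg'1 ⟨α, hα'⟩ x x.2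
    rw [mul_inv_eq_iff_eq_mul] at h1
    exact h1.symm
  by_cases hXb : X = ⊥
  · subst hXb
    exact Group.isNilpotent_of_subsingleton
  · have hφ1 : φ ≠ 1 := by
      intro h1
      apply hXb
      rw [Subgroup.eq_bot_iff_forall]
      intro x hx
      have h2 : (φ : X →* X) ⟨x, hx⟩ = ⟨x, hx⟩ := by
        show φ ⟨x, hx⟩ = ⟨x, hx⟩
        rw [h1]
        rfl
      exact congrArg Subtype.val (hfpf _ h2)
    have : Fact p.Prime := ⟨hp⟩
    have hord : orderOf φ = p := by
      apply orderOf_eq_prime _ hφ1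
      show (MulAut.conjNormal (g ^ m)) ^ p = 1
      rw [← map_pow, ← hg', pow_orderOf_eq_one, map_one]
    exact Cfsg.Agent.S0033.result φ hfpf p hp hord

end

/-- **normal subgroups of odd order** -/
theorem good_or_small_aux (n : ℕ) : ∀ {G : Type u} [Group G] [Finite G] {Ω : Type v} [Finite Ω] [MulAction G Ω]
    (_ : Fix2 G Ω) (_ : 3 ≤ Nat.card Ω) (X : Subgroup G) (_ : X.Normal) (_ : Odd (Nat.card X)) (_ : Nat.card G ≤ n),
    Good X Ω ∨ Small G Ω := by
  induction n with
  | zero =>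
    intro G _ _ Ω _ _ h h3 X hX hodd hn
    have := Nat.card_pos (α := G)
    omega
  | succ n ih =>
    intro G _ _ Ω _ _ h h3 X hX hodd hn
    by_cases hXb : X = ⊥
    · subst hXb
      exact Or.inl good_bot
    obtain ⟨p, R, hp, hR, hRX, hRb, hRp, hab⟩ := exists_abelian_normal X hXb (Cfsg.Agent.S0205.result hodd)
    have hRo : Odd (Nat.card R) := Odd.of_dvd_nat hodd (Subgroup.card_dvd_of_le hRX)
    have hRg := good_of_abelian h h3 hR hRo hab
    let _ := quotAction (Ω := Ω) R
    have q : QuotAct (Ω := Ω) (Ω' := orbitRel.Quotient R Ω) R (QuotientGroup.mk' R)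
      (Quotient.mk'' : Ω → orbitRel.Quotient R Ω) := exists_quotAct R
    rcases q.small_or hRg h with h1 | ⟨h1, h2⟩
    · exact Or.inr h1
    have hcard : Nat.card (G ⧸ R) ≤ n := by
      have h4 : Nat.card (G ⧸ R) < Nat.card G := by
        have h5 := Subgroup.card_eq_card_quotient_mul_card_subgroup R
        have h6 : 1 < Nat.card R := by
          have : Nontrivial R := (Subgroup.nontrivial_iff_ne_bot R).2 hRb
          exact Finite.one_lt_card
        rw [h5]
        have h7 : 0 < Nat.card (G ⧸ R) := Nat.card_pos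
        nlinarith
      omega
    have hfin : Finite (orbitRel.Quotient R Ω) := Quotient.finite _
    have hodd' : Odd (Nat.card (X.map (QuotientGroup.mk' R))) :=
      Odd.of_dvd_nat hodd (Subgroup.card_map_dvd _ _)
    rcases ih h1 h2 (X.map (QuotientGroup.mk' R)) (hX.map _ (QuotientGroup.mk'_surjective R)) hodd' hcard with h8 | h8
    · left
      have h9 := q.good_comap hRg h8
      rw [Subgroup.comap_map_eq, QuotientGroup.ker_mk', sup_eq_left.2 hRX] at h9
      exact h9
    · exact Or.inr (q.small hRg h8)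

theorem good_or_small {G : Type u} [Group G] [Finite G] {Ω : Type v} [Finite Ω] [MulAction G Ω]
    (h : Fix2 G Ω) (h3 : 3 ≤ Nat.card Ω) (X : Subgroup G) (hX : X.Normal) (hodd : Odd (Nat.card X)) :
    Good X Ω ∨ Small G Ω := good_or_small_aux _ h h3 X hX hodd le_rfl

end Cfsg.Agent.H355.Lsp
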