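import Cfsg.Agent.H355.LspDefs
import Cfsg.Agent.H355.TwoPoint

/-!
# Quotient actions of groups of fixity two (helper355)

* `Good X Ω` : `X` is a normal subgroup acting semiregularly and `C_X(g) = 1` for every `g ≠ 1` with a fixed point;
* `QuotAct X π f` : the action of `G/X` on the `X`-orbits, abstractly;
* `Small G Ω` : some good subgroup has exactly two orbits; `Small.one : Small G Ω → One G`;
* `QuotAct.fix2` : the action on the orbits of a good subgroup has fixity two again.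
-/

set_option autoImplicit false

namespace Cfsg.Agent.H355.Lsp

open MulAction Cfsg.Agent.H355.SylowTwo Cfsg.Agent.H355.TwoPoint
open scoped Pointwise

/-- normal semiregular subgroups centralized by no element with fixed points -/
structure Good {G : Type*} [Group G] (X : Subgroup G) (Ω : Type*) [MulAction G Ω] : Prop where
  normal : X.Normal
  free : ∀ x ∈ X, ∀ ω : Ω, x • ω = ω → x = 1
  cent : ∀ g : G, g ≠ 1 → (∃ ω : Ω, g • ω = ω) → ∀ x ∈ X, x * g = g * x → x = 1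

/-- some good subgroup has exactly two orbits -/
def Small (G : Type*) [Group G] (Ω : Type*) [MulAction G Ω] : Prop :=
  ∃ (K : Subgroup G) (α : Ω), Good K Ω ∧ (K ⊔ stabilizer G α).index = 2

/-- the action of the quotient group on the orbits of `X` -/
structure QuotAct {G Y : Type*} [Group G] [Group Y] {Ω Ω' : Type*} [MulAction G Ω] [MulAction Y Ω'] (X : Subgroup G)
    (π : G →* Y) (f : Ω → Ω') : Prop where
  surj : Function.Surjective π
  ker : π.ker = X
  fsurj : Function.Surjective f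
  map_smul : ∀ (g : G) (ω : Ω), f (g • ω) = π g • f ω
  fib : ∀ ω ω' : Ω, f ω = f ω' → ∃ x ∈ X, x • ω = ω'

section basic

variable {G : Type*} [Group G] {Ω : Type*} [MulAction G Ω]

theorem Fix2.exists_pair (h : Fix2 G Ω) : ∃ (g : G) (α β : Ω), g ≠ 1 ∧ α ≠ β ∧ g • α = α ∧ g • β = β ∧
    fixedBy Ω g = {α, β} := by
  obtain ⟨g, hg1, hg2⟩ := h.ex
  rw [Nat.card_coe_set_eq, Set.ncard_eq_two] at hg2
  obtain ⟨α, β, hne, hαβ⟩ := hg2
  refine ⟨g, α, β, hg1, hne, ?_, ?_, hαβ⟩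
  · have : α ∈ fixedBy Ω g := by rw [hαβ]; simp
    exact this
  · have : β ∈ fixedBy Ω g := by rw [hαβ]; simp
    exact this

theorem Fix2.stabilizer_ne_bot (h : Fix2 G Ω) (α : Ω) : stabilizer G α ≠ ⊥ := by
  obtain ⟨g, β, γ, hg1, hne, hβ, hγ, -⟩ := h.exists_pair
  have := h.tr
  obtain ⟨x, rfl⟩ := exists_smul_eq G β α
  intro hbot
  apply hg1
  have h1 : x * g * x⁻¹ ∈ stabilizer G (x • β) := by
    rw [mem_stabilizer_iff, ← mul_smul, inv_mul_cancel_right, mul_smul, hβ]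
  rw [hbot, Subgroup.mem_bot] at h1
  rw [← conj_eq_one_iff (a := x)]
  exact h1

theorem Fix2.faithful [Finite Ω] (h : Fix2 G Ω) (h3 : 3 ≤ Nat.card Ω) : FaithfulSMul G Ω := by
  refine ⟨fun {g₁ g₂} hg => ?_⟩
  by_contra hne
  have h1 : g₁⁻¹ * g₂ ≠ 1 := fun h => hne (inv_mul_eq_one.1 h)
  have h2 := h.fix _ h1
  have h4 : fixedBy Ω (g₁⁻¹ * g₂) = Set.univ := by
    ext ω
    simp only [mem_fixedBy, Set.mem_univ, iff_true]
    rw [mul_smul, ← hg ω, inv_smul_smul]
  rw [h4, Nat.card_coe_set_eq, Set.ncard_univ] at h2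
  omega

theorem Fix2.three_le [Finite Ω] [FaithfulSMul G Ω] (h : Fix2 G Ω) : 3 ≤ Nat.card Ω := by
  obtain ⟨g, α, β, hg1, hne, hα, hβ, hfe⟩ := h.exists_pair
  by_contra hcon
  have h1 : ({α, β} : Set Ω).ncard = 2 := Set.ncard_pair hne
  have h2 : ({α, β} : Set Ω) = Set.univ := by
    apply Set.eq_of_subset_of_ncard_le (Set.subset_univ _)
    rw [Set.ncard_univ, h1]
    omega
  apply hg1
  apply FaithfulSMul.eq_of_smul_eq_smul (α := Ω)
  intro ω
  rw [one_smul]
  have h3 : ω ∈ fixedBy Ω g := by rw [hfe, h2]; trivial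
  exact h3

theorem Fix2.index_eq [Finite Ω] (h : Fix2 G Ω) (α : Ω) : (stabilizer G α).index = Nat.card Ω := by
  have := h.tr
  rw [index_stabilizer_of_transitive]

/-- elements of odd order with a fixed point -/
theorem Fix2.smul_eq_of_commute [Finite G] [Finite Ω] (h : Fix2 G Ω) {g x : G} (hg : g ≠ 1) {ω : Ω}
    (hgω : g • ω = ω) (hx : Odd (orderOf x)) (hxg : x * g = g * x) : x • ω = ω := by
  classical
  have hc : ∀ n : ℤ, x ^ n * g = g * x ^ n := fun n => ((show Commute x g from hxg).zpow_left n).eq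
  have hmem : ∀ n : ℤ, g • (x ^ n • ω) = x ^ n • ω := fun n => by
    rw [← mul_smul, ← hc, mul_smul, hgω]
  by_cases h1 : ∃ β, β ≠ ω ∧ g • β = β
  · obtain ⟨β, hβ, hgβ⟩ := h1
    refine smul_eq_of_odd hx (α := ω) (β := β) fun n => ?_
    exact fixed_eq h.fix hβ.symm hg hgω hgβ (hmem n)
  · push Not at h1
    have := hmem 1
    rw [zpow_one] at this
    by_contra hne
    exact h1 _ hne this

end basic

section small

variable {G : Type*} [Group G] {Ω : Type*} [MulAction G Ω]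

theorem Good.commute {K : Subgroup G} (hK : Good K Ω) {h k : G} {α : Ω} (hh : h • α = α) (hk : k ∈ K)
    (hhk : h • k • α = k • α) : k * h = h * k := by
  have h1 : (k⁻¹ * h * k * h⁻¹) • α = α := by
    rw [mul_smul, inv_smul_eq_iff.2 hh.symm, mul_assoc, mul_smul, mul_smul, hhk, inv_smul_smul]
  have h2 : k⁻¹ * h * k * h⁻¹ ∈ K := by
    have := hK.normal.conj_mem k hk h
    have h3 := K.mul_mem (K.inv_mem hk) this
    rwa [← mul_assoc, ← mul_assoc] at h3
  have h3 := hK.free _ h2 α h1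
  have h4 : h * k = k * h := by
    have h5 : k⁻¹ * h * k = h := by
      rw [mul_inv_eq_one] at h3
      exact h3
    rw [mul_assoc, inv_mul_eq_iff_eq_mul] at h5
    exact h5
  exact h4.symm

/-- **the small case** -/
theorem Small.one [Finite G] [Finite Ω] (h : Fix2 G Ω) (h3 : 3 ≤ Nat.card Ω) (hs : Small G Ω) : One G := by
  obtain ⟨K, α, hK, hi⟩ := hs
  have := hK.normal
  refine ⟨K ⊔ stabilizer G α, ⟨1, by rw [hi, pow_one]⟩, (stabilizer G α).subgroupOf (K ⊔ stabilizer G α), ?_, ?_, ?_⟩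
  · intro hbot
    rw [Subgroup.subgroupOf_eq_bot, disjoint_iff] at hbot
    apply h.stabilizer_ne_bot α
    rw [eq_bot_iff, ← hbot]
    exact le_inf le_rfl le_sup_right
  · intro htop
    rw [Subgroup.subgroupOf_eq_top] at htop
    have h1 : K ⊔ stabilizer G α = stabilizer G α := le_antisymm htop le_sup_right
    rw [h1, h.index_eq] at hi
    omega
  · rintro ⟨g, hg⟩ hgn
    rw [eq_bot_iff]
    rintro ⟨x, hx⟩ ⟨hx1, hx2⟩
    obtain ⟨⟨d, hd⟩, hd1, hd2⟩ := (Subgroup.mem_smul_pointwise_iff_exists _ _ _).1 hx2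
    have hdx : g * d * g⁻¹ = x := congrArg Subtype.val hd2
    have hxα : x • α = α := hx1
    have hdα : d • α = α := hd1
    have hgα : g • α ≠ α := fun h => hgn h
    rw [Subgroup.mem_bot]
    apply Subtype.ext
    show x = 1
    obtain ⟨k, hk, s, hs, rfl⟩ := Subgroup.mem_sup_of_normal_left.1 hg
    have hsα : s • α = α := hs
    have hkα : k • α ≠ α := by
      intro h1
      apply hgα
      rw [mul_smul, hsα, h1]
    have hxk : x • k • α = k • α := by
      have h1 : k • α = (k * s) • α := by rw [mul_smul, hsα]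
      rw [h1, ← hdx, ← mul_smul, inv_mul_cancel_right, mul_smul, hdα]
    by_contra hx1
    have h1 := hK.commute hxα hk hxk
    have h2 := hK.cent x hx1 ⟨α, hxα⟩ k hk h1
    rw [h2, one_smul] at hkα
    exact hkα rfl

end small

namespace QuotAct

variable {G Y : Type*} [Group G] [Group Y] {Ω Ω' : Type*} [MulAction G Ω] [MulAction Y Ω'] {X : Subgroup G}
    {π : G →* Y} {f : Ω → Ω'} (q : QuotAct X π f)

include q

theorem exists_lift {y : Y} {ω' : Ω'} (hy : y • ω' = ω') (ω : Ω) (hω : f ω = ω') : ∃ g : G, π g = y ∧ g • ω = ω := by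
  obtain ⟨g₀, rfl⟩ := q.surj y
  obtain ⟨x, hx, hx1⟩ := q.fib (g₀ • ω) ω (by rw [q.map_smul, hω, hy])
  refine ⟨x * g₀, ?_, by rw [mul_smul, hx1]⟩
  have : π x = 1 := by rw [← MonoidHom.mem_ker, q.ker]; exact hx
  rw [map_mul, this, one_mul]

theorem map_mem {x : G} (hx : x ∈ X) : π x = 1 := by rw [← MonoidHom.mem_ker, q.ker]; exact hx

theorem mem_of_map {x : G} (hx : π x = 1) : x ∈ X := by rw [← q.ker]; exact hx

theorem map_stab {g : G} {ω : Ω} (hg : g • ω = ω) : π g • f ω = f ω := by rw [← q.map_smul, hg]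

theorem pretransitive (h : IsPretransitive G Ω) : IsPretransitive Y Ω' := by
  refine ⟨fun a b => ?_⟩
  obtain ⟨ω, rfl⟩ := q.fsurj a
  obtain ⟨ω', rfl⟩ := q.fsurj b
  obtain ⟨g, rfl⟩ := exists_smul_eq G ω ω'
  exact ⟨π g, by rw [q.map_smul]⟩

theorem comap_stabilizer (ω : Ω) : (stabilizer Y (f ω)).comap π = X ⊔ stabilizer G ω := by
  have hn : X.Normal := by rw [← q.ker]; infer_instance
  apply le_antisymm
  · intro g hg
    rw [Subgroup.mem_comap, mem_stabilizer_iff] at hg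
    obtain ⟨s, hs, hsω⟩ := q.exists_lift hg ω rfl
    have h1 : g * s⁻¹ ∈ X := q.mem_of_map (by rw [map_mul, map_inv, hs, mul_inv_cancel])
    have h2 : g = (g * s⁻¹) * s := by group
    rw [h2]
    exact Subgroup.mul_mem_sup h1 hsω
  · rw [sup_le_iff]
    refine ⟨fun x hx => ?_, fun s hs => ?_⟩
    · rw [Subgroup.mem_comap, q.map_mem hx]
      exact Subgroup.one_mem _
    · rw [Subgroup.mem_comap, mem_stabilizer_iff]
      exact q.map_stab hs

theorem index_stabilizer (ω : Ω) : (X ⊔ stabilizer G ω).index = (stabilizer Y (f ω)).index := by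
  rw [← q.comap_stabilizer, Subgroup.index_comap_of_surjective _ q.surj]

theorem map_stabilizer (ω : Ω) : (stabilizer G ω).map π = stabilizer Y (f ω) := by
  ext y
  constructor
  · rintro ⟨g, hg, rfl⟩
    exact q.map_stab hg
  · intro hy
    obtain ⟨g, rfl, hg⟩ := q.exists_lift hy ω rfl
    exact ⟨g, hg, rfl⟩

variable (hX : Good X Ω)

include hX

theorem fix_inj {g : G} {ω ω' : Ω} (hg1 : g ≠ 1) (hg : g • ω = ω) (hg' : g • ω' = ω') (hf : f ω = f ω') : ω = ω' := by
  obtain ⟨x, hx, rfl⟩ := q.fib ω ω' hf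
  have h1 := hX.commute hg hx hg'
  rw [hX.cent g hg1 ⟨ω, hg⟩ x hx h1, one_smul]

theorem fix_surj [Finite G] {g : G} (hg1 : g ≠ 1) {ω₀ : Ω} (hg : g • ω₀ = ω₀) {ω : Ω} (hω : π g • f ω = f ω) :
    ∃ ω₁, f ω₁ = f ω ∧ g • ω₁ = ω₁ := by
  have hn := hX.normal
  have hinj : Function.Injective (fun x : X => (⟨(x : G) * g * (x : G)⁻¹ * g⁻¹, by
      have h2 := X.mul_mem x.2 (hn.conj_mem _ (X.inv_mem x.2) g)
      rwa [← mul_assoc, ← mul_assoc] at h2⟩ : X)) := by
    intro x y hxy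
    have h1 : (x : G) * g * (x : G)⁻¹ * g⁻¹ = (y : G) * g * (y : G)⁻¹ * g⁻¹ := congrArg Subtype.val hxy
    have h2 : (x : G) * g * (x : G)⁻¹ = (y : G) * g * (y : G)⁻¹ := mul_right_cancel h1
    have h3 : ((y : G)⁻¹ * x) * g = g * ((y : G)⁻¹ * x) := by
      have h4 : (y : G)⁻¹ * ((x : G) * g * (x : G)⁻¹) * x = (y : G)⁻¹ * ((y : G) * g * (y : G)⁻¹) * x := by rw [h2]
      have h5 : (y : G)⁻¹ * ((x : G) * g * (x : G)⁻¹) * x = ((y : G)⁻¹ * x) * g := by group
      have h6 : (y : G)⁻¹ * ((y : G) * g * (y : G)⁻¹) * x = g * ((y : G)⁻¹ * x) := by group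
      rw [h5, h6] at h4
      exact h4
    have h4 := hX.cent g hg1 ⟨ω₀, hg⟩ _ (X.mul_mem (X.inv_mem y.2) x.2) h3
    apply Subtype.ext
    exact (inv_mul_eq_one.1 h4).symm
  have hsurj := Finite.surjective_of_injective hinj
  obtain ⟨x, hx, hx1⟩ := q.fib (g • ω) ω (by rw [q.map_smul, hω])
  obtain ⟨u, hu⟩ := hsurj ⟨x, hx⟩
  have h1 : (u : G) * g * (u : G)⁻¹ * g⁻¹ = x := congrArg Subtype.val hu
  refine ⟨(u : G)⁻¹ • ω, ?_, ?_⟩
  · rw [q.map_smul, map_inv, q.map_mem u.2, inv_one, one_smul]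
  · have h2 : ((u : G) * g * (u : G)⁻¹) • ω = ω := by
      have h3 : (u : G) * g * (u : G)⁻¹ = x * g := by rw [← h1]; group
      rw [h3, mul_smul, hx1]
    rw [eq_inv_smul_iff, ← mul_smul, ← mul_smul]
    exact h2

theorem card_fixedBy [Finite G] {g : G} (hg1 : g ≠ 1) {ω₀ : Ω} (hg : g • ω₀ = ω₀) :
    Nat.card (fixedBy Ω' (π g)) = Nat.card (fixedBy Ω g) := by
  symm
  refine Nat.card_congr (Equiv.ofBijective (fun ω : fixedBy Ω g => (⟨f ω, q.map_stab ω.2⟩ : fixedBy Ω' (π g))) ⟨?_, ?_⟩)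
  · intro a b hab
    exact Subtype.ext (q.fix_inj hX hg1 a.2 b.2 (congrArg Subtype.val hab))
  · rintro ⟨b, hb⟩
    obtain ⟨ω, rfl⟩ := q.fsurj b
    obtain ⟨ω₁, h1, h2⟩ := q.fix_surj hX hg1 hg hb
    exact ⟨⟨ω₁, h2⟩, Subtype.ext h1⟩

theorem map_ne_one {g : G} (hg1 : g ≠ 1) {ω : Ω} (hg : g • ω = ω) : π g ≠ 1 := fun h =>
  hg1 (hX.free g (q.mem_of_map h) ω hg)

theorem card_stabilizer (ω : Ω) : Nat.card (stabilizer Y (f ω)) = Nat.card (stabilizer G ω) := by
  rw [← q.map_stabilizer]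
  symm
  refine Nat.card_congr (Equiv.ofBijective (fun g : stabilizer G ω => (⟨π g, ⟨g, g.2, rfl⟩⟩ : (stabilizer G ω).map π)) ⟨?_, ?_⟩)
  · intro a b hab
    have h1 : π a = π b := congrArg Subtype.val hab
    have h2 : π ((a : G)⁻¹ * b) = 1 := by rw [map_mul, map_inv, h1, inv_mul_cancel]
    have h3 : ((a : G)⁻¹ * b) • ω = ω := ((stabilizer G ω).mul_mem ((stabilizer G ω).inv_mem a.2) b.2)
    exact Subtype.ext (inv_mul_eq_one.1 (hX.free _ (q.mem_of_map h2) ω h3))
  · rintro ⟨_, g, hg, rfl⟩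
    exact ⟨⟨g, hg⟩, rfl⟩

theorem fix2 [Finite G] (h : Fix2 G Ω) : Fix2 Y Ω' := by
  refine ⟨q.pretransitive h.tr, fun y hy => ?_, ?_⟩
  · by_cases h1 : ∃ ω' : Ω', y • ω' = ω'
    · obtain ⟨ω', hω'⟩ := h1
      obtain ⟨ω, rfl⟩ := q.fsurj ω'
      obtain ⟨g, rfl, hg⟩ := q.exists_lift hω' ω rfl
      have hg1 : g ≠ 1 := by
        rintro rfl
        exact hy (map_one π)
      rw [q.card_fixedBy hX hg1 hg]
      exact h.fix g hg1
    · push Not at h1
      have : IsEmpty (fixedBy Ω' y) := ⟨fun a => h1 a a.2⟩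
      rw [Nat.card_of_isEmpty]
      omega
  · obtain ⟨g, hg1, hg2⟩ := h.ex
    have hne : Nonempty (fixedBy Ω g) := by
      by_contra hcon
      rw [not_nonempty_iff] at hcon
      rw [Nat.card_of_isEmpty] at hg2
      omega
    obtain ⟨ω, hω⟩ := hne
    exact ⟨π g, q.map_ne_one hX hg1 hω, by rw [q.card_fixedBy hX hg1 hω, hg2]⟩

/-- preimages of good subgroups are good -/
theorem good_comap {K : Subgroup Y} (hK : Good K Ω') : Good (K.comap π) Ω := by
  have := hK.normal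
  refine ⟨inferInstance, fun x hx ω hω => ?_, fun g hg1 hg x hx hxg => ?_⟩
  · have h1 := hK.free (π x) hx (f ω) (q.map_stab hω)
    exact hX.free x (q.mem_of_map h1) ω hω
  · obtain ⟨ω, hω⟩ := hg
    have h1 := hK.cent (π g) (q.map_ne_one hX hg1 hω) ⟨f ω, q.map_stab hω⟩ (π x) hx (by rw [← map_mul, hxg, map_mul])
    exact hX.cent g hg1 ⟨ω, hω⟩ x (q.mem_of_map h1) hxg

theorem small (h : Small Y Ω') : Small G Ω := by
  obtain ⟨K, α', hK, hi⟩ := h
  obtain ⟨α, rfl⟩ := q.fsurj α'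
  have h1 := q.good_comap hX hK
  have h3 := hK.normal
  have h4 := h1.normal
  refine ⟨K.comap π, α, h1, ?_⟩
  rw [← hi, ← Subgroup.index_comap_of_surjective (K ⊔ stabilizer Y (f α)) q.surj]
  congr 1
  have h2 : X ≤ K.comap π := fun x hx => by
    rw [Subgroup.mem_comap, q.map_mem hx]
    exact K.one_mem
  rw [← q.map_stabilizer]
  apply le_antisymm
  · rw [sup_le_iff]
    refine ⟨Subgroup.comap_mono le_sup_left, fun s hs => ?_⟩
    rw [Subgroup.mem_comap]
    exact Subgroup.mem_sup_right ⟨s, hs, rfl⟩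
  · intro g hg
    rw [Subgroup.mem_comap] at hg
    obtain ⟨k, hk, s', hs', hks⟩ := Subgroup.mem_sup_of_normal_left.1 hg
    obtain ⟨s, hs, rfl⟩ := hs'
    have h5 : g * s⁻¹ ∈ K.comap π := by
      rw [Subgroup.mem_comap, map_mul, map_inv, ← hks, mul_inv_cancel_right]
      exact hk
    have h6 : g = (g * s⁻¹) * s := by group
    rw [h6]
    exact Subgroup.mul_mem_sup h5 hs

/-- **(G1)** -/
theorem small_or [Finite G] [Finite Ω] (h : Fix2 G Ω) : Small G Ω ∨ (Fix2 Y Ω' ∧ 3 ≤ Nat.card Ω') := by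
  have h1 := q.fix2 hX h
  have hfin : Finite Ω' := Finite.of_surjective f q.fsurj
  obtain ⟨α⟩ : Nonempty Ω := by
    obtain ⟨g, α, -⟩ := h.exists_pair
    exact ⟨α⟩
  by_cases h2 : Nat.card Ω' = 2
  · refine Or.inl ⟨X, α, hX, ?_⟩
    rw [q.index_stabilizer, h1.index_eq, h2]
  · refine Or.inr ⟨h1, ?_⟩
    obtain ⟨y, a, b, -, hab, -⟩ := h1.exists_pair
    have h3 : 1 < Nat.card Ω' := by
      rw [Finite.one_lt_card_iff_nontrivial]
      exact ⟨a, b, hab⟩
    omega

end QuotAct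

section exist

variable {G : Type*} [Group G] {Ω : Type*} [MulAction G Ω]

/-- the action of `G ⧸ X` on the set of `X`-orbits -/
@[reducible] noncomputable def quotAction (X : Subgroup G) [hX : X.Normal] : MulAction (G ⧸ X) (orbitRel.Quotient X Ω) where
  smul g := Quotient.map' (s₁ := orbitRel X Ω) (s₂ := orbitRel X Ω) (fun ω => g.out • ω) (by
    rintro a b ⟨x, hx⟩
    refine ⟨⟨g.out * x * g.out⁻¹, hX.conj_mem _ x.2 _⟩, ?_⟩
    show (g.out * (x : G) * g.out⁻¹) • g.out • b = g.out • a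
    rw [← mul_smul, inv_mul_cancel_right, mul_smul]
    exact congrArg _ hx)
  one_smul := by
    intro a
    induction a using Quotient.inductionOn' with
    | h a =>
      apply Quotient.sound'
      have h1 : (1 : G ⧸ X).out ∈ X := by
        rw [← QuotientGroup.eq_one_iff]
        exact Quotient.out_eq' _
      exact ⟨⟨_, h1⟩, rfl⟩
  mul_smul := by
    intro g h a
    induction a using Quotient.inductionOn' with
    | h a =>
      apply Quotient.sound'
      have h1 : (g * h).out * (g.out * h.out)⁻¹ ∈ X := by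
        rw [← QuotientGroup.eq_one_iff, QuotientGroup.mk_mul, QuotientGroup.mk_inv, QuotientGroup.mk_mul]
        have h2 : ∀ z : G ⧸ X, ((z.out : G) : G ⧸ X) = z := fun z => Quotient.out_eq' z
        rw [h2, h2, h2, mul_inv_cancel]
      refine ⟨⟨_, h1⟩, ?_⟩
      show ((g * h).out * (g.out * h.out)⁻¹) • (g.out • h.out • a) = (g * h).out • a
      rw [← mul_smul g.out, ← mul_smul, inv_mul_cancel_right]

theorem exists_quotAct (X : Subgroup G) [hX : X.Normal] :
    let _ := quotAction (Ω := Ω) X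
    QuotAct (Ω := Ω) (Ω' := orbitRel.Quotient X Ω) X (QuotientGroup.mk' X) (Quotient.mk'' : Ω → orbitRel.Quotient X Ω) := by
  let _ := quotAction (Ω := Ω) X
  refine ⟨QuotientGroup.mk'_surjective X, QuotientGroup.ker_mk' X, Quotient.mk''_surjective, ?_, ?_⟩
  · intro g ω
    apply Quotient.sound'
    have h1 : g * ((g : G ⧸ X).out)⁻¹ ∈ X := by
      rw [← QuotientGroup.eq_one_iff, QuotientGroup.mk_mul, QuotientGroup.mk_inv]
      have h2 : ∀ z : G ⧸ X, ((z.out : G) : G ⧸ X) = z := fun z => Quotient.out_eq' z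
      rw [h2, mul_inv_cancel]
    refine ⟨⟨_, h1⟩, ?_⟩
    show (g * ((g : G ⧸ X).out)⁻¹) • ((g : G ⧸ X).out • ω) = g • ω
    rw [← mul_smul, inv_mul_cancel_right]
  · intro a b hab
    have h1 := Quotient.exact' hab
    obtain ⟨x, hx⟩ := (orbitRel X Ω).symm h1
    exact ⟨x, x.2, hx⟩

end exist

end Cfsg.Agent.H355.Lsp
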