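import Cfsg.Agent.H355.LspFour
import Cfsg.Agent.Transfer.FusionBasic
import Cfsg.Agent.S0042

/-!
# Normal 2-subgroups of groups of fixity two with stabilizers of odd order (helper355)

* `solvable_of_two` : if an element with a fixed point centralizes a non-trivial element of a normal 2-subgroup then the
  group is solvable.
-/

set_option autoImplicit false
set_option linter.unusedSectionVars false

universe u v

open Cfsg

namespace Cfsg.Agent.H355.Lsp

open MulAction Cfsg.Agent.H355.TwoPoint
open scoped Pointwise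

section

variable {G : Type*} [Group G] [Finite G] {Ω : Type*} [Finite Ω] [MulAction G Ω]

/-- 2-subgroups act semiregularly if the stabilizers have odd order -/
theorem free_of_two (hodd : ∀ α : Ω, Odd (Nat.card (stabilizer G α))) {T : Subgroup G} (hT2 : IsPGroup 2 T) {x : G}
    (hx : x ∈ T) {ω : Ω} (hω : x • ω = ω) : x = 1 := by
  have h4 : Odd (orderOf x) := odd_orderOf (hodd ω) (X := stabilizer G ω) hω
  obtain ⟨j, hj⟩ := (IsPGroup.iff_orderOf.1 hT2) ⟨x, hx⟩
  rw [Subgroup.orderOf_mk] at hj
  rw [hj] at h4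
  have hj0 : j = 0 := by
    by_contra hj0
    exact (Nat.not_odd_iff_even.2 ((Nat.even_pow.2 ⟨even_two, hj0⟩))) h4
  rw [hj0, pow_zero, orderOf_eq_one_iff] at hj
  exact hj

/-- a group with a solvable Frobenius complement (or equal to it) is solvable -/
theorem solvable_of_frobenius {Y : Type*} [Group Y] [Finite Y] (H : Subgroup Y) (hH : H = ⊤ ∨ IsFrobeniusComplement H)
    (hs : Group.IsSolvable H) : Group.IsSolvable Y := by
  rcases hH with rfl | hH
  · exact Group.isSolvable_of_surjective (f := (Subgroup.topEquiv (G := Y)).toMonoidHom) Subgroup.topEquiv.surjective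
  · obtain ⟨N, hN1, hN, hc⟩ := Cfsg.Agent.S0035.result H hH
    obtain ⟨N', hN1', hN', hnil⟩ := Cfsg.Agent.S0042.result H hH
    have h1 : N = N' := SetLike.coe_injective (hN1.trans hN1'.symm)
    subst h1
    have h2 : Group.IsSolvable N := inferInstance
    have h3 : Group.IsSolvable (Y ⧸ N) := by
      have he : Function.Surjective ((QuotientGroup.mk' N).comp H.subtype) := by
        intro y
        obtain ⟨g, rfl⟩ := QuotientGroup.mk'_surjective N y
        have h4 : g ∈ N ⊔ H := by rw [hc.sup_eq_top]; trivial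
        obtain ⟨n, hn, k, hk, rfl⟩ := Subgroup.mem_sup_of_normal_left.1 h4
        refine ⟨⟨k, hk⟩, ?_⟩
        show QuotientGroup.mk' N k = QuotientGroup.mk' N (n * k)
        rw [map_mul]
        have : QuotientGroup.mk' N n = 1 := by rwa [QuotientGroup.mk'_apply, QuotientGroup.eq_one_iff]
        rw [this, one_mul]
      exact Group.isSolvable_of_surjective he
    exact Group.isSolvable_of_ker_le_range N.subtype (QuotientGroup.mk' N)
      (by rw [QuotientGroup.ker_mk', Subgroup.range_subtype])

theorem solvable_of_two (h : Fix2 G Ω) (hodd : ∀ α : Ω, Odd (Nat.card (MulAction.stabilizer G α)))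
    {T : Subgroup G} (hT : T.Normal) (hT2 : IsPGroup 2 T) {g z : G} {α : Ω} (hg : g ≠ 1) (hgα : g • α = α) (hz : z ∈ T)
    (hz1 : z ≠ 1) (hc : g * z = z * g) : Group.IsSolvable G := by
  classical
  have hαβ : α ≠ z • α := fun h1 => hz1 (free_of_two hodd hT2 hz h1.symm)
  set β := z • α with hβ
  have hgβ : g • β = β := by rw [hβ, ← mul_smul, hc, mul_smul, hgα]
  have hzβ : z • β = α := by
    have h1 : g • z • β = z • β := by rw [← mul_smul, hc, mul_smul, hgβ]
    rcases SylowTwo.fixed_eq h.fix hαβ hg hgα hgβ h1 with h2 | h2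
    · exact h2
    · exact absurd (free_of_two hodd hT2 hz h2) hz1
  set D := stabilizer G α ⊓ stabilizer G β with hD
  have hgD : g ∈ D := ⟨hgα, hgβ⟩
  have hDne : D ≠ ⊥ := by
    intro h1
    rw [h1, Subgroup.mem_bot] at hgD
    exact hg hgD
  have hE : ETI D := eti h.fix hαβ hDne
  have hDT : ∀ x ∈ D, x ∈ T → x = 1 := fun x hx hxT => free_of_two hodd hT2 hxT hx.1
  have hDodd : Odd (Nat.card D) := Odd.of_dvd_nat (hodd α) (Subgroup.card_dvd_of_le inf_le_left)
  -- the normalizer of `D`
  have hN : ∀ x ∈ Subgroup.normalizer (D : Set G), x ∈ D ⊔ T := by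
    intro x hx
    rw [hD, mem_normalizer_iff h.fix hαβ hDne] at hx
    rcases hx with hx | hx
    · exact Subgroup.mem_sup_left ⟨hx.1, hx.2⟩
    · have h1 : z * x ∈ D := by
        constructor
        · show (z * x) • α = α
          rw [mul_smul, hx.1, hzβ]
        · show (z * x) • β = β
          rw [mul_smul, hx.2]
      have h2 : x = z⁻¹ * (z * x) := by group
      rw [h2]
      exact Subgroup.mul_mem _ (Subgroup.mem_sup_right (T.inv_mem hz)) (Subgroup.mem_sup_left h1)
  let π := QuotientGroup.mk' T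
  have hπs : Function.Surjective π := QuotientGroup.mk'_surjective T
  have hπ1 : ∀ x : G, π x = 1 ↔ x ∈ T := fun x => by rw [QuotientGroup.mk'_apply, QuotientGroup.eq_one_iff]
  have hker : ∀ x y : G, π x = π y → x * y⁻¹ ∈ T := fun x y hxy => by
    rw [← hπ1, map_mul, map_inv, hxy, mul_inv_cancel]
  have hπD : ∀ x ∈ D, orderOf (π x) = orderOf x := by
    intro x hx
    apply Nat.dvd_antisymm (orderOf_map_dvd π x)
    rw [orderOf_dvd_iff_pow_eq_one]
    apply hDT _ (D.pow_mem hx _)
    rw [← hπ1, map_pow, pow_orderOf_eq_one]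
  have hmemD : ∀ x : G, π x ∈ D.map π → x ∈ D ⊔ T := by
    rintro x ⟨d, hd, hdx⟩
    have h1 := hker x d hdx.symm
    have h2 : x = (x * d⁻¹) * d := by group
    rw [h2]
    exact Subgroup.mul_mem _ (Subgroup.mem_sup_right h1) (Subgroup.mem_sup_left hd)
  have hmemD' : ∀ x ∈ D ⊔ T, π x ∈ D.map π := by
    intro x hx
    obtain ⟨d, hd, t, ht, rfl⟩ := Subgroup.mem_sup_of_normal_right.1 hx
    rw [map_mul, (hπ1 t).2 ht, mul_one]
    exact ⟨d, hd, rfl⟩
  have hfrob : D.map π = ⊤ ∨ IsFrobeniusComplement (D.map π) := by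
    by_cases htop : D.map π = ⊤
    · exact Or.inl htop
    right
    refine ⟨?_, htop, ?_⟩
    · intro h1
      have h2 : π g ∈ D.map π := ⟨g, hgD, rfl⟩
      rw [h1, Subgroup.mem_bot, hπ1] at h2
      exact hg (hDT g hgD h2)
    · intro y hy
      by_contra hne
      have hnt : Nontrivial ↥(D.map π ⊓ MulAut.conj y • D.map π) := (Subgroup.nontrivial_iff_ne_bot _).2 hne
      obtain ⟨p, hp, hpd⟩ := Nat.exists_prime_and_dvd (Finite.one_lt_card (α := ↥(D.map π ⊓ MulAut.conj y • D.map π))).ne'
      have hpf : Fact p.Prime := ⟨hp⟩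
      obtain ⟨w, hw⟩ := exists_prime_orderOf_dvd_card' p hpd
      obtain ⟨hd'1, hd'2⟩ := w.2
      have hd'o : orderOf (w : G ⧸ T) = p := by rw [Subgroup.orderOf_coe, hw]
      generalize (w : G ⧸ T) = d' at hd'1 hd'2 hd'o
      obtain ⟨d, hd, hdd'⟩ := hd'1
      obtain ⟨e', ⟨e, he, rfl⟩, hee'⟩ := (Subgroup.mem_smul_pointwise_iff_exists _ _ _).1 hd'2
      obtain ⟨x, rfl⟩ := hπs y
      have hee : π (x * e * x⁻¹) = d' := by
        rw [map_mul, map_mul, map_inv]
        exact hee'
      have hdo : orderOf d = p := by rw [← hπD d hd, hdd', hd'o]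
      have heo : orderOf e = p := by
        rw [← hπD e he, ← hd'o, ← hee, map_mul, map_mul, map_inv]
        exact (MulEquiv.orderOf_eq (MulAut.conj (π x)) (π e)).symm
      have he1 : e ≠ 1 := by
        rintro rfl
        rw [orderOf_one] at heo
        exact hp.one_lt.ne heo
      have hp2 : p ≠ 2 := by
        rintro rfl
        have h1 := orderOf_dvd_natCard (⟨d, hd⟩ : D)
        rw [Subgroup.orderOf_mk, hdo] at h1
        exact (Nat.not_odd_iff_even.2 (even_iff_two_dvd.2 h1)) hDodd
      have hTp : (Nat.card T).Coprime p := by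
        obtain ⟨k, hk⟩ := hT2.exists_card_eq
        rw [hk]
        exact Nat.Coprime.pow_left k ((Nat.coprime_primes Nat.prime_two hp).2 hp2.symm)
      have hA : IsPGroup p (Subgroup.zpowers d) := by
        apply IsPGroup.of_card (n := 1)
        rw [Nat.card_zpowers, hdo, pow_one]
      have hB : IsPGroup p (Subgroup.zpowers (x * e * x⁻¹)) := by
        apply IsPGroup.of_card (n := 1)
        rw [Nat.card_zpowers, pow_one, ← heo]
        exact MulEquiv.orderOf_eq (MulAut.conj x) e
      have hBA : Subgroup.zpowers (x * e * x⁻¹) ≤ Subgroup.zpowers d ⊔ T := by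
        rw [Subgroup.zpowers_le]
        have h1 := hker (x * e * x⁻¹) d (hee.trans hdd'.symm)
        have h2 : x * e * x⁻¹ = (x * e * x⁻¹ * d⁻¹) * d := by group
        rw [h2]
        exact Subgroup.mul_mem _ (Subgroup.mem_sup_right h1) (Subgroup.mem_sup_left (Subgroup.mem_zpowers d))
      have hAN : Subgroup.zpowers d ≤ Subgroup.normalizer (T : Set G) := by
        rw [Subgroup.normalizer_eq_top]
        exact le_top
      obtain ⟨k, hk, hkb⟩ := Cfsg.Agent.Transfer.FusionBasic.exists_conj_of_coprime hA hB hTp hAN hBA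
      have h3 := hkb _ (Subgroup.mem_zpowers _)
      have h4 : (k * x) * e * (k * x)⁻¹ ∈ D := by
        have h5 : (k * x) * e * (k * x)⁻¹ = k * (x * e * x⁻¹) * k⁻¹ := by group
        rw [h5]
        exact (Subgroup.zpowers_le.2 hd) h3
      have h5 := hN _ (hE.ti _ e he he1 h4)
      apply hy
      apply hmemD'
      have h6 : x = k⁻¹ * (k * x) := by group
      rw [h6]
      exact Subgroup.mul_mem _ (Subgroup.mem_sup_right (T.inv_mem hk)) h5
  have hDs : Group.IsSolvable D := Cfsg.Agent.S0205.result hDodd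
  have hDs' : Group.IsSolvable (D.map π) := Group.isSolvable_of_surjective (f := π.subgroupMap D) (π.subgroupMap_surjective D)
  have hQ := solvable_of_frobenius (D.map π) hfrob hDs'
  have hTs : Group.IsSolvable T := by
    have := hT2.isNilpotent
    infer_instance
  exact Group.isSolvable_of_ker_le_range T.subtype (QuotientGroup.mk' T)
      (by rw [QuotientGroup.ker_mk', Subgroup.range_subtype])

end

end Cfsg.Agent.H355.Lsp
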