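import Cfsg.Agent.H355.Order

/-!
# Numerical consequences of a TI Hall subgroup `D` (helper355)

* `TIH.index_eq` : `|G : D| = 2 + k |D|`;
* `exists_square` : there is a number `a > 0` such that `a (a + 1)` divides `|G|` and `|G| |D| = a (a + 1) s²`.
-/

set_option autoImplicit false
set_option linter.unusedSectionVars false

open Cfsg

namespace Cfsg.Agent.H355

namespace TIHall

variable {G : Type*} [Group G] {D : Subgroup G} (h : TIH D)

include h

theorem TIH.fixedBy_eq {y : G} (hyN : y ∈ Subgroup.normalizer (D : Set G)) (hyD : y ∉ D) {d : D} (hd : d ≠ 1) :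
    MulAction.fixedBy (G ⧸ D) d = {((1 : G) : G ⧸ D), (y : G ⧸ D)} := by
  ext x
  obtain ⟨g, rfl⟩ := QuotientGroup.mk_surjective x
  rw [MulAction.mem_fixedBy, Set.mem_insert_iff, Set.mem_singleton_iff]
  have h1 : (d • (g : G ⧸ D) = (g : G ⧸ D)) ↔ g⁻¹ * (d : G) * g ∈ D := by
    have h2 : d • (g : G ⧸ D) = (((d : G) * g : G) : G ⧸ D) := rfl
    rw [h2, eq_comm, QuotientGroup.eq]
    rw [mul_assoc]
  rw [h1]
  have hd1 : (d : G) ≠ 1 := fun h2 => hd (Subtype.ext h2)
  constructor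
  · intro h2
    have h3 : g⁻¹ ∈ Subgroup.normalizer (D : Set G) := h.ti g⁻¹ d d.2 hd1 (by rwa [inv_inv])
    have h4 : g ∈ Subgroup.normalizer (D : Set G) := by
      have := inv_mem h3
      rwa [inv_inv] at this
    by_cases h5 : g ∈ D
    · left
      rw [eq_comm, QuotientGroup.eq, inv_one, one_mul]
      exact h5
    · right
      rw [eq_comm, QuotientGroup.eq]
      exact h.mul_mem_of_notMem (inv_mem hyN) (fun h6 => hyD (by have := inv_mem h6; rwa [inv_inv] at this)) h4 h5
  · rintro (h2 | h2)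
    · rw [eq_comm, QuotientGroup.eq, inv_one, one_mul] at h2
      exact mul_mem (mul_mem (inv_mem h2) d.2) h2
    · rw [eq_comm, QuotientGroup.eq] at h2
      have h3 : g ∈ Subgroup.normalizer (D : Set G) := by
        have := mul_mem hyN (h.le_normalizer h2)
        rwa [mul_inv_cancel_left] at this
      have h4 := (Subgroup.mem_normalizer_iff.1 (inv_mem h3) d).1 d.2
      rwa [inv_inv] at h4

/-- the index of `D` -/
theorem TIH.index_eq [Finite G] : ∃ k : ℕ, D.index = 2 + k * Nat.card D := by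
  classical
  have := Fintype.ofFinite G
  have : Fintype (G ⧸ D) := Fintype.ofFinite _
  obtain ⟨y, hyN, hyD, -⟩ := h.exists_involution
  have h1 := MulAction.sum_card_fixedBy_eq_card_orbits_mul_card_group D (G ⧸ D)
  rw [← Finset.add_sum_erase _ _ (Finset.mem_univ (1 : D))] at h1
  have h2 : Fintype.card (MulAction.fixedBy (G ⧸ D) (1 : D)) = D.index := by
    rw [Subgroup.index, Nat.card_eq_fintype_card]
    refine Fintype.card_congr ((Equiv.setCongr (?_ : MulAction.fixedBy (G ⧸ D) (1 : D) = Set.univ)).trans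
      (Equiv.Set.univ _))
    ext x
    simp
  have h3 : ∀ d ∈ Finset.univ.erase (1 : D), Fintype.card (MulAction.fixedBy (G ⧸ D) d) = 2 := by
    intro d hd
    have h4 := h.fixedBy_eq hyN hyD (Finset.ne_of_mem_erase hd)
    rw [← Nat.card_eq_fintype_card, Nat.card_coe_set_eq, h4, Set.ncard_pair]
    intro h5
    rw [QuotientGroup.eq, inv_one, one_mul] at h5
    exact hyD h5
  rw [h2, Finset.sum_congr rfl h3, Finset.sum_const, Finset.card_erase_of_mem (Finset.mem_univ _), Finset.card_univ,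
    ← Nat.card_eq_fintype_card (α := D), smul_eq_mul] at h1
  have h4 : 0 < Nat.card D := Nat.card_pos
  set m := Nat.card D
  set r := Fintype.card (Quotient (MulAction.orbitRel D (G ⧸ D))) with hr
  have hi : D.index + 2 * m = r * m + 2 := by
    have h5 : (m - 1) * 2 + 2 = 2 * m := by omega
    omega
  have hr2 : 2 ≤ r := by
    by_contra h6
    push Not at h6
    have h7 : r * m ≤ m := by
      calc r * m ≤ 1 * m := Nat.mul_le_mul_right _ (by omega)
        _ = m := one_mul m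
    have h8 : 0 < D.index := Nat.pos_of_ne_zero D.index_ne_zero_of_finite
    have h9 : m ≠ 1 := fun h10 => h.ne_bot (Subgroup.card_eq_one.1 h10)
    have h10 := h.odd
    have h11 : 3 ≤ m := by
      rcases h10 with ⟨j, hj⟩
      have : m = 2 * j + 1 := hj
      omega
    omega
  obtain ⟨k, hk⟩ : ∃ k, r = k + 2 := ⟨r - 2, by omega⟩
  refine ⟨k, ?_⟩
  rw [hk, add_mul] at hi
  omega

end TIHall

namespace Exc

open TIHall Characters.Core

universe u

variable {G : Type u} [Group G] {D : Subgroup G}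

/-- The numerical criterion. -/
theorem exists_square [Finite G] [IsSimpleGroup G] (hG : ¬ IsMulCommutative G) (hD : TIH D)
    (hDs : commutator D ≠ ⊤) : ∃ a s : ℕ, 0 < a ∧ a * (a + 1) ∣ Nat.card G ∧
      Nat.card G * Nat.card D = a * (a + 1) * s ^ 2 := by
  classical
  have := Fintype.ofFinite G
  obtain ⟨f, χp, χm, hf1, hf, hP⟩ := exists_pair hG hD hDs
  obtain ⟨y, hyN, hyD, hy2⟩ := hD.exists_involution
  have hform := order_formula hD hP hf hf1 hyN hyD hy2
  obtain ⟨a, ha0, ha⟩ := isIrr_apply_one hP.irrp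
  obtain ⟨b, hb, -⟩ := CharactersDeep.FeitOddAux.exists_int_apply hP.irrp hy2
  have hm : χm 1 = ((a + 1 : ℕ) : ℂ) := by rw [hP.eq_one, ha]; push_cast; ring
  have h1 := Blocks.CentralProduct.degree_dvd_card hP.irrp ha
  have h2 := Blocks.CentralProduct.degree_dvd_card hP.irrm hm
  have h3 : a * (a + 1) ∣ Nat.card G := (Nat.coprime_self_add_right.2 (Nat.coprime_one_right a)).mul_dvd_of_dvd_of_dvd h1 h2
  rw [ha, hb] at hform
  set n := Nat.card (AA D y) with hn
  have hn0 : n ≠ 0 := by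
    have h4 : Nonempty (AA D y) := ⟨⟨1, by
      rw [mem_AA, one_mul, inv_one, mul_one]
      exact hyN⟩⟩
    have : Finite (AA D y) := Subtype.finite
    exact Nat.card_pos.ne'
  have hform' : (Nat.card G : ℤ) * ((a : ℤ) - b) ^ 2 * Nat.card D = (n : ℤ) ^ 2 * (a * (1 + a)) := by
    have h5 : ((((Nat.card G : ℤ) * ((a : ℤ) - b) ^ 2 * Nat.card D : ℤ)) : ℂ) = (((n : ℤ) ^ 2 * (a * (1 + a)) : ℤ) : ℂ) := by
      push_cast
      exact hform
    exact_mod_cast h5
  obtain ⟨t, ht⟩ := h3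
  have hab : (a : ℤ) - b ≠ 0 := by
    intro h5
    rw [h5] at hform'
    have h6 : (n : ℤ) ^ 2 * (a * (1 + a)) ≠ 0 := by positivity
    apply h6
    rw [← hform']; ring
  have h5 : ((t * Nat.card D : ℕ) : ℤ) * ((a : ℤ) - b) ^ 2 = (n : ℤ) ^ 2 := by
    have h6 : ((a : ℤ) * (1 + a)) ≠ 0 := by positivity
    apply mul_right_cancel₀ h6
    rw [← hform', ht]
    push_cast
    ring
  have h6 : ((a : ℤ) - b) ∣ n := by
    have h7 : ((a : ℤ) - b) ^ 2 ∣ (n : ℤ) ^ 2 := ⟨_, by rw [← h5]; ring⟩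
    exact (Int.pow_dvd_pow_iff two_ne_zero).1 h7
  obtain ⟨c, hc⟩ := h6
  refine ⟨a, c.natAbs, ha0, ⟨t, ht⟩, ?_⟩
  have h7 : ((t * Nat.card D : ℕ) : ℤ) = c ^ 2 := by
    have h8 : ((a : ℤ) - b) ^ 2 ≠ 0 := pow_ne_zero 2 hab
    apply mul_right_cancel₀ h8
    rw [h5, hc]; ring
  have h9 : t * Nat.card D = c.natAbs ^ 2 := by
    have : ((t * Nat.card D : ℕ) : ℤ) = ((c.natAbs ^ 2 : ℕ) : ℤ) := by
      rw [h7]; push_cast; rw [sq_abs]
    exact_mod_cast this
  rw [← h9]
  conv_lhs => rw [ht]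
  ring

end Exc

end Cfsg.Agent.H355
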