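import Cfsg.Agent.H355.SzEven
import Cfsg.Agent.LieExceptional.SuzukiTori

/-!
# A counting lemma: groups of odd order with all nonidentity elements fixing exactly two points
-/

set_option autoImplicit false

namespace Cfsg.Agent.H355.OddCount

open MulAction Cfsg.Agent.H355.SzEven Cfsg.Agent.LieExceptional.SuzukiTori
  Cfsg.Agent.LieExceptional.SuzukiTori.Hyp

variable {A X : Type*} [Group A] [Finite A] [MulAction A X] [Finite X]

theorem card_eq (hodd : Odd (Nat.card A)) (hfix : ∀ g : A, g ≠ 1 → (fixedBy X g).ncard = 2)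
    (hab : ∀ g a : A, g ≠ 1 → (∀ x ∈ fixedBy X g, a • x = x) → a * g = g * a) {k : ℕ} (hk : 3 ≤ k)
    (hcen : ∀ g : A, g ≠ 1 → Nat.card (Subgroup.centralizer ({g} : Set A)) = k)
    (hnt : ∃ g : A, g ≠ 1) : Nat.card A = k := by
  classical
  have hor : ∀ g : A, Odd (orderOf g) := fun g => hodd.of_dvd_nat (orderOf_dvd_natCard g)
  have hpt : ∀ g : A, g ≠ 1 → ∀ a : A, (∀ x ∈ fixedBy X g, a • x ∈ fixedBy X g) →
      ∀ x ∈ fixedBy X g, a • x = x := fun g hg a ha x hx =>
    odd_smul_eq (Set.toFinite _) (hfix g hg).le (hor a) ha hx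
  have hco : ∀ g : A, g ≠ 1 → ∀ a : A, a * g = g * a ↔ ∀ x ∈ fixedBy X g, a • x = x := by
    intro g hg a
    constructor
    · intro h
      apply hpt g hg
      intro x hx
      rw [mem_fixedBy, ← mul_smul, ← h, mul_smul, hx]
    · exact hab g a hg
  have hPeq : ∀ g : A, g ≠ 1 → ∀ c : A, c ≠ 1 → c * g = g * c → fixedBy X c = fixedBy X g := by
    intro g hg c hc h
    symm
    apply Set.eq_of_subset_of_ncard_le
    · exact (hco g hg c).1 h
    · rw [hfix c hc, hfix g hg]
    · exact Set.toFinite _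
  have hTI : ∀ g : A, g ≠ 1 → ∀ y c : A, c * g = g * c → c ≠ 1 →
      (y * c * y⁻¹) * g = g * (y * c * y⁻¹) → y * g = g * y := by
    intro g hg y c hcg hc h
    have hc' : y * c * y⁻¹ ≠ 1 := by
      intro h1
      apply hc
      have : c = y⁻¹ * (y * c * y⁻¹) * y := by group
      rw [this, h1]; group
    have h1 := hPeq g hg c hc hcg
    have h2 := hPeq g hg _ hc' h
    rw [hco g hg]
    apply hpt g hg
    intro x hx
    have hx1 : x ∈ fixedBy X c := by rw [h1]; exact hx
    rw [← h2, mem_fixedBy, ← mul_smul]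
    have : y * c * y⁻¹ * y = y * c := by group
    rw [this, mul_smul, hx1]
  have hnorm : ∀ g : A, g ≠ 1 →
      Subgroup.normalizer ((Subgroup.centralizer ({g} : Set A) : Subgroup A) : Set A) =
        Subgroup.centralizer ({g} : Set A) := by
    intro g hg
    apply le_antisymm
    · intro y hy
      have h1 := (Subgroup.mem_normalizer_iff.1 hy g).1 (Subgroup.mem_centralizer_singleton_iff.2 rfl)
      rw [Subgroup.mem_centralizer_singleton_iff] at h1 ⊢
      exact hTI g hg y g rfl hg h1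
    · exact Subgroup.le_normalizer
  have htset : ∀ g : A, g ≠ 1 → Nat.card (tset (Subgroup.centralizer ({g} : Set A))) * k =
      Nat.card A * (k - 1) := by
    intro g hg
    have h1 := card_tset (Subgroup.centralizer ({g} : Set A)) (by
      intro y c hc hc1 h
      rw [hnorm g hg, Subgroup.mem_centralizer_singleton_iff]
      rw [Subgroup.mem_centralizer_singleton_iff] at hc h
      exact hTI g hg y c hc hc1 h)
    rwa [hnorm g hg, hcen g hg] at h1
  obtain ⟨g₁, hg₁⟩ := hnt
  have hApos : 0 < Nat.card A := Nat.card_pos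
  obtain ⟨d, rfl⟩ : ∃ d, k = d + 3 := ⟨k - 3, by omega⟩
  have ek : d + 3 - 1 = d + 2 := by omega
  have hcard1 : ({x : A | x ≠ 1}).ncard + 1 = Nat.card A := by
    have := Set.ncard_add_ncard_compl ({1} : Set A)
    rw [Set.ncard_singleton] at this
    have e : ({1} : Set A)ᶜ = {x : A | x ≠ 1} := by ext x; simp
    rw [e] at this
    omega
  by_cases hcov : ∀ g₂ : A, g₂ ≠ 1 → g₂ ∈ tset (Subgroup.centralizer ({g₁} : Set A))
  · have heq : tset (Subgroup.centralizer ({g₁} : Set A)) = {x : A | x ≠ 1} := by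
      apply Set.Subset.antisymm
      · intro x hx; exact hx.1
      · intro x hx; exact hcov x hx
    have h1 := htset g₁ hg₁
    rw [Nat.card_coe_set_eq, heq, ek] at h1
    obtain ⟨n, hn⟩ : ∃ n, Nat.card A = n + 1 := ⟨Nat.card A - 1, by omega⟩
    rw [hn] at hcard1 h1 ⊢
    have h2 : ({x : A | x ≠ 1}).ncard = n := by omega
    rw [h2] at h1
    nlinarith
  · exfalso
    push Not at hcov
    obtain ⟨g₂, hg₂, hnm⟩ := hcov
    have hdisj : Disjoint (tset (Subgroup.centralizer ({g₁} : Set A)))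
        (tset (Subgroup.centralizer ({g₂} : Set A))) := by
      rw [Set.disjoint_left]
      rintro z ⟨hz1, y₁, hy₁⟩ ⟨-, y₂, hy₂⟩
      rw [Subgroup.mem_centralizer_singleton_iff] at hy₁ hy₂
      apply hnm
      refine ⟨hg₂, y₂⁻¹ * y₁, ?_⟩
      rw [Subgroup.mem_centralizer_singleton_iff]
      have hne1 : y₁⁻¹ * z * y₁ ≠ 1 := by
        intro h
        apply hz1
        have : z = y₁ * (y₁⁻¹ * z * y₁) * y₁⁻¹ := by group
        rw [this, h]; group
      have hne2 : y₂⁻¹ * z * y₂ ≠ 1 := by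
        intro h
        apply hz1
        have : z = y₂ * (y₂⁻¹ * z * y₂) * y₂⁻¹ := by group
        rw [this, h]; group
      have hP1 := hPeq g₁ hg₁ _ hne1 hy₁
      have hP2 := hPeq g₂ hg₂ _ hne2 hy₂
      have hPz1 : ∀ x, x ∈ fixedBy X g₁ → y₁ • x ∈ fixedBy X z := by
        intro x hx
        rw [← hP1, mem_fixedBy] at hx
        rw [mem_fixedBy]
        have h5 : z • y₁ • x = y₁ • (y₁⁻¹ * z * y₁) • x := by
          simp only [← mul_smul]; congr 1; group
        rw [h5, hx]
      have hPz2 : ∀ x, x ∈ fixedBy X z → y₂⁻¹ • x ∈ fixedBy X g₂ := by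
        intro x hx
        rw [← hP2, mem_fixedBy]
        have h5 : (y₂⁻¹ * z * y₂) • y₂⁻¹ • x = y₂⁻¹ • z • x := by
          simp only [← mul_smul]; congr 1; group
        rw [h5, hx]
      rw [hco g₁ hg₁]
      intro x hx
      have h6 := hPz2 _ (hPz1 x hx)
      have h7 : ((y₂⁻¹ * y₁)⁻¹ * g₂ * (y₂⁻¹ * y₁)) • x = (y₂⁻¹ * y₁)⁻¹ • g₂ • y₂⁻¹ • y₁ • x := by
        simp only [← mul_smul]; congr 1; group
      rw [h7, h6, ← mul_smul, ← mul_smul]
      have : (y₂⁻¹ * y₁)⁻¹ * y₂⁻¹ * y₁ = 1 := by group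
      rw [this, one_smul]
    have hle : (tset (Subgroup.centralizer ({g₁} : Set A))).ncard +
        (tset (Subgroup.centralizer ({g₂} : Set A))).ncard ≤ ({x : A | x ≠ 1}).ncard := by
      rw [← Set.ncard_union_eq hdisj]
      apply Set.ncard_le_ncard _ (Set.toFinite _)
      apply Set.union_subset
      · intro x hx; exact hx.1
      · intro x hx; exact hx.1
    have h1 := htset g₁ hg₁
    have h2 := htset g₂ hg₂
    rw [Nat.card_coe_set_eq, ek] at h1 h2
    generalize (tset (Subgroup.centralizer ({g₁} : Set A))).ncard = t₁ at *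
    generalize (tset (Subgroup.centralizer ({g₂} : Set A))).ncard = t₂ at *
    generalize Nat.card A = n at *
    have h3 : t₁ + t₂ + 1 ≤ n := by omega
    have h4 : (t₁ + t₂) * (d + 3) = 2 * (n * (d + 2)) := by rw [add_mul, h1, h2]; ring
    nlinarith

end Cfsg.Agent.H355.OddCount
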