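import Cfsg.Agent.H355.Prod
import Cfsg.Agent.CharactersDeep.FeitOddAux
import Cfsg.Agent.Blocks.CentralProduct

/-!
# The order formula (helper355)

With the exceptional characters `χ₊, χ₋` of `D`, `y` an involution of `N(D)` and `A = {a | a y a⁻¹ ∈ N(D)}`:
`|G| (χ₊(1) - χ₊(y))² |D| = |A|² χ₊(1) (1 + χ₊(1))`.
-/

set_option autoImplicit false
set_option linter.unusedSectionVars false

open Cfsg

namespace Cfsg.Agent.H355.Exc

open TIHall Characters.Core Blocks.SemiregularGram

universe u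

variable {G : Type u} [Group G] [Fintype G] {D : Subgroup G} {f : D →* ℂˣ} {χp χm : G → ℂ}

/-- the elements carrying `y` into `N(D)` -/
def AA (D : Subgroup G) (y : G) : Set G := {a | a * y * a⁻¹ ∈ Subgroup.normalizer (D : Set G)}

theorem apply_conj (hf : Inverted D f) {y : G} (hyN : y ∈ Subgroup.normalizer (D : Set G)) (hyD : y ∉ D) {d e : D}
    (h : (e : G) = y * d * y⁻¹) : f e = (f d)⁻¹ := by
  have h1 := hf y hyN hyD e d (by rw [h]; group)
  rw [h1, inv_inv]

theorem conj_left {H : Type*} [Group H] {u v : H} (hu : u⁻¹ = u) (hv : v⁻¹ = v) : u * (u * v) * u⁻¹ = (u * v)⁻¹ := by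
  rw [mul_inv_rev, hu, hv, ← mul_assoc u u v]
  have : u * u = 1 := by
    have := mul_inv_cancel u
    rwa [hu] at this
  rw [this, one_mul]

theorem conj_right {H : Type*} [Group H] {u v : H} (hu : u⁻¹ = u) (hv : v⁻¹ = v) :
    v⁻¹ * (u * v) * v⁻¹⁻¹ = (u * v)⁻¹ := by
  rw [mul_inv_rev, inv_inv, hu, hv]
  have : v * v = 1 := by
    have := mul_inv_cancel v
    rwa [hv] at this
  calc v * (u * v) * v = v * u * (v * v) := by group
    _ = _ := by rw [this, mul_one]

theorem mem_AA {D : Subgroup G} {y a : G} : a ∈ AA D y ↔ a * y * a⁻¹ ∈ Subgroup.normalizer (D : Set G) := Iff.rfl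

theorem order_formula (h : TIH D) (hP : Pair D f χp χm) (hf : Inverted D f) (hf1 : f ≠ 1) {y : G}
    (hyN : y ∈ Subgroup.normalizer (D : Set G)) (hyD : y ∉ D) (hy2 : orderOf y = 2) :
    (Nat.card G : ℂ) * (χp 1 - χp y) ^ 2 * Nat.card D =
      (Nat.card (AA D y) : ℂ) ^ 2 * (χp 1 * (1 + χp 1)) := by
  classical
  have hyy : y * y = 1 := by rw [← pow_two, ← hy2, pow_orderOf_eq_one]
  have hyi : y⁻¹ = y := inv_eq_of_mul_eq_one_left hyy
  have hy1 : y ≠ 1 := by
    rintro rfl
    rw [orderOf_one] at hy2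
    exact absurd hy2 (by decide)
  have hyout : ∀ x : G, x * y * x⁻¹ ∈ D → y = 1 := by
    intro x hx
    exfalso
    have h1 := h.odd_orderOf hx
    have h2 : orderOf (x * y * x⁻¹) = 2 := by
      rw [← hy2]
      exact (orderOf_injective (MulAut.conj x).toMonoidHom (MulAut.conj x).injective y)
    rw [h2] at h1
    exact absurd h1 (by decide)
  have hsum := hP.sum_phi hyout hyout
  have hD0 : (Nat.card D : ℂ) ≠ 0 := Nat.cast_ne_zero.2 Nat.card_pos.ne'
  have hp0 : χp 1 ≠ 0 := isIrr_apply_one_ne_zero hP.irrp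
  have hm0 : 1 + χp 1 ≠ 0 := by
    rw [← hP.eq_one]; exact isIrr_apply_one_ne_zero hP.irrm
  set θ : G → ℂ := extendByZero D (1 - toFun f) with hθ
  -- the double sum
  have h1 : ∑ a : G, phi D f (a * y * a⁻¹ * y) =
      (Nat.card D : ℂ)⁻¹ * ∑ b : G, ∑ a : G, θ ((a * y * a⁻¹) * (b * y * b⁻¹)) := by
    have h2 : ∀ g : G, phi D f g = (Nat.card D : ℂ)⁻¹ * ∑ x : G, θ (x⁻¹ * g * x) := by
      intro g
      unfold phi
      rw [indFun_def]
    simp_rw [h2]
    rw [← Finset.mul_sum, Finset.sum_comm]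
    congr 1
    rw [← Equiv.sum_comp (Equiv.inv G)]
    refine Finset.sum_congr rfl fun b _ => ?_
    rw [← Equiv.sum_comp (Equiv.mulLeft b⁻¹)]
    refine Finset.sum_congr rfl fun a _ => ?_
    congr 1
    simp only [Equiv.coe_mulLeft, Equiv.inv_apply]
    group
  -- the terms
  have hinv : ∀ a : G, (a * y * a⁻¹)⁻¹ = a * y * a⁻¹ := by
    intro a
    rw [mul_inv_rev, mul_inv_rev, inv_inv, hyi]; group
  have hterm : ∀ a b : G, θ ((a * y * a⁻¹) * (b * y * b⁻¹)) =
      if a ∈ AA D y ∧ b ∈ AA D y then θ ((a * y * a⁻¹) * (b * y * b⁻¹)) else 0 := by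
    intro a b
    split_ifs with hab
    · rfl
    · by_cases hD : (a * y * a⁻¹) * (b * y * b⁻¹) ∈ D
      · have h1' : (a * y * a⁻¹) * (b * y * b⁻¹) = 1 := by
          by_contra hne
          apply hab
          constructor
          · have h3 : (a * y * a⁻¹) * ((a * y * a⁻¹) * (b * y * b⁻¹)) * (a * y * a⁻¹)⁻¹ ∈ D := by
              have h4 := conj_left (hinv a) (hinv b)
              rw [h4]
              exact inv_mem hD
            exact h.ti _ _ hD hne h3
          · have h3 : (b * y * b⁻¹)⁻¹ * ((a * y * a⁻¹) * (b * y * b⁻¹)) * (b * y * b⁻¹)⁻¹⁻¹ ∈ D := by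
              have h4 := conj_right (hinv a) (hinv b)
              rw [h4]
              exact inv_mem hD
            have h5 := h.ti _ _ hD hne h3
            rwa [hinv b] at h5
        rw [h1', hθ, Characters.Core.extendByZero_of_mem D _ (one_mem D)]
        exact theta_one f
      · exact Characters.Core.extendByZero_of_notMem D _ hD
  -- on `A`
  have hyA : ∀ a ∈ AA D y, a * y * a⁻¹ ∈ Subgroup.normalizer (D : Set G) ∧ a * y * a⁻¹ ∉ D := by
    intro a ha
    exact ⟨ha, fun h2 => hy1 (hyout a h2)⟩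
  have hmy : ∀ a ∈ AA D y, (a * y * a⁻¹) * y ∈ D := fun a ha =>
    h.mul_mem_of_notMem (hyA a ha).1 (hyA a ha).2 hyN hyD
  have hym : ∀ a ∈ AA D y, y * (a * y * a⁻¹) ∈ D := fun a ha =>
    h.mul_mem_of_notMem hyN hyD (hyA a ha).1 (hyA a ha).2
  -- the two factors
  set F1 : G → ℂ := fun a => if ha : a ∈ AA D y then (f ⟨_, hmy a ha⟩ : ℂ) else 0 with hF1
  set F2 : G → ℂ := fun a => if ha : a ∈ AA D y then (f ⟨_, hym a ha⟩ : ℂ) else 0 with hF2
  have hprod : ∀ a b : G, θ ((a * y * a⁻¹) * (b * y * b⁻¹)) =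
      (if a ∈ AA D y then 1 else 0) * (if b ∈ AA D y then 1 else 0) - F1 a * F2 b := by
    intro a b
    rw [hterm]
    by_cases ha : a ∈ AA D y
    · by_cases hb : b ∈ AA D y
      · rw [if_pos ⟨ha, hb⟩, if_pos ha, if_pos hb, one_mul]
        have hD : (a * y * a⁻¹) * (b * y * b⁻¹) ∈ D :=
          h.mul_mem_of_notMem (hyA a ha).1 (hyA a ha).2 (hyA b hb).1 (hyA b hb).2
        rw [hθ, Characters.Core.extendByZero_of_mem D _ hD, Pi.sub_apply, Pi.one_apply]
        congr 1
        simp only [hF1, hF2, dif_pos ha, dif_pos hb]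
        have h3 : (⟨(a * y * a⁻¹) * (b * y * b⁻¹), hD⟩ : D) = ⟨_, hmy a ha⟩ * ⟨_, hym b hb⟩ := by
          apply Subtype.ext
          show (a * y * a⁻¹) * (b * y * b⁻¹) = (a * y * a⁻¹) * y * (y * (b * y * b⁻¹))
          rw [mul_assoc (a * y * a⁻¹) y, ← mul_assoc y y, hyy, one_mul]
        rw [h3, toFun_apply, map_mul]
        simp
      · rw [if_neg (fun h3 => hb h3.2), if_neg hb, mul_zero]
        simp only [hF2, dif_neg hb, mul_zero, sub_zero]
    · rw [if_neg (fun h3 => ha h3.1), if_neg ha, zero_mul]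
      simp only [hF1, dif_neg ha, zero_mul, sub_zero]
  -- the sum of `F1` is zero
  have hz : ∃ d : D, (f d : ℂ) * f d ≠ 1 := by
    by_contra hcon
    push Not at hcon
    refine ne_inv_self h hf1 ?_
    ext d
    have h3 := hcon d
    show (f d : ℂ) = ((f d)⁻¹ : ℂˣ)
    rw [Units.val_inv_eq_inv_val]
    exact eq_inv_of_mul_eq_one_left h3
  have hF0 : ∑ a : G, F1 a = 0 := by
    obtain ⟨d, hd⟩ := hz
    have h3 : ∀ a : G, F1 ((d : G) * a) = (f d : ℂ) * f d * F1 a := by
      intro a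
      have hiff : (d : G) * a ∈ AA D y ↔ a ∈ AA D y := by
        rw [mem_AA, mem_AA]
        have h4 : (d : G) * a * y * ((d : G) * a)⁻¹ = d * (a * y * a⁻¹) * (d : G)⁻¹ := by group
        rw [h4]
        have hdN := h.le_normalizer d.2
        constructor
        · intro h5
          have h6 := mul_mem (mul_mem (inv_mem hdN) h5) hdN
          have h7 : (d : G)⁻¹ * (d * (a * y * a⁻¹) * (d : G)⁻¹) * d = a * y * a⁻¹ := by group
          rwa [h7] at h6
        · intro h5
          exact mul_mem (mul_mem hdN h5) (inv_mem hdN)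
      by_cases ha : a ∈ AA D y
      · have ha' := hiff.2 ha
        simp only [hF1, dif_pos ha, dif_pos ha']
        have hyd : y * (d : G)⁻¹ * y⁻¹ ∈ D := (Subgroup.mem_normalizer_iff.1 hyN _).1 (inv_mem d.2)
        have h4 : (⟨_, hmy _ ha'⟩ : D) = d * ⟨_, hmy a ha⟩ * ⟨_, hyd⟩ := by
          apply Subtype.ext
          show (d : G) * a * y * ((d : G) * a)⁻¹ * y = d * (a * y * a⁻¹ * y) * (y * (d : G)⁻¹ * y⁻¹)
          rw [hyi]
          have h5 : (d : G) * (a * y * a⁻¹ * y) * (y * (d : G)⁻¹ * y) = d * (a * y * a⁻¹) * (y * y) * (d : G)⁻¹ * y := by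
            group
          rw [h5, hyy]
          group
        have h6 : f ⟨_, hyd⟩ = (f d⁻¹)⁻¹ := apply_conj (d := d⁻¹) hf hyN hyD (by simp)
        rw [h4, map_mul, map_mul, h6, map_inv, inv_inv]
        push_cast
        ring
      · have ha' := fun h5 => ha (hiff.1 h5)
        simp only [hF1, dif_neg ha, dif_neg ha', mul_zero]
    have h4 : ∑ a : G, F1 a = (f d : ℂ) * f d * ∑ a : G, F1 a := by
      conv_lhs => rw [← Equiv.sum_comp (Equiv.mulLeft (d : G))]
      rw [Finset.mul_sum]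
      exact Finset.sum_congr rfl fun a _ => h3 a
    by_contra hne
    apply hd
    have h5 := mul_right_cancel₀ hne ((one_mul _).trans h4)
    exact h5.symm
  have hcardA : ∑ a : G, (if a ∈ AA D y then (1 : ℂ) else 0) = Nat.card (AA D y) := by
    rw [Finset.sum_boole, Nat.card_eq_fintype_card, Fintype.card_subtype]
  have h2 : ∑ b : G, ∑ a : G, θ ((a * y * a⁻¹) * (b * y * b⁻¹)) = (Nat.card (AA D y) : ℂ) ^ 2 := by
    simp_rw [hprod]
    have h3 : ∀ b : G, ∑ a : G, ((if a ∈ AA D y then (1 : ℂ) else 0) * (if b ∈ AA D y then 1 else 0) - F1 a * F2 b) =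
        (Nat.card (AA D y) : ℂ) * (if b ∈ AA D y then 1 else 0) := by
      intro b
      rw [Finset.sum_sub_distrib, ← Finset.sum_mul, ← Finset.sum_mul, hF0, zero_mul, sub_zero, hcardA]
    simp_rw [h3]
    rw [← Finset.mul_sum, hcardA, pow_two]
  rw [h1, h2] at hsum
  rw [eq_div_iff (mul_ne_zero hp0 hm0)] at hsum
  field_simp at hsum
  linear_combination -hsum

end Cfsg.Agent.H355.Exc
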