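import Cfsg.Agent.H355.SzEven
import Cfsg.Agent.H355.FocalTwo
import Cfsg.Agent.TwoFusion.MaxClass
import Cfsg.Prelude.Def_Solvable

/-!
# Sylow 2-subgroups of transitive groups of fixity two
-/

set_option autoImplicit false
set_option linter.unusedSectionVars false

namespace Cfsg.Agent.H355.SylowTwo

open MulAction Subgroup

variable {G : Type*} [Group G] [Finite G] {Ω : Type*} [Finite Ω] [MulAction G Ω]

theorem mem_inf_stab {S : Subgroup G} {α : Ω} {g : G} :
    g ∈ S ⊓ stabilizer G α ↔ g ∈ S ∧ g • α = α := by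
  rw [Subgroup.mem_inf, mem_stabilizer_iff]

/-- Basic configuration: if `1 ≠ S_α ≠ S` then some `x ∈ S` moves `α` to a point `β` with
`S_α` fixing `β`. -/
theorem exists_beta {S : Subgroup G} (hS : IsPGroup 2 S) {α : Ω} (hSα : ¬ S ≤ stabilizer G α) :
    ∃ x ∈ S, x • α ≠ α ∧ (∀ p ∈ S, p • α = α → p • x • α = x • α) := by
  have : Fact (Nat.Prime 2) := ⟨Nat.prime_two⟩
  by_contra hcon
  push Not at hcon
  apply hSα
  apply le_stabilizer_of_normalizer hS α
  intro x hxS hx
  by_contra hne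
  obtain ⟨p, hpS, hp1, hp2⟩ := hcon x hxS hne
  exact hp2 (smul_smul_eq_of_mem_normalizer (D := S ⊓ stabilizer G α) inf_le_right hx ⟨hpS, hp1⟩)

theorem fixed_eq (hfix : ∀ g : G, g ≠ 1 → Nat.card (fixedBy Ω g) ≤ 2) {α β : Ω} (hαβ : α ≠ β)
    {g : G} (hg : g ≠ 1) (h1 : g • α = α) (h2 : g • β = β) {γ : Ω} (h3 : g • γ = γ) :
    γ = α ∨ γ = β := by
  by_contra hcon
  push Not at hcon
  have hsub : ({α, β, γ} : Set Ω) ⊆ fixedBy Ω g := by
    rintro z (rfl | rfl | rfl)
    · exact h1
    · exact h2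
    · exact h3
  have h5 := Set.ncard_le_ncard hsub (Set.toFinite _)
  have h6 : ({α, β, γ} : Set Ω).ncard = 3 := by
    rw [Set.ncard_eq_three]
    exact ⟨α, β, γ, hαβ, hcon.1.symm, hcon.2.symm, rfl⟩
  have := hfix g hg
  rw [Nat.card_coe_set_eq] at this
  omega

/-- **Step B**: if `1 ≠ S_α` has index different from one and two in `S`
then `S` is dihedral or quasidihedral and `|S_α| = 2`. -/
theorem step_b (hfix : ∀ g : G, g ≠ 1 → Nat.card (fixedBy Ω g) ≤ 2) {S : Subgroup G}
    (hS : IsPGroup 2 S) {α : Ω} (hSα : ¬ S ≤ stabilizer G α) (hne : S ⊓ stabilizer G α ≠ ⊥)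
    (hidx : (S ⊓ stabilizer G α).relIndex S ≠ 2) :
    ((∃ n : ℕ, Nonempty (↥S ≃* DihedralGroup n)) ∨ Cfsg.IsQuasiDihedral ↥S) ∧
      Nat.card ↥(S ⊓ stabilizer G α) = 2 := by
  classical
  have : Fact (Nat.Prime 2) := ⟨Nat.prime_two⟩
  obtain ⟨x, hxS, hxα, hxfix⟩ := exists_beta hS hSα
  set β := x • α with hβ
  set P := S ⊓ stabilizer G α with hP
  have hαβ : α ≠ β := fun h => hxα h.symm
  obtain ⟨p₀, hp₀⟩ : ∃ p ∈ P, p ≠ 1 := by
    by_contra hcon
    push Not at hcon
    apply hne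
    rw [eq_bot_iff]
    intro p hp
    exact hcon p hp
  -- the setwise stabilizer of `{α, β}` in `S`
  let T : Subgroup G :=
    { carrier := {s | s ∈ S ∧ (s • α = α ∨ s • α = β) ∧ (s • β = α ∨ s • β = β)}
      mul_mem' := by
        rintro a b ⟨haS, ha1, ha2⟩ ⟨hbS, hb1, hb2⟩
        refine ⟨S.mul_mem haS hbS, ?_, ?_⟩
        · rw [mul_smul]
          rcases hb1 with h | h <;> rw [h] <;> tauto
        · rw [mul_smul]
          rcases hb2 with h | h <;> rw [h] <;> tauto
      one_mem' := ⟨S.one_mem, Or.inl (one_smul _ _), Or.inr (one_smul _ _)⟩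
      inv_mem' := by
        rintro a ⟨haS, ha1, ha2⟩
        have hne : a • α ≠ a • β := fun h => hαβ (smul_left_cancel a h)
        refine ⟨S.inv_mem haS, ?_, ?_⟩
        · rw [inv_smul_eq_iff, inv_smul_eq_iff]
          rcases ha1 with h | h <;> rcases ha2 with h' | h'
          · exact absurd (h.trans h'.symm) hne
          · left; exact h.symm
          · right; exact h'.symm
          · exact absurd (h.trans h'.symm) hne
        · rw [inv_smul_eq_iff, inv_smul_eq_iff]
          rcases ha1 with h | h <;> rcases ha2 with h' | h'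
          · exact absurd (h.trans h'.symm) hne
          · right; exact h'.symm
          · left; exact h.symm
          · exact absurd (h.trans h'.symm) hne }
  have hmemT : ∀ s, s ∈ T ↔ s ∈ S ∧ (s • α = α ∨ s • α = β) ∧ (s • β = α ∨ s • β = β) := fun s => Iff.rfl
  have hTS : T ≤ S := fun s hs => hs.1
  have hPT : P ≤ T := by
    intro p hp
    have hp1 : p • α = α := hp.2
    exact ⟨hp.1, Or.inl hp1, Or.inr (hxfix p hp.1 hp1)⟩
  -- elements of `S` moving `α` into `{α, β}` lie in `T`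
  have hT' : ∀ s ∈ S, (s • α = α ∨ s • α = β) → s ∈ T := by
    intro s hs h
    rcases h with h | h
    · exact hPT ⟨hs, h⟩
    · -- `x⁻¹ s ∈ P`, it is enough that `x ∈ T`
      have hxT : x ∈ T := by
        refine ⟨hxS, Or.inr rfl, ?_⟩
        -- `x p₀ x⁻¹` fixes `β` and ...
        have h1 : (x⁻¹ * p₀ * x) • α = α := by
          rw [mul_smul, mul_smul, ← hβ, hxfix p₀ hp₀.1.1 hp₀.1.2, hβ, inv_smul_smul]
        have h1P : x⁻¹ * p₀ * x ∈ P := ⟨S.mul_mem (S.mul_mem (S.inv_mem hxS) hp₀.1.1) hxS, h1⟩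
        have h2 : (x⁻¹ * p₀ * x) • β = β := hxfix _ h1P.1 h1
        have h3 : p₀ • x • β = x • β := by
          have : p₀ • x • β = x • (x⁻¹ * p₀ * x) • β := by
            simp only [← mul_smul]; congr 1; group
          rw [this, h2]
        exact fixed_eq hfix hαβ hp₀.2 hp₀.1.2 (hxfix p₀ hp₀.1.1 hp₀.1.2) h3
      have h4 : x⁻¹ * s ∈ P := by
        refine ⟨S.mul_mem (S.inv_mem hxS) hs, ?_⟩
        show (x⁻¹ * s) • α = α
        rw [mul_smul, h, hβ, inv_smul_smul]
      have : s = x * (x⁻¹ * s) := by group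
      rw [this]
      exact T.mul_mem hxT (hPT h4)
  have hxT : x ∈ T := hT' x hxS (Or.inr rfl)
  -- `|T| = 2 |P|`
  have hTcard : Nat.card T = 2 * Nat.card P := by
    have h1 : P.relIndex T = 2 := by
      rw [Subgroup.relIndex, Subgroup.index_eq_two_iff]
      refine ⟨⟨x, hxT⟩, ?_⟩
      rintro ⟨b, hb⟩
      have e1 : ((⟨b, hb⟩ : T) * ⟨x, hxT⟩ ∈ P.subgroupOf T) ↔ (b * x) • α = α := by
        rw [mem_subgroupOf]
        constructor
        · intro h; exact h.2
        · intro h; exact ⟨S.mul_mem hb.1 hxS, h⟩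
      have e2 : ((⟨b, hb⟩ : T) ∈ P.subgroupOf T) ↔ b • α = α := by
        rw [mem_subgroupOf]
        constructor
        · intro h; exact h.2
        · intro h; exact ⟨hb.1, h⟩
      rw [e1, e2, mul_smul, ← hβ]
      have hne : b • α ≠ b • β := fun h => hαβ (smul_left_cancel b h)
      rcases hb.2.1 with h | h <;> rcases hb.2.2 with h' | h'
      · exact absurd (h.trans h'.symm) hne
      · right; exact ⟨h, by rw [h']; exact hαβ.symm⟩
      · left; exact ⟨h', by rw [h]; exact hαβ.symm⟩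
      · exact absurd (h.trans h'.symm) hne
    have := Subgroup.card_mul_index (P.subgroupOf T)
    rw [← Subgroup.relIndex, h1, Nat.card_congr (Subgroup.subgroupOfEquivOfLe hPT).toEquiv] at this
    omega
  -- `T < S`
  have hTne : T ≠ S := by
    intro h
    apply hidx
    have h1 := Subgroup.card_mul_index (P.subgroupOf S)
    rw [← Subgroup.relIndex, Nat.card_congr (Subgroup.subgroupOfEquivOfLe inf_le_left).toEquiv] at h1
    rw [h] at hTcard
    rw [hTcard] at h1
    have hpos : 0 < Nat.card P := Nat.card_pos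
    apply Nat.eq_of_mul_eq_mul_left hpos
    rw [h1]; ring
  -- an element normalizing `T`
  obtain ⟨g, hgS, hgT, hgN⟩ : ∃ g ∈ S, g ∉ T ∧ ∀ t ∈ T, g * t * g⁻¹ ∈ T := by
    have hnil : Group.IsNilpotent S := hS.isNilpotent
    have hlt : T.subgroupOf S < ⊤ := by
      rw [lt_top_iff_ne_top]
      intro htop
      rw [Subgroup.subgroupOf_eq_top] at htop
      exact hTne (le_antisymm hTS htop)
    have hnc := Group.normalizerCondition_of_isNilpotent (G := S) (T.subgroupOf S) hlt
    obtain ⟨g, hgN, hgD⟩ := Set.exists_of_ssubset hnc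
    refine ⟨g, g.2, fun h => hgD h, ?_⟩
    intro t ht
    exact (Subgroup.mem_normalizer_iff.1 hgN ⟨t, hTS ht⟩).1 ht
  -- `P ∩ g P g⁻¹ = 1`
  have hPg : ∀ p ∈ P, ∀ q ∈ P, p = g * q * g⁻¹ → p = 1 := by
    intro p hp q hq hpq
    by_contra hp1
    have h1 : p • g • α = g • α := by
      rw [hpq, mul_smul, mul_smul, inv_smul_smul, hq.2]
    have h2 := fixed_eq hfix hαβ hp1 hp.2 (hxfix p hp.1 hp.2) h1
    exact hgT (hT' g hgS h2)
  have hcardP : Nat.card P = 2 := by
    have h1 : Nat.card P * Nat.card P ≤ Nat.card T := by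
      rw [← Nat.card_prod]
      let f : P × P → T := fun z => ⟨z.1 * (g * z.2 * g⁻¹), T.mul_mem (hPT z.1.2) (hgN _ (hPT z.2.2))⟩
      apply Nat.card_le_card_of_injective f
      rintro ⟨a, b⟩ ⟨c, d⟩ h
      have h2 : (a : G) * (g * b * g⁻¹) = c * (g * d * g⁻¹) := congrArg Subtype.val h
      have h3 : (c : G)⁻¹ * a = g * (d * (b : G)⁻¹) * g⁻¹ := by
        have : (c : G)⁻¹ * (a * (g * b * g⁻¹)) * (g * b * g⁻¹)⁻¹ = g * (d * (b : G)⁻¹) * g⁻¹ := by
          rw [h2]; group
        rw [← this]; group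
      have h4 := hPg _ (P.mul_mem (P.inv_mem c.2) a.2) _ (P.mul_mem d.2 (P.inv_mem b.2)) h3
      have h5 : (a : G) = c := by
        rw [inv_mul_eq_one] at h4; exact h4.symm
      have h6 : (b : G) = d := by
        rw [h5] at h2
        have := mul_left_cancel h2
        exact mul_left_cancel (mul_right_cancel this)
      exact Prod.ext (Subtype.ext h5) (Subtype.ext h6)
    rw [hTcard] at h1
    have hpos : 0 < Nat.card P := Nat.card_pos
    have h2 : Nat.card P ≤ 2 := Nat.le_of_mul_le_mul_right h1 hpos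
    have h3 : Nat.card P ≠ 1 := by
      intro h
      exact hne (Subgroup.card_eq_one.1 h)
    omega
  refine ⟨?_, hcardP⟩
  -- the involution
  set t : S := ⟨p₀, hp₀.1.1⟩ with ht
  have hot : orderOf p₀ = 2 := by
    have h1 : orderOf (⟨p₀, hp₀.1⟩ : P) ∣ 2 := by
      rw [← hcardP]; exact orderOf_dvd_natCard _
    rw [← Subgroup.orderOf_coe] at h1
    rcases (Nat.dvd_prime Nat.prime_two).1 h1 with h | h
    · exact absurd (orderOf_eq_one_iff.1 h) hp₀.2
    · exact h
  have hPel : ∀ p ∈ P, p = 1 ∨ p = p₀ := by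
    intro p hp
    by_contra hcon
    push Not at hcon
    have h1 : ({1, p₀, p} : Set G) ⊆ (P : Set G) := by
      rintro z (rfl | rfl | rfl)
      · exact P.one_mem
      · exact hp₀.1
      · exact hp
    have h2 := Set.ncard_le_ncard h1 (Set.toFinite _)
    have h3 : ({1, p₀, p} : Set G).ncard = 3 := by
      rw [Set.ncard_eq_three]
      exact ⟨1, p₀, p, hp₀.2.symm, Ne.symm hcon.1, Ne.symm hcon.2, rfl⟩
    have h4 : (P : Set G).ncard = 2 := by rw [← Nat.card_coe_set_eq]; exact hcardP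
    omega
  have hCT : Subgroup.centralizer ({t} : Set S) = T.subgroupOf S := by
    apply le_antisymm
    · intro s hs
      rw [mem_centralizer_singleton_iff] at hs
      rw [mem_subgroupOf]
      have hs' : (s : G) * p₀ = p₀ * s := congrArg Subtype.val hs
      apply hT' _ s.2
      have h1 : p₀ • (s : G) • α = (s : G) • α := by
        rw [← mul_smul, ← hs', mul_smul, hp₀.1.2]
      exact fixed_eq hfix hαβ hp₀.2 hp₀.1.2 (hxfix p₀ hp₀.1.1 hp₀.1.2) h1
    · intro s hs
      rw [mem_subgroupOf] at hs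
      rw [mem_centralizer_singleton_iff]
      apply Subtype.ext
      show (s : G) * p₀ = p₀ * s
      have hβfix := hxfix p₀ hp₀.1.1 hp₀.1.2
      have hsp : (s : G) * p₀ * (s : G)⁻¹ ∈ P := by
        refine ⟨S.mul_mem (S.mul_mem s.2 hp₀.1.1) (S.inv_mem s.2), ?_⟩
        show ((s : G) * p₀ * (s : G)⁻¹) • α = α
        have h1 := T.inv_mem hs
        rw [mul_smul, mul_smul]
        rcases h1.2.1 with h | h
        · rw [h, hp₀.1.2]
          exact (inv_smul_eq_iff.1 h).symm
        · rw [h, hβfix]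
          exact (inv_smul_eq_iff.1 h).symm
      rcases hPel _ hsp with h | h
      · exfalso
        apply hp₀.2
        have : p₀ = (s : G)⁻¹ * ((s : G) * p₀ * (s : G)⁻¹) * s := by group
        rw [this, h]; group
      · calc (s : G) * p₀ = (s : G) * p₀ * (s : G)⁻¹ * s := by group
          _ = p₀ * s := by rw [h]
  have hT4 : Nat.card T = 4 := by rw [hTcard, hcardP]
  have hcard4 : Nat.card (Subgroup.centralizer ({t} : Set S)) = 4 := by
    rw [hCT, Nat.card_congr (Subgroup.subgroupOfEquivOfLe hTS).toEquiv, hT4]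
  have htc : t ∉ Subgroup.center S := by
    intro h
    rw [mem_center_iff] at h
    apply hgT
    have h1 : g * p₀ = p₀ * g := congrArg Subtype.val (h ⟨g, hgS⟩)
    apply hT' g hgS
    have h2 : p₀ • g • α = g • α := by
      rw [← mul_smul, ← h1, mul_smul, hp₀.1.2]
    exact fixed_eq hfix hαβ hp₀.2 hp₀.1.2 (hxfix p₀ hp₀.1.1 hp₀.1.2) h2
  have := Cfsg.Agent.TwoFusion.MaxClass.dihedral_or_qd_of_card_centralizer_eq_four hS t
    (by rw [← Subgroup.orderOf_coe]; exact hot) htc hcard4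
  rcases this with ⟨m, -, h⟩ | h
  · exact Or.inl ⟨m, h⟩
  · exact Or.inr h

end Cfsg.Agent.H355.SylowTwo
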