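import Cfsg.Agent.H355.SzOdd
import Cfsg.Agent.H355.OddCount
import Cfsg.Agent.S0324

/-!
# Fixity two actions of the Suzuki groups
-/

set_option autoImplicit false

namespace Cfsg.Agent.H355.SzFix

open Cfsg Cfsg.Agent.LieExceptional Cfsg.Agent.LieExceptional.SuzukiBasic
open Cfsg.Agent.LieExceptional.SuzukiSylow MulAction Cfsg.Agent.H355.SzEven Cfsg.Agent.H355.SzOdd
open Cfsg.Agent.LieExceptional.SuzukiTori Cfsg.Agent.LieExceptional.SuzukiTori.Hyp

variable {F : Type*} [Field F] [Fintype F] {m : ℕ}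

/-- the point at infinity of the ovoid -/
def inf (F : Type*) [Field F] (m : ℕ) : suzukiOvoid F m :=
  ⟨suzukiPointInfinity F, infinity_mem_ovoid m⟩

/-- the zero point of the ovoid -/
def zer (F : Type*) [Field F] (m : ℕ) : suzukiOvoid F m :=
  ⟨suzukiPointZero F, zero_mem_ovoid m⟩

theorem inf_ne_zer : inf F m ≠ zer F m := fun h => zero_ne_infinity (congrArg Subtype.val h).symm

theorem hh_smul_inf (hF : Fintype.card F = 2 ^ (2 * m + 1)) (k : Fˣ) : hh hF k • inf F m = inf F m :=
  Subtype.ext (H_smul_infinity k)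

theorem hh_smul_zer (hF : Fintype.card F = 2 ^ (2 * m + 1)) (k : Fˣ) : hh hF k • zer F m = zer F m :=
  Subtype.ext (H_smul_zero hF k)

theorem eq_hh (hm : 1 ≤ m) (hF : Fintype.card F = 2 ^ (2 * m + 1)) {g : Sz F m}
    (h1 : g • inf F m = inf F m) (h0 : g • zer F m = zer F m) : ∃ k, g = hh hF k := by
  obtain ⟨k, hk⟩ := eq_H_of_fix_two hm hF g.2 (congrArg Subtype.val h1) (congrArg Subtype.val h0)
  exact ⟨k, Subtype.ext hk⟩

/-- **Odd case** -/
theorem odd_case (hm : 1 ≤ m) (hF : Fintype.card F = 2 ^ (2 * m + 1)) {Ω : Type*} [Finite Ω]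
    [MulAction (Sz F m) Ω]
    (hfix : ∀ g : Sz F m, g ≠ 1 → Nat.card (fixedBy Ω g) ≤ 2) (α : Ω)
    (hodd : ¬ 2 ∣ Nat.card (stabilizer (Sz F m) α)) (hne : ∃ g : Sz F m, g ≠ 1 ∧ g • α = α) :
    Nat.card (stabilizer (Sz F m) α) = 2 ^ (2 * m + 1) - 1 := by
  classical
  have : Finite (suzukiOvoid F m) := Finite.of_equiv _ (SuzukiBasic.ovoidEquiv F m)
  have HH := SuzukiHyp.hyp hm hF
  have hoddA : Odd (Nat.card (stabilizer (Sz F m) α)) := by
    rw [← Nat.not_even_iff_odd, even_iff_two_dvd]; exact hodd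
  have hor : ∀ g : stabilizer (Sz F m) α, Odd (orderOf (g : Sz F m)) := fun g => by
    rw [Subgroup.orderOf_coe]
    exact hoddA.of_dvd_nat (orderOf_dvd_natCard g)
  have hne1 : ∀ g : stabilizer (Sz F m) α, g ≠ 1 → (g : Sz F m) ≠ 1 := fun g hg h =>
    hg (Subtype.ext h)
  -- nonidentity elements have exactly two fixed points on the ovoid
  have h2 : ∀ g : stabilizer (Sz F m) α, g ≠ 1 → (fixedBy (suzukiOvoid F m) g).ncard = 2 := by
    intro g hg
    have h3 := card_fixedBy_eq_two HH (hne1 g hg) (hor g) (not_free HH hfix hodd (hne1 g hg) g.2)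
    rw [← Nat.card_coe_set_eq]
    exact h3
  have hpair : ∀ g : stabilizer (Sz F m) α, g ≠ 1 → ∃ s : Sz F m,
      fixedBy (suzukiOvoid F m) g = {s • inf F m, s • zer F m} := by
    intro g hg
    obtain ⟨x, y, hxy, hP⟩ := Set.ncard_eq_two.1 (h2 g hg)
    obtain ⟨s, hs1, hs2⟩ := (is_two_pretransitive_iff (G := Sz F m) (α := suzukiOvoid F m)).1
      (two_pretransitive hF) (inf_ne_zer (F := F) (m := m)) hxy
    exact ⟨s, by rw [hP, hs1, hs2]⟩
  have hconj : ∀ (s a : Sz F m), a • s • inf F m = s • inf F m → a • s • zer F m = s • zer F m →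
      ∃ k, a = s * hh hF k * s⁻¹ := by
    intro s a ha1 ha2
    obtain ⟨k, hk⟩ := eq_hh hm hF (g := s⁻¹ * a * s) (by rw [mul_smul, mul_smul, ha1, inv_smul_smul])
      (by rw [mul_smul, mul_smul, ha2, inv_smul_smul])
    refine ⟨k, ?_⟩
    rw [← hk]; group
  have hcomm : ∀ (s : Sz F m) (k l : Fˣ), (s * hh hF k * s⁻¹) * (s * hh hF l * s⁻¹) =
      (s * hh hF l * s⁻¹) * (s * hh hF k * s⁻¹) := by
    intro s k l
    have e1 : (s * hh hF k * s⁻¹) * (s * hh hF l * s⁻¹) = s * (hh hF k * hh hF l) * s⁻¹ := by group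
    have e2 : (s * hh hF l * s⁻¹) * (s * hh hF k * s⁻¹) = s * (hh hF l * hh hF k) * s⁻¹ := by group
    rw [e1, e2, hh_mul, hh_mul, mul_comm]
  have hab : ∀ g a : stabilizer (Sz F m) α, g ≠ 1 →
      (∀ x ∈ fixedBy (suzukiOvoid F m) g, a • x = x) → a * g = g * a := by
    intro g a hg ha
    obtain ⟨s, hs⟩ := hpair g hg
    have g1 : s • inf F m ∈ fixedBy (suzukiOvoid F m) g := by rw [hs]; simp
    have g2 : s • zer F m ∈ fixedBy (suzukiOvoid F m) g := by rw [hs]; simp
    obtain ⟨k, hk⟩ := hconj s (g : Sz F m) g1 g2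
    obtain ⟨l, hl⟩ := hconj s (a : Sz F m) (ha _ g1) (ha _ g2)
    apply Subtype.ext
    show (a : Sz F m) * g = g * a
    rw [hk, hl]
    exact hcomm s l k
  have h8 : 2 ^ 3 ≤ 2 ^ (2 * m + 1) := Nat.pow_le_pow_right (by norm_num) (by omega)
  refine OddCount.card_eq hoddA h2 hab (by omega) ?_ ?_
  · intro g hg
    obtain ⟨s, hs⟩ := hpair g hg
    have g1 : s • inf F m ∈ fixedBy (suzukiOvoid F m) g := by rw [hs]; simp
    have g2 : s • zer F m ∈ fixedBy (suzukiOvoid F m) g := by rw [hs]; simp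
    obtain ⟨k, hk⟩ := hconj s (g : Sz F m) g1 g2
    set Y : Set Ω := fixedBy Ω (g : Sz F m) with hY
    have hYfin : Y.Finite := Set.toFinite _
    have hYc : Y.ncard ≤ 2 := by rw [← Nat.card_coe_set_eq]; exact hfix g (hne1 g hg)
    have hmem : ∀ l : Fˣ, s * hh hF l * s⁻¹ ∈ stabilizer (Sz F m) α := by
      intro l
      rw [mem_stabilizer_iff]
      refine odd_smul_eq hYfin hYc ?_ ?_ (a := α) g.2
      · have : orderOf (s * hh hF l * s⁻¹) = orderOf (hh hF l) := by
          have := orderOf_injective (MulAut.conj s).toMonoidHom (MulAut.conj s).injective (hh hF l)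
          exact this
        rw [this]
        exact odd_orderOf_hh hF l
      · intro a ha
        have h5 : (g : Sz F m) * (s * hh hF l * s⁻¹) = (s * hh hF l * s⁻¹) * g := by
          rw [hk]; exact hcomm s k l
        rw [hY, mem_fixedBy, ← mul_smul, h5, mul_smul, ha]
    let f : Fˣ → Subgroup.centralizer ({g} : Set (stabilizer (Sz F m) α)) := fun l =>
      ⟨⟨s * hh hF l * s⁻¹, hmem l⟩, by
        rw [Subgroup.mem_centralizer_singleton_iff]
        apply Subtype.ext
        show (s * hh hF l * s⁻¹) * (g : Sz F m) = g * (s * hh hF l * s⁻¹)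
        rw [hk]; exact hcomm s l k⟩
    have hf : Function.Bijective f := by
      constructor
      · intro l l' hll
        have h6 : s * hh hF l * s⁻¹ = s * hh hF l' * s⁻¹ :=
          congrArg (fun z : Subgroup.centralizer ({g} : Set (stabilizer (Sz F m) α)) =>
            ((z : stabilizer (Sz F m) α) : Sz F m)) hll
        have h7 : hh hF l = hh hF l' := mul_left_cancel (mul_right_cancel h6)
        exact (hh_eq_iff hF l l').1 h7
      · rintro ⟨a, ha⟩
        rw [Subgroup.mem_centralizer_singleton_iff] at ha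
        have ha' : ∀ x ∈ fixedBy (suzukiOvoid F m) g, a • x ∈ fixedBy (suzukiOvoid F m) g := by
          intro x hx
          rw [mem_fixedBy, ← mul_smul, ← ha, mul_smul, hx]
        have ha'' : ∀ x ∈ fixedBy (suzukiOvoid F m) g, a • x = x := fun x hx =>
          odd_smul_eq (Set.toFinite _) (h2 g hg).le (hoddA.of_dvd_nat (orderOf_dvd_natCard a)) ha' hx
        obtain ⟨l, hl⟩ := hconj s (a : Sz F m) (ha'' _ g1) (ha'' _ g2)
        refine ⟨l, ?_⟩
        apply Subtype.ext
        apply Subtype.ext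
        exact hl.symm
    rw [← Nat.card_congr (Equiv.ofBijective f hf), Nat.card_eq_fintype_card, Fintype.card_units, hF]
  · obtain ⟨g, hg1, hg⟩ := hne
    exact ⟨⟨g, hg⟩, fun h => hg1 (congrArg Subtype.val h)⟩

/-- **Fixity two actions of the Suzuki groups** (for the ovoid stabilizer). -/
theorem main (hm : 1 ≤ m) (hF : Fintype.card F = 2 ^ (2 * m + 1)) {Ω : Type*} [Finite Ω]
    [MulAction (Sz F m) Ω] [FaithfulSMul (Sz F m) Ω] (htr : IsPretransitive (Sz F m) Ω)
    (hfix : ∀ g : Sz F m, g ≠ 1 → Nat.card (fixedBy Ω g) ≤ 2)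
    (hex : ∃ g : Sz F m, g ≠ 1 ∧ Nat.card (fixedBy Ω g) = 2) :
    (Nat.card Ω = (2 ^ (2 * m + 1)) ^ 2 + 1 ∧ IsMultiplyPretransitive (Sz F m) Ω 2) ∨
    (Nat.card Ω = (2 ^ (2 * m + 1)) ^ 2 * ((2 ^ (2 * m + 1)) ^ 2 + 1) ∧
      ∀ α : Ω, Nat.card (stabilizer (Sz F m) α) = 2 ^ (2 * m + 1) - 1) := by
  classical
  have : Finite (suzukiOvoid F m) := Finite.of_equiv _ (SuzukiBasic.ovoidEquiv F m)
  have HH := SuzukiHyp.hyp hm hF
  by_cases hev : ∃ α : Ω, 2 ∣ Nat.card (stabilizer (Sz F m) α)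
  · left
    obtain ⟨α, hα⟩ := hev
    obtain ⟨β, hβ⟩ := even_case hm hF htr hfix α hα
    constructor
    · have h1 := (stabilizer (Sz F m) β).index_eq_card
      have h2 := index_stabilizer_of_transitive (Sz F m) β
      have htr' : IsPretransitive (Sz F m) (suzukiOvoid F m) := by
        have := HH.two
        exact isPretransitive_of_is_two_pretransitive
      have h3 := index_stabilizer_of_transitive (Sz F m) (inf F m)
      rw [← h2, hβ]
      rw [HH.card_set] at h3
      exact h3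
    · have hch : ∀ a : Ω, ∃ g : Sz F m, g • β = a := fun a => exists_smul_eq _ β a
      choose φ hφ using hch
      have hkey : ∀ g h : Sz F m, g • β = h • β ↔ g • inf F m = h • inf F m := by
        intro g h
        have e1 : g • β = h • β ↔ h⁻¹ * g ∈ stabilizer (Sz F m) β := by
          rw [mem_stabilizer_iff, mul_smul, inv_smul_eq_iff]
        have e2 : g • inf F m = h • inf F m ↔ h⁻¹ * g ∈ stabilizer (Sz F m) (inf F m) := by
          rw [mem_stabilizer_iff, mul_smul, inv_smul_eq_iff]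
        rw [e1, e2, hβ]
        rfl
      rw [is_two_pretransitive_iff]
      intro a b c d hab hcd
      have hab' : φ a • inf F m ≠ φ b • inf F m := by
        intro h
        rw [← hkey, hφ, hφ] at h
        exact hab h
      have hcd' : φ c • inf F m ≠ φ d • inf F m := by
        intro h
        rw [← hkey, hφ, hφ] at h
        exact hcd h
      obtain ⟨g, hg1, hg2⟩ := (is_two_pretransitive_iff (G := Sz F m) (α := suzukiOvoid F m)).1
        HH.two hab' hcd'
      refine ⟨g, ?_, ?_⟩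
      · rw [← mul_smul, ← hkey, mul_smul, hφ, hφ] at hg1
        exact hg1
      · rw [← mul_smul, ← hkey, mul_smul, hφ, hφ] at hg2
        exact hg2
  · right
    push Not at hev
    have hall : ∀ α : Ω, Nat.card (stabilizer (Sz F m) α) = 2 ^ (2 * m + 1) - 1 := by
      intro α
      apply odd_case hm hF hfix α (hev α)
      obtain ⟨g, hg1, hg2⟩ := hex
      have : Nonempty (fixedBy Ω g) := by
        rw [← Finite.card_pos_iff]; omega
      obtain ⟨β, hβ⟩ := this
      obtain ⟨s, hs⟩ := exists_smul_eq (Sz F m) β α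
      refine ⟨s * g * s⁻¹, ?_, ?_⟩
      · intro h
        apply hg1
        have : g = s⁻¹ * (s * g * s⁻¹) * s := by group
        rw [this, h]; group
      · rw [← hs, ← mul_smul, inv_mul_cancel_right, mul_smul, hβ]
    refine ⟨?_, hall⟩
    obtain ⟨g, hg1, hg2⟩ := hex
    have : Nonempty (fixedBy Ω g) := by
      rw [← Finite.card_pos_iff]; omega
    obtain ⟨β, hβ⟩ := this
    have h1 := (stabilizer (Sz F m) β).card_mul_index
    rw [index_stabilizer_of_transitive, hall, HH.card_group] at h1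
    have h8 : 2 ^ 3 ≤ 2 ^ (2 * m + 1) := Nat.pow_le_pow_right (by norm_num) (by omega)
    have hpos : 0 < 2 ^ (2 * m + 1) - 1 := by omega
    apply Nat.eq_of_mul_eq_mul_left hpos
    rw [h1]
    ring

end Cfsg.Agent.H355.SzFix
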