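import Cfsg.Agent.H355.Numer
import Cfsg.Agent.S0157

/-!
# Two-transitive actions with a point stabilizer avoiding `D` (helper355)
-/

set_option autoImplicit false
set_option linter.unusedSectionVars false

open scoped ComplexConjugate
open Cfsg

namespace Cfsg.Agent.H355.Exc

open TIHall Characters.Core

universe u

variable {G : Type u} [Group G] {D : Subgroup G}

/-- If `G` acts two-transitively on `X` and no element of `D` besides `1` has a fixed point then `|X| - 2` divides
`|G|`. -/
theorem sub_two_dvd [Finite G] [IsSimpleGroup G] (hG : ¬ IsMulCommutative G) (hD : TIH D)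
    (hDs : commutator D ≠ ⊤) {X : Type*} [MulAction G X] [Finite X] [MulAction.IsPretransitive G X]
    (hX : 3 ≤ Nat.card X) (h2 : MulAction.IsMultiplyPretransitive G X 2)
    (hfree : ∀ d ∈ D, d ≠ 1 → ∀ y : X, d • y ≠ y) : Nat.card X - 2 ∣ Nat.card G := by
  classical
  have := Fintype.ofFinite G
  obtain ⟨f, χp, χm, hf1, hf, hP⟩ := exists_pair hG hD hDs
  set St : G → ℂ := fun g => (Nat.card (MulAction.fixedBy X g) : ℂ) - 1 with hSt
  have hirr : IsIrrCharacter G St := (S0157.result X (by omega)).2 h2
  have hSt1 : St 1 = ((Nat.card X - 1 : ℕ) : ℂ) := by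
    have h3 : Nat.card (MulAction.fixedBy X (1 : G)) = Nat.card X := by
      have h4 : MulAction.fixedBy X (1 : G) = Set.univ := by
        ext x
        simp
      rw [h4]
      exact Nat.card_congr (Equiv.Set.univ X)
    rw [hSt]
    simp only
    rw [h3, Nat.cast_sub (by omega)]
    simp
  have hStne : St ≠ 1 := by
    intro h3
    have h4 : classInner (1 : G → ℂ) 1 = 1 := classInner_irr_self isIrr_one
    -- a fixed point free element of `D`
    obtain ⟨d, hd, hd1⟩ := hD.exists_ne_one
    have h5 := congrFun h3 d
    have h6 : Nat.card (MulAction.fixedBy X d) = 0 := by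
      rw [Nat.card_eq_zero]
      left
      exact ⟨fun y => hfree d hd hd1 y.1 y.2⟩
    rw [hSt] at h5
    simp only [h6, Pi.one_apply, Nat.cast_zero] at h5
    norm_num at h5
  have h0 : classInner (phi D f) (1 + St) = 0 := by
    rw [classInner_def, Finset.sum_eq_zero, mul_zero]
    intro g _
    by_cases hg : ∀ x : G, x * g * x⁻¹ ∈ D → g = 1
    · rw [phi_eq_zero f hg, zero_mul]
    · push Not at hg
      obtain ⟨x, hx, hx1⟩ := hg
      have h6 : Nat.card (MulAction.fixedBy X g) = 0 := by
        rw [Nat.card_eq_zero]
        left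
        refine ⟨fun y => hfree _ hx ?_ (x • y.1) ?_⟩
        · intro h7
          exact hx1 ((MulAut.conj x).injective (by rw [map_one]; exact h7))
        · rw [← mul_smul, inv_mul_cancel_right, mul_smul]
          congr 1
          exact y.2
      have h7 : (1 + St) g = 0 := by
        rw [Pi.add_apply, hSt, Pi.one_apply]
        simp only [h6, Nat.cast_zero]
        norm_num
      rw [h7, map_zero, mul_zero]
  rw [hP.eq, classInner_add_right, classInner_sub_left, classInner_add_left, classInner_irr_self isIrr_one,
    classInner_irr_ne hP.irrp isIrr_one hP.nep, classInner_irr_ne hP.irrm isIrr_one hP.nem, classInner_sub_left,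
    classInner_add_left, classInner_irr_ne isIrr_one hirr (Ne.symm hStne)] at h0
  have hm : χm = St := by
    by_contra h3
    rw [classInner_irr_ne hP.irrm hirr h3] at h0
    by_cases h4 : χp = St
    · rw [h4, classInner_irr_self hirr] at h0
      norm_num at h0
    · rw [classInner_irr_ne hP.irrp hirr h4] at h0
      norm_num at h0
  obtain ⟨a, ha0, ha⟩ := isIrr_apply_one hP.irrp
  have h3 := Blocks.CentralProduct.degree_dvd_card hP.irrp ha
  have h4 := hP.eq_one
  rw [hm, hSt1, ha] at h4
  have h5 : Nat.card X - 1 = 1 + a := by exact_mod_cast h4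
  have h6 : a = Nat.card X - 2 := by omega
  rwa [h6] at h3

end Cfsg.Agent.H355.Exc
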